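import Cfsg.Agent.H8.J1B

/-! Counting involutions. -/

set_option autoImplicit false

namespace Cfsg.Agent.H8.J1

open Subgroup

variable {G : Type*} [Group G] {ι : Q →* G} {s : G}

theorem nI_conj (x g : G) : nI (g⁻¹ * x * g) = nI x := by
  refine Nat.card_congr ((MulAut.conj g).toEquiv.subtypeEquiv fun u => ?_)
  change _ ↔ (MulAut.conj g u * MulAut.conj g u = 1 ∧ MulAut.conj g u ≠ 1) ∧
    MulAut.conj g u * x = x * MulAut.conj g u
  conv_rhs => rw [show x = MulAut.conj g (g⁻¹ * x * g) by simp [mul_assoc]]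
  simp only [← map_mul, ne_eq, EmbeddingLike.map_eq_one_iff, EmbeddingLike.apply_eq_iff_eq]

theorem cent_t (B : Base ι) : centralizer {ι z0} = ι.range := by
  ext g
  rw [mem_centralizer_singleton_iff]
  refine ⟨B.cent g, ?_⟩
  rintro ⟨k, rfl⟩
  rw [← map_mul, ← map_mul, q_z]

theorem card_cent_t (B : Base ι) : Nat.card (centralizer {ι z0}) = 120 := by
  rw [cent_t B, ← Nat.card_congr (MonoidHom.ofInjective B.inj).toEquiv, card_Q]

theorem nI_t (B : Base ι) : nI (ι z0) = 31 := by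
  rw [← card_inv]
  refine (Nat.card_congr (Equiv.ofBijective (fun d : {q : Q // q * q = 1 ∧ q ≠ 1} =>
    (⟨ι d, ⟨by rw [← map_mul, d.2.1, map_one], by rw [← map_one ι]; exact B.ne d.2.2⟩,
      by rw [← map_mul, ← map_mul, q_z]⟩ :
      {u : G // (u * u = 1 ∧ u ≠ 1) ∧ u * ι z0 = ι z0 * u})) ⟨?_, ?_⟩)).symm
  · intro d d' h
    exact Subtype.ext (B.inj (congrArg Subtype.val h))
  · rintro ⟨u, ⟨h1, h2⟩, h3⟩
    obtain ⟨k, rfl⟩ := B.cent u h3
    exact ⟨⟨k, B.inj (by simpa using h1), by rintro rfl; simp at h2⟩, rfl⟩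

/-- the number of involutions -/
noncomputable def mI (G : Type*) [Group G] : ℕ := Nat.card {u : G // u * u = 1 ∧ u ≠ 1}

theorem nI_one : nI (1 : G) = mI G :=
  Nat.card_congr (Equiv.subtypeEquivRight fun u => by simp)

/-- conjugation action on the involutions -/
@[reducible] def invAct (G : Type*) [Group G] : MulAction G {u : G // u * u = 1 ∧ u ≠ 1} where
  smul g u := ⟨g * u * g⁻¹, by
    calc _ = g * (u.1 * u.1) * g⁻¹ := by group
      _ = 1 := by rw [u.2.1]; simp, fun h => u.2.2 (conj_eq_one_iff.1 h)⟩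
  one_smul u := Subtype.ext (by change 1 * u.1 * 1⁻¹ = u.1; simp)
  mul_smul g h u := Subtype.ext (by
    change g * h * u.1 * (g * h)⁻¹ = g * (h * u.1 * h⁻¹) * g⁻¹; group)

variable [Finite G]

theorem burnside (A : Subgroup G) {k : ℕ} (h : ∀ v ∈ A, v ≠ 1 → nI v = k) :
    Nat.card A ∣ mI G + (Nat.card A - 1) * k := by
  classical
  letI := invAct G
  letI := Fintype.ofFinite G
  letI := Fintype.ofFinite (MulAction.orbitRel.Quotient A {u : G // u * u = 1 ∧ u ≠ 1})
  have h1 := MulAction.sum_card_fixedBy_eq_card_orbits_mul_card_group A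
    {u : G // u * u = 1 ∧ u ≠ 1}
  have h2 : ∀ v : A, Fintype.card (MulAction.fixedBy {u : G // u * u = 1 ∧ u ≠ 1} v) = nI v.1 := by
    intro v
    rw [← Nat.card_eq_fintype_card]
    refine Nat.card_congr ((Equiv.subtypeEquivRight fun u => ?_).trans
      (Equiv.subtypeSubtypeEquivSubtypeInter _ fun u : G => u * v.1 = v.1 * u))
    rw [MulAction.mem_fixedBy, Subtype.ext_iff]
    change v.1 * u.1 * v.1⁻¹ = u.1 ↔ _
    rw [mul_inv_eq_iff_eq_mul, eq_comm]
  simp only [h2] at h1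
  rw [← Finset.add_sum_erase _ _ (Finset.mem_univ 1), Finset.sum_congr rfl (g := fun _ => k)
    (fun (v : A) hv => h v v.2 fun e => Finset.ne_of_mem_erase hv (Subtype.ext e))] at h1
  rw [Finset.sum_const, Finset.card_erase_of_mem (Finset.mem_univ _), Finset.card_univ,
    ← Nat.card_eq_fintype_card (α := A), smul_eq_mul, OneMemClass.coe_one, nI_one] at h1
  exact ⟨_, h1.trans (mul_comm _ _)⟩

theorem JH.nI_inv (J : JH ι s) {u : G} (h1 : u * u = 1) (h2 : u ≠ 1) : nI u = 31 := by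
  obtain ⟨g, rfl⟩ := J.conj_t h1 h2
  rw [nI_conj, nI_t J.toBase]

theorem JH.card_eq (J : JH ι s) : Nat.card G = 120 * mI G := by
  rw [← H3.card_class_mul_card_centralizer (ι z0), card_cent_t J.toBase, mul_comm]
  congr 1
  refine Nat.card_congr (Equiv.subtypeEquivRight fun u => ⟨fun h => ?_, fun h => ?_⟩)
  · refine H3.orderOf_two_iff.1 ?_
    rw [← H3.orderOf_eq_of_isConj h]
    exact H3.orderOf_two_of_mul_self J.pres.tt (by
      rw [← map_one ι]; exact J.toBase.ne (by decide +kernel))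
  · obtain ⟨g, rfl⟩ := J.conj_t h.1 h.2
    exact isConj_iff.2 ⟨g⁻¹, by simp⟩

theorem JH.mod8 (J : JH ι s) : 8 ∣ mI G + 217 := by
  have := burnside (S0.map ι) (k := 31) (by
    rintro _ ⟨m, hm, rfl⟩ h
    exact J.nI_inv (by rw [← map_mul, (q_SS m hm).1, map_one]) h)
  rwa [card_map_Q J.toBase, card_S0] at this

theorem mod_prime {x : G} {p : ℕ} (hp : p.Prime) (hx : orderOf x = p) :
    p ∣ mI G + (p - 1) * nI x := by
  have := burnside (zpowers x) (k := nI x) (by
    intro v hv h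
    have h1 : x ∈ zpowers v := by
      haveI := Fact.mk hp
      have := mem_zpowers_of_prime_card (G := zpowers x) (p := p) (by rw [Nat.card_zpowers, hx])
        (g := ⟨v, hv⟩) (g' := ⟨x, mem_zpowers x⟩) fun e => h (congrArg Subtype.val e)
      obtain ⟨n, hn⟩ := this
      exact ⟨n, congrArg Subtype.val hn⟩
    refine Nat.card_congr (Equiv.subtypeEquivRight fun u => and_congr_right fun _ => ⟨?_, ?_⟩)
    · intro e
      obtain ⟨n, rfl⟩ := h1
      exact Commute.zpow_right e n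
    · intro e
      obtain ⟨n, rfl⟩ := hv
      exact Commute.zpow_right e n)
  rwa [Nat.card_zpowers, hx] at this

omit [Finite G] in
theorem JH.orderOf_s (J : JH ι s) : orderOf s = 7 := by
  haveI : Fact (Nat.Prime 7) := ⟨by norm_num⟩
  exact orderOf_eq_prime J.s7 fun h => J.s_not_mem (h ▸ one_mem _)

theorem JH.no_seven (J : JH ι s) (hx : ¬ 7 ∣ Nat.card (centralizer {ι x0}))
    (hy : ¬ 7 ∣ Nat.card (centralizer {ι y0})) {k u : G} (hk : k ≠ 1) (h1 : u * u = 1)
    (h2 : u ≠ 1) (h3 : k * u = u * k) (h4 : s * k = k * s) : False := by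
  have key : ∀ v w : G, IsConj v w → s * v = v * s → 7 ∣ Nat.card (centralizer {w}) := by
    intro v w h h'
    rw [← H3.card_centralizer_eq_of_isConj h, ← J.orderOf_s]
    exact Subgroup.orderOf_dvd_natCard _ (mem_centralizer_singleton_iff.2 h')
  obtain ⟨g, rfl⟩ := J.conj_t h1 h2
  obtain ⟨m, rfl⟩ := J.toBase.cent_conj h3
  have hp : ∀ i : ℕ, s * (g⁻¹ * ι (m ^ i) * g) = g⁻¹ * ι (m ^ i) * g * s := fun i => by
    have := Commute.pow_right h4 i
    rwa [show g⁻¹ * ι m * g = g⁻¹ * ι m * g⁻¹⁻¹ by simp, conj_pow, inv_inv, ← map_pow] at this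
  rcases q_pow m (by rintro rfl; simp at hk) with ⟨h5, h6⟩ | ⟨i, j, h5 | h5⟩
  · obtain ⟨f, hf⟩ := J.conj_t (u := ι (m ^ 15)) (by rw [← map_mul, h5, map_one])
      (by rw [← map_one ι]; exact J.toBase.ne h6)
    have := key _ (ι z0) (isConj_iff.2 ⟨f * g, by rw [← hf]; group⟩) (hp 15)
    rw [card_cent_t J.toBase] at this
    exact absurd this (by decide)
  · exact hx (key _ _ (isConj_iff.2 ⟨(ι j)⁻¹ * g, by
      rw [← h5, map_mul, map_mul, map_inv]; group⟩) (hp i))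
  · exact hy (key _ _ (isConj_iff.2 ⟨(ι j)⁻¹ * g, by
      rw [← h5, map_mul, map_mul, map_inv]; group⟩) (hp i))

/-- the normaliser of the Sylow subgroup -/
def NS (ι : Q →* G) : Subgroup G := normalizer (S0.map ι : Set G)

theorem mem_NS {g : G} {f : Q → Q} (h : Acts ι g f) (hf : ∀ m, inS m → inS (f m)) : g ∈ NS ι := by
  rw [← inv_mem_iff]
  refine mem_normalizer_fintype ?_
  rintro _ ⟨m, hm, rfl⟩
  exact ⟨f m, hf m hm, by rw [inv_inv, h m hm]⟩

omit [Finite G] in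
theorem inN_of_mem (B : Base ι) {k : Q} (h : ι k ∈ NS ι) : inN k := by
  have key : ∀ m, inS m → inS (k⁻¹ * m * k) := fun m hm => by
    obtain ⟨n, hn, e⟩ := (mem_normalizer_iff''.1 h (ι m)).1 ⟨m, hm, rfl⟩
    rw [← map_inv, ← map_mul, ← map_mul] at e
    rw [← B.inj e]; exact hn
  exact ⟨key _ rfl, key _ (by decide +kernel)⟩

theorem JH.s_mem (J : JH ι s) : s ∈ NS ι := mem_NS J.acts q_tfS

theorem JH.decomp (J : JH ι s) {h : G} (hh : h ∈ NS ι) :
    ∃ k, inN k ∧ ∃ i : Fin 7, h = ι k * s ^ i.1 := by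
  obtain ⟨n, hn, e⟩ := (mem_normalizer_iff''.1 hh (ι z0)).1 ⟨z0, show inS z0 by decide +kernel, rfl⟩
  obtain ⟨i, rfl⟩ := q_tftr n hn (by
    rintro rfl
    rw [map_one, eq_comm, show h⁻¹ * ι z0 * h = h⁻¹ * ι z0 * h⁻¹⁻¹ by simp, conj_eq_one_iff,
      ← map_one ι] at e
    exact J.toBase.ne (by decide +kernel) e)
  rw [← J.acts.pow i z0 (by decide +kernel)] at e
  obtain ⟨k, hk⟩ := J.cent (h * (s ^ i.1)⁻¹) (by
    calc _ = h * ((s ^ i.1)⁻¹ * ι z0 * s ^ i.1) * (s ^ i.1)⁻¹ := by group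
      _ = _ := by rw [e]; group)
  refine ⟨k, inN_of_mem J.toBase ?_, i, by rw [hk]; group⟩
  rw [hk]
  exact mul_mem hh (inv_mem (pow_mem J.s_mem _))

theorem JH.card_NS (J : JH ι s) : Nat.card (NS ι) = 168 := by
  have : Nat.card ({q // inN q} × Fin 7) = 168 := by rw [Nat.card_prod, card_N0, Nat.card_fin]
  rw [← this]
  refine (Nat.card_congr (Equiv.ofBijective (fun z : {q // inN q} × Fin 7 =>
    (⟨ι z.1 * s ^ z.2.1, mul_mem (mem_NS (acts_map _) fun m hm => (q_N _ z.1.2 m hm).1)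
      (pow_mem J.s_mem _)⟩ : NS ι)) ⟨?_, ?_⟩)).symm
  · rintro ⟨k, i⟩ ⟨k', j⟩ e
    have e1 : ι k * s ^ i.1 = ι k' * s ^ j.1 := congrArg Subtype.val e
    have e2 : ∀ (k : Q) (i : ℕ), (ι k * s ^ i)⁻¹ * ι z0 * (ι k * s ^ i) = ι (tf^[i] z0) := by
      intro k i
      rw [← J.acts.pow i z0 (by decide +kernel)]
      calc _ = (s ^ i)⁻¹ * ι (k⁻¹ * z0 * k) * s ^ i := by simp only [map_mul, map_inv]; group
        _ = _ := by rw [mul_assoc k⁻¹, ← q_z, inv_mul_cancel_left]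
    have e3 := e2 k i
    rw [e1, e2] at e3
    obtain rfl := q_tfinj _ _ (J.inj e3)
    rw [Subtype.ext (J.inj (mul_right_cancel e1))]
  · rintro ⟨h, hh⟩
    obtain ⟨k, hk, i, rfl⟩ := J.decomp hh
    exact ⟨(⟨k, hk⟩, i), rfl⟩

theorem JH.cases (J : JH ι s) {h : G} (hh : h ∈ NS ι) (h1 : h ≠ 1) :
    (∃ v, inS v ∧ v ≠ 1 ∧ ι v = h ^ 3) ∨
      (∃ j : Fin 7, ∃ k, (inN k ∧ k ^ 3 = 1 ∧ k ≠ 1) ∧ h = (s ^ j.1)⁻¹ * ι k * s ^ j.1) ∨
      ∃ w, inS w ∧ ∃ i : Fin 7, i ≠ 0 ∧ h = (ι w)⁻¹ * s ^ i.1 * ι w := by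
  obtain ⟨k, hk, i, e⟩ := J.decomp hh
  rcases q_Ntf k hk i with ⟨j, hj⟩ | ⟨h2, h3⟩
  · have hz : inS z0 := by decide +kernel
    have e1 := ((acts_map k).mul (J.acts.pow i) fun m hm => (q_N k hk m hm).1) _ (tf_iter_S j _ hz)
    simp only [hj] at e1
    rw [← e, ← J.acts.pow j z0 hz] at e1
    obtain ⟨n, hn⟩ := J.cent (s ^ j.1 * h * (s ^ j.1)⁻¹) (by
      calc _ = s ^ j.1 * h * ((s ^ j.1)⁻¹ * ι z0 * s ^ j.1) * (s ^ j.1)⁻¹ := by group
        _ = _ := by rw [← e1]; group)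
    have hn1 : inN n := inN_of_mem J.toBase (by
      rw [hn]; exact mul_mem (mul_mem (pow_mem J.s_mem _) hh) (inv_mem (pow_mem J.s_mem _)))
    have hn2 : n ≠ 1 := by
      rintro rfl
      rw [map_one, eq_comm, conj_eq_one_iff] at hn
      exact h1 hn
    have e2 : h = (s ^ j.1)⁻¹ * ι n * s ^ j.1 := by rw [hn]; group
    rcases q_Npow n hn1 hn2 with h4 | ⟨h4, h5⟩
    · exact Or.inr (Or.inl ⟨j, n, ⟨hn1, h4, hn2⟩, e2⟩)
    · have e3 : ι (tf^[j.1] (n ^ 3)) = h ^ 3 := by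
        rw [← J.acts.pow j _ h4, e2, map_pow]; simp only [pow_succ, pow_zero]; group
      refine Or.inl ⟨_, tf_iter_S j _ h4, fun h6 => h5 (J.inj ?_), e3⟩
      have := J.acts.pow j _ h4
      rw [h6, map_one, show (s ^ j.1)⁻¹ * ι (n ^ 3) * s ^ j.1 = (s ^ j.1)⁻¹ * ι (n ^ 3) * (s ^ j.1)⁻¹⁻¹
        by simp, conj_eq_one_iff] at this
      rw [this, map_one]
  · obtain ⟨w, hw, e1⟩ := q_Stf k h2 i h3
    refine Or.inr (Or.inr ⟨w, hw, i, h3, ?_⟩)
    have e2 := congrArg ι e1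
    rw [map_mul, ← J.acts.pow i _ h2, ← J.acts.pow i _ hw] at e2
    rw [e, ← map_inv, inv_eq_of_mul_eq_one_right (q_SS w hw).1]
    calc _ = s ^ i.1 * ((s ^ i.1)⁻¹ * ι k * s ^ i.1) := by group
      _ = _ := by rw [e2]; group

/-- number of involutions inverting `x` -/
noncomputable def cI (x : G) : ℕ := Nat.card {u : G // (u * u = 1 ∧ u ≠ 1) ∧ u * x * u⁻¹ = x⁻¹}

omit [Finite G] in
theorem cI_conj (x g : G) : cI (g⁻¹ * x * g) = cI x := by
  refine Nat.card_congr ((MulAut.conj g).toEquiv.subtypeEquiv fun u => ?_)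
  change _ ↔ (MulAut.conj g u * MulAut.conj g u = 1 ∧ MulAut.conj g u ≠ 1) ∧
    MulAut.conj g u * x * (MulAut.conj g u)⁻¹ = x⁻¹
  conv_rhs => rw [show x = MulAut.conj g (g⁻¹ * x * g) by simp [mul_assoc]]
  simp only [← map_mul, ← map_inv, ne_eq, EmbeddingLike.map_eq_one_iff,
    EmbeddingLike.apply_eq_iff_eq]

omit [Finite G] in
theorem comm_of_inv {x u v : G} (h1 : v * v = 1) (hu : u * x * u⁻¹ = x⁻¹)
    (hv : v * x * v⁻¹ = x⁻¹) : u * v * x = x * (u * v) := by
  have h2 : v⁻¹ = v := inv_eq_of_mul_eq_one_right h1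
  calc u * v * x = u * (v * x * v⁻¹) * u⁻¹ * (u * v) := by group
    _ = (u * x * u⁻¹)⁻¹ * (u * v) := by rw [hv]; group
    _ = _ := by rw [hu, inv_inv]

theorem cI_le (x : G) : cI x ≤ Nat.card (centralizer {x}) := by
  rcases isEmpty_or_nonempty {u : G // (u * u = 1 ∧ u ≠ 1) ∧ u * x * u⁻¹ = x⁻¹} with h | ⟨⟨v, hv⟩⟩
  · rw [cI, Nat.card_of_isEmpty]; exact Nat.zero_le _
  · refine Nat.card_le_card_of_injective (fun u => (⟨u.1 * v,
      mem_centralizer_singleton_iff.2 (comm_of_inv hv.1.1 u.2.2 hv.2)⟩ : centralizer {x})) ?_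
    intro u u' e
    exact Subtype.ext (mul_right_cancel (congrArg Subtype.val e))

theorem card_filter_G [Fintype G] (p : G → Prop) [DecidablePred p] :
    (Finset.univ.filter p).card = Nat.card {u // p u} := by
  rw [← Fintype.card_subtype, ← Nat.card_eq_fintype_card]

theorem JH.upper (J : JH ι s) :
    mI G ≤ 217 + 56 * Nat.card (centralizer {ι x0}) + 8 * cI s + (NS ι).index := by
  classical
  letI := Fintype.ofFinite G
  let A2 : Finset G := (Finset.univ.filter fun v : Q => inS v ∧ v ≠ 1).biUnion fun v =>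
    Finset.univ.filter fun u => (u * u = 1 ∧ u ≠ 1) ∧ u * ι v = ι v * u
  let I : G → Finset G := fun x => Finset.univ.filter fun u => (u * u = 1 ∧ u ≠ 1) ∧ u * x * u⁻¹ = x⁻¹
  let A3 : Finset G := (Finset.univ : Finset (Fin 7 × {k // inN k ∧ k ^ 3 = 1 ∧ k ≠ 1})).biUnion
    fun z => I ((s ^ z.1.1)⁻¹ * ι z.2 * s ^ z.1.1)
  let A7 : Finset G := (Finset.univ.filter inS).biUnion fun w => I ((ι w)⁻¹ * s * ι w)
  let JF : Finset G := Finset.univ.filter fun u => u * u = 1 ∧ u ≠ 1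
  have h2 : A2.card ≤ 217 := by
    refine (Finset.card_biUnion_le_card_mul _ _ 31 fun v hv => ?_).trans (by decide +kernel)
    rw [Finset.mem_filter] at hv
    rw [card_filter_G]
    exact (J.nI_inv (by rw [← map_mul, (q_SS v hv.2.1).1, map_one])
      (by rw [← map_one ι]; exact J.toBase.ne hv.2.2)).le
  have h3 : A3.card ≤ 56 * Nat.card (centralizer {ι x0}) := by
    refine (Finset.card_biUnion_le_card_mul _ _ (Nat.card (centralizer {ι x0}))
      fun z _ => ?_).trans ?_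
    · rw [card_filter_G]
      refine (cI_conj _ _).trans_le ?_
      obtain ⟨k, hk⟩ := q_three z.2 z.2.2.2.1 z.2.2.2.2
      rw [← hk, map_mul, map_mul, map_inv, cI_conj]
      exact cI_le _
    · rw [Finset.card_univ, ← Nat.card_eq_fintype_card, Nat.card_prod, card_N3, Nat.card_fin]
  have h7 : A7.card ≤ 8 * cI s := by
    refine (Finset.card_biUnion_le_card_mul _ _ (cI s) fun w _ => ?_).trans
      (Nat.mul_le_mul_right _ (by decide +kernel))
    rw [card_filter_G]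
    exact (cI_conj _ _).le
  have h1 : (JF \ (A2 ∪ A3 ∪ A7)).card ≤ (NS ι).index := by
    letI := Fintype.ofFinite (G ⧸ NS ι)
    rw [index_eq_card, Nat.card_eq_fintype_card, ← Finset.card_univ]
    refine Finset.card_le_card_of_injOn (fun u => (u : G ⧸ NS ι)) (fun _ _ => by simp) ?_
    intro u hu v hv e
    by_contra hne
    simp only [Finset.coe_sdiff, Set.mem_diff, Finset.mem_coe, JF, Finset.mem_filter,
      Finset.mem_univ, true_and] at hu hv
    apply hu.2
    have e1 : u * v ∈ NS ι := by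
      have := QuotientGroup.eq.1 e
      rwa [inv_eq_of_mul_eq_one_right hu.1.1] at this
    have e2 := H3.left_inverts hu.1.1 hv.1.1
    have e3 : ∀ n : ℕ, u * (u * v) ^ n * u⁻¹ = ((u * v) ^ n)⁻¹ := fun n => by
      rw [← conj_pow, e2, inv_pow]
    simp only [Finset.mem_union]
    rcases J.cases e1 (fun h => hne (by
      rw [← inv_eq_of_mul_eq_one_right h, inv_eq_of_mul_eq_one_right hu.1.1])) with
      ⟨w, h4, h5, h6⟩ | ⟨j, k, h4, h5⟩ | ⟨w, h4, i, h5, h6⟩
    · refine Or.inl (Or.inl (Finset.mem_biUnion.2 ⟨w, Finset.mem_filter.2 ⟨Finset.mem_univ _, h4, h5⟩, ?_⟩))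
      simp only [Finset.mem_filter, Finset.mem_univ, true_and]
      refine ⟨hu.1, ?_⟩
      have := e3 3
      rwa [← h6, ← map_inv, inv_eq_of_mul_eq_one_right (q_SS w h4).1,
        mul_inv_eq_iff_eq_mul] at this
    · refine Or.inl (Or.inr (Finset.mem_biUnion.2 ⟨(j, ⟨k, h4⟩), Finset.mem_univ _, ?_⟩))
      simp only [I, Finset.mem_filter, Finset.mem_univ, true_and]
      exact ⟨hu.1, by rw [← h5]; exact e2⟩
    · refine Or.inr (Finset.mem_biUnion.2 ⟨w, Finset.mem_filter.2 ⟨Finset.mem_univ _, h4⟩, ?_⟩)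
      simp only [I, Finset.mem_filter, Finset.mem_univ, true_and]
      refine ⟨hu.1, ?_⟩
      obtain ⟨n, q, hn⟩ := (by decide : ∀ i : Fin 7, i ≠ 0 → ∃ n : Fin 7, ∃ q : Fin 7,
        i.1 * n.1 = 7 * q.1 + 1) i h5
      have := e3 n
      rwa [h6, show (ι w)⁻¹ * s ^ i.1 * ι w = (ι w)⁻¹ * s ^ i.1 * (ι w)⁻¹⁻¹ by simp, conj_pow,
        inv_inv, ← pow_mul, hn, pow_succ, pow_mul, J.s7, one_pow, one_mul] at this
  have h4 : mI G = JF.card := (card_filter_G _).symm
  have h5 := Finset.card_le_card_sdiff_add_card (s := JF) (t := A2 ∪ A3 ∪ A7)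
  have h6 := Finset.card_union_le (A2 ∪ A3) A7
  have h8 := Finset.card_union_le A2 A3
  omega

theorem JH.lower (J : JH ι s) (hx : ¬ 7 ∣ Nat.card (centralizer {ι x0}))
    (hy : ¬ 7 ∣ Nat.card (centralizer {ι y0})) : 31 * cI s ≤ mI G := by
  classical
  letI := Fintype.ofFinite G
  let I : Finset G := Finset.univ.filter fun u => (u * u = 1 ∧ u ≠ 1) ∧ u * s * u⁻¹ = s⁻¹
  let f : G → Finset G := fun v => Finset.univ.filter fun u => (u * u = 1 ∧ u ≠ 1) ∧ u * v = v * u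
  have h1 : (I.biUnion f).card = I.card * 31 := by
    rw [Finset.card_biUnion, Finset.sum_congr rfl (g := fun _ => 31), Finset.sum_const, smul_eq_mul]
    · intro v hv
      rw [Finset.mem_filter] at hv
      rw [card_filter_G]
      exact J.nI_inv hv.2.1.1 hv.2.1.2
    · intro v hv w hw hne
      simp only [Finset.coe_filter, Finset.mem_univ, true_and, Set.mem_setOf_eq, I] at hv hw
      rw [Function.onFun, Finset.disjoint_left]
      intro u h1 h2
      simp only [f, Finset.mem_filter, Finset.mem_univ, true_and] at h1 h2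
      refine J.no_seven hx hy (k := v * w) (fun h => hne ?_) h1.1.1 h1.1.2
        (Commute.mul_right h1.2 h2.2).symm (comm_of_inv hw.1.1 hv.2 hw.2).symm
      rw [← inv_eq_of_mul_eq_one_right h, inv_eq_of_mul_eq_one_right hv.1.1]
  have h2 : I.biUnion f ⊆ Finset.univ.filter fun u => u * u = 1 ∧ u ≠ 1 := by
    intro u hu
    obtain ⟨v, -, hv⟩ := Finset.mem_biUnion.1 hu
    simp only [f, Finset.mem_filter, Finset.mem_univ, true_and] at hv ⊢
    exact hv.1
  have h3 := Finset.card_le_card h2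
  rw [h1, card_filter_G, card_filter_G, mul_comm] at h3
  exact h3

theorem JH.cI_dvd (J : JH ι s) (hx : ¬ 7 ∣ Nat.card (centralizer {ι x0}))
    (hy : ¬ 7 ∣ Nat.card (centralizer {ι y0})) : cI s = 0 ∨ (7 ∣ cI s ∧ cI s ∣ mI G) := by
  rcases isEmpty_or_nonempty {u : G // (u * u = 1 ∧ u ≠ 1) ∧ u * s * u⁻¹ = s⁻¹} with h | ⟨⟨v, hv⟩⟩
  · left; rw [cI, Nat.card_of_isEmpty]
  right
  have hinv : ∀ k ∈ centralizer {s}, v * k * v⁻¹ = k⁻¹ := fun k hk => by
    refine H3.inverts_of_fixedPointFree hv.1.1 (mem_normalizer_fintype fun n hn => ?_)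
      (fun n hn h => ?_) hk
    · have h1 : Commute n s := mem_centralizer_singleton_iff.1 hn
      have h2 : v * s⁻¹ * v⁻¹ = s := by
        calc _ = (v * s * v⁻¹)⁻¹ := by group
          _ = s := by rw [hv.2, inv_inv]
      refine mem_centralizer_singleton_iff.2 ?_
      calc _ = v * n * v⁻¹ * (v * s⁻¹ * v⁻¹) := by rw [h2]
        _ = v * (n * s⁻¹) * v⁻¹ := by group
        _ = v * s⁻¹ * v⁻¹ * (v * n * v⁻¹) := by rw [h1.inv_right.eq]; group
        _ = _ := by rw [h2]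
    · by_contra h1
      exact J.no_seven hx hy h1 hv.1.1 hv.1.2 h.symm (mem_centralizer_singleton_iff.1 hn).symm
  have hs1 : s ≠ 1 := fun h => J.s_not_mem (h ▸ one_mem _)
  have e : cI s = Nat.card (centralizer {s}) := by
    refine le_antisymm (cI_le s) (Nat.card_le_card_of_injective (fun k : centralizer {s} =>
      (⟨v * k, ⟨?_, ?_⟩, ?_⟩ : {u : G // (u * u = 1 ∧ u ≠ 1) ∧ u * s * u⁻¹ = s⁻¹})) ?_)
    · calc _ = v * k * v⁻¹ * (v * v) * k := by group
        _ = 1 := by rw [hinv k k.2, hv.1.1]; group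
    · intro h
      have h1 : v = k.1⁻¹ := eq_inv_of_mul_eq_one_left h
      refine J.no_seven hx hy hs1 hv.1.1 hv.1.2 ?_ rfl
      rw [h1]
      exact (Commute.inv_left (mem_centralizer_singleton_iff.1 k.2)).symm
    · have h1 := mem_centralizer_singleton_iff.1 k.2
      calc _ = v * (k * s) * k.1⁻¹ * v⁻¹ := by group
        _ = _ := by rw [h1, ← hv.2]; group
    · intro k k' h
      exact Subtype.ext (mul_left_cancel (congrArg Subtype.val h))
  rw [e]
  constructor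
  · rw [← J.orderOf_s]
    exact Subgroup.orderOf_dvd_natCard _ (mem_centralizer_singleton_iff.2 rfl)
  · have := burnside (centralizer {s}) (k := 0) (fun k hk h1 => by
      rw [nI, Nat.card_eq_zero]
      left
      exact ⟨fun u => J.no_seven hx hy h1 u.2.1.1 u.2.1.2 u.2.2.symm
        (mem_centralizer_singleton_iff.1 hk).symm⟩)
    simpa using this

theorem JH.index_NS (J : JH ι s) : 7 * (NS ι).index = 5 * mI G := by
  have := (NS ι).index_mul_card
  rw [J.card_NS, J.card_eq] at this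
  omega

theorem JH.no_prime (J : JH ι s) {p : ℕ} (hp : p.Prime) (h30 : Nat.Coprime p 30)
    (h7 : ¬ p ∣ 840) (hm : mI G = 7 * p) (hd : ∀ d ∈ Nat.divisors 840, d % p = 1 → d = 1) :
    False := by
  haveI := Fact.mk hp
  obtain ⟨P⟩ : Nonempty (Sylow p G) := inferInstance
  have hG : Nat.card G = 840 * p := by rw [J.card_eq, hm]; ring
  have h1 : p ∣ Nat.card P := P.dvd_card_of_dvd_card (by rw [hG]; exact dvd_mul_left _ _)
  have h2 : (P : Subgroup G).index ∣ 840 := by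
    have := (P : Subgroup G).index_mul_card
    obtain ⟨n, hn⟩ := h1
    rw [hG, hn] at this
    exact ⟨n, Nat.eq_of_mul_eq_mul_right hp.pos (by rw [← this]; ring)⟩
  have h3 : Nat.card (Sylow p G) = 1 := by
    refine hd _ (Nat.mem_divisors.2 ⟨(P.card_dvd_index).trans h2, by decide⟩) ?_
    have := card_sylow_modEq_one p G
    rwa [Nat.ModEq, Nat.mod_eq_of_lt hp.one_lt] at this
  haveI : Subsingleton (Sylow p G) := (Nat.card_eq_one_iff_unique.1 h3).1
  haveI := Sylow.normal_of_subsingleton P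
  have fpf : ∀ m, inS m → m ≠ 1 → ∀ n ∈ (P : Subgroup G), ι m * n = n * ι m → n = 1 := by
    intro m hm hm1 n hn h
    obtain ⟨g, hg⟩ := J.conj_t (u := ι m) (by rw [← map_mul, (q_SS m hm).1, map_one])
      (by rw [← map_one ι]; exact J.toBase.ne hm1)
    obtain ⟨k, rfl⟩ := J.toBase.cent_conj (g := g) (v := n) (by rw [hg, h])
    obtain ⟨j, hj⟩ := P.isPGroup'.exists_card_eq
    have h4 := (P : Subgroup G).orderOf_dvd_natCard hn
    rw [hj] at h4
    refine orderOf_eq_one_iff.1 (Nat.eq_one_of_dvd_coprimes (h30.pow_left j) h4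
      (orderOf_dvd_of_pow_eq_one ?_))
    rw [show g⁻¹ * ι k * g = g⁻¹ * ι k * g⁻¹⁻¹ by simp, conj_pow, ← map_pow, q_30]
    simp
  have inv : ∀ m, inS m → m ≠ 1 → ∀ n ∈ (P : Subgroup G), ι m * n * (ι m)⁻¹ = n⁻¹ :=
    fun m hm hm1 n hn => H3.inverts_of_fixedPointFree (by rw [← map_mul, (q_SS m hm).1, map_one])
      (by rw [normalizer_eq_top]; trivial) (fpf m hm hm1) hn
  have h5 : (P : Subgroup G) = ⊥ := by
    rw [eq_bot_iff]
    intro n hn
    refine fpf (z0 * a0) (by decide +kernel) (by decide +kernel) n hn ?_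
    rw [map_mul]
    exact comm_of_inv J.pres.aa (inv _ (by decide +kernel) (by decide +kernel) n hn)
      (inv _ (by decide +kernel) (by decide +kernel) n hn)
  rw [h5, card_bot] at h1
  exact hp.one_lt.ne' (Nat.dvd_one.1 h1)

theorem JH.rel (J : JH ι s) : Rel ι s x0 y0 := by
  by_contra h
  obtain ⟨h1, h2, h3, h4⟩ := J.caseB h
  have hx : ¬ 7 ∣ Nat.card (centralizer {ι x0}) := by rw [h1]; decide
  have hy : ¬ 7 ∣ Nat.card (centralizer {ι y0}) := by rw [h3]; decide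
  have e1 := J.mod8
  have e2 := mod_prime Nat.prime_three (orderOf_x0 J.toBase)
  have e3 := mod_prime Nat.prime_five (orderOf_y0 J.toBase)
  have e4 := J.index_NS
  have e5 := J.upper
  have e6 := J.lower hx hy
  have e7 := J.cI_dvd hx hy
  rw [h2] at e2
  rw [h4] at e3
  rw [h1] at e5
  obtain ⟨q, hq⟩ : ∃ q, mI G = 840 * q + 511 := ⟨mI G / 840, by omega⟩
  have hq1 : q ≤ 1 := by
    rcases e7 with e7 | ⟨⟨c, hc⟩, e8⟩
    · omega
    · rw [hc, hq] at e8
      exact (by decide +kernel : ∀ q < 25, ∀ c < 100, 7 * c ∣ 840 * q + 511 →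
        217 * c ≤ 840 * q + 511 → 2 * (840 * q + 511) ≤ 3871 + 392 * c → q ≤ 1) q (by omega) c
        (by omega) e8 (by omega) (by omega)
  interval_cases q
  · exact J.no_prime (p := 73) (by norm_num) (by norm_num) (by norm_num) hq (by decide +kernel)
  · exact J.no_prime (p := 193) (by norm_num) (by norm_num) (by norm_num) hq (by decide +kernel)

theorem JH.cong (J : JH ι s) : mI G % 840 = 623 ∧ mI G ≠ 623 ∧ mI G ≤ 70000 := by
  obtain ⟨h1, h2, h3, h4⟩ := J.caseC J.rel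
  have hx : ¬ 7 ∣ Nat.card (centralizer {ι x0}) := by rw [h1]; decide
  have hy : ¬ 7 ∣ Nat.card (centralizer {ι y0}) := by rw [h3]; decide
  have e1 := J.mod8
  have e2 := mod_prime Nat.prime_three (orderOf_x0 J.toBase)
  have e3 := mod_prime Nat.prime_five (orderOf_y0 J.toBase)
  have e4 := J.index_NS
  have e5 := J.upper
  have e6 := J.lower hx hy
  rw [h2] at e2
  rw [h4] at e3
  rw [h1] at e5
  exact ⟨by omega, fun h => J.no_prime (p := 89) (by norm_num) (by norm_num) (by norm_num) h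
    (by decide +kernel), by omega⟩

theorem JH.restrict (J : JH ι s) :
    JH (ι.codRestrict (gen ι s) (mem_gen s)) ⟨s, s_mem_gen s⟩ where
  inj _ _ h := J.inj (congrArg Subtype.val h)
  cent g h := by
    obtain ⟨k, hk⟩ := J.cent g (congrArg Subtype.val h)
    exact ⟨k, Subtype.ext hk⟩
  acts m hm := Subtype.ext (J.acts m hm)
  rs := Subtype.ext J.rs
  h16 h := J.h16 (h.trans (card_subgroup_dvd_card _))

theorem JH.main (J : JH ι s) : Nat.card G = 175560 ∧ gen ι s = ⊤ := by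
  have h1 := (card_gen_le J.pres J.rel).2
  have h2 := J.restrict.card_eq
  obtain ⟨h3, h4, -⟩ := J.restrict.cong
  obtain ⟨h5, -, h6⟩ := J.cong
  have h7 := (gen ι s).index_mul_card
  have h8 := J.card_eq
  have h9 : Nat.card (gen ι s) = 175560 := by omega
  rw [h9] at h7
  have h10 : (gen ι s).index = 1 := by omega
  rw [h10] at h7
  exact ⟨h7.symm, index_eq_one.1 h10⟩

theorem JH.unique {H : Type*} [Group H] [Finite H] {κ : Q →* H} {s' : H} (J : JH ι s)
    (J' : JH κ s') : Nonempty (G ≃* H) := by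
  have P : Pres ((ι.prod κ) a0) ((ι.prod κ) b0) ((ι.prod κ) c0) ((ι.prod κ) z0) (s, s') :=
    pres_of (fun m hm => Prod.ext (J.acts m hm) (J'.acts m hm)) (Prod.ext J.rs J'.rs)
      (Prod.ext J.s7 J'.s7)
  have h1 := (card_gen_le P (Prod.ext J.rel.eq J'.rel.eq)).2
  set D := gen (ι.prod κ) (s, s')
  have f1 : Function.Bijective ((MonoidHom.fst G H).comp D.subtype) := by
    refine Function.Surjective.bijective_of_nat_card_le ?_ (by rw [J.main.1]; exact h1)
    rw [← MonoidHom.range_eq_top, eq_top_iff, ← J.main.2, gen, closure_le]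
    intro g hg
    simp only [Set.mem_insert_iff, Set.mem_singleton_iff] at hg
    rcases hg with rfl | rfl | rfl | rfl | rfl
    exacts [⟨⟨_, mem_gen _ a0⟩, rfl⟩, ⟨⟨_, mem_gen _ b0⟩, rfl⟩, ⟨⟨_, mem_gen _ c0⟩, rfl⟩,
      ⟨⟨_, mem_gen _ z0⟩, rfl⟩, ⟨⟨_, s_mem_gen _⟩, rfl⟩]
  have f2 : Function.Bijective ((MonoidHom.snd G H).comp D.subtype) := by
    refine Function.Surjective.bijective_of_nat_card_le ?_ (by rw [J'.main.1]; exact h1)
    rw [← MonoidHom.range_eq_top, eq_top_iff, ← J'.main.2, gen, closure_le]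
    intro g hg
    simp only [Set.mem_insert_iff, Set.mem_singleton_iff] at hg
    rcases hg with rfl | rfl | rfl | rfl | rfl
    exacts [⟨⟨_, mem_gen _ a0⟩, rfl⟩, ⟨⟨_, mem_gen _ b0⟩, rfl⟩, ⟨⟨_, mem_gen _ c0⟩, rfl⟩,
      ⟨⟨_, mem_gen _ z0⟩, rfl⟩, ⟨⟨_, s_mem_gen _⟩, rfl⟩]
  exact ⟨(MulEquiv.ofBijective _ f1).symm.trans (MulEquiv.ofBijective _ f2)⟩

end Cfsg.Agent.H8.J1
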