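import Mathlib
import Cfsg.Agent.H3.Dihedral

/-! Counting involutions for S1916: points are the involutions of `L`, lines those outside. -/

set_option autoImplicit false

namespace Cfsg.Agent.H8.DS

open Cfsg.Agent.H3 Subgroup Finset

variable {G : Type*} [Group G]

/-- the involution of the cyclic group generated by `b * v` -/
noncomputable def wI (b v : G) : G := (b * v) ^ (orderOf (b * v) / 2)

theorem wI_commute {b v x : G} (hb : Commute x b) (hv : Commute x v) : Commute x (wI b v) :=
  (hb.mul_right hv).pow_right _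

/-- The combinatorial situation. -/
structure Geo (L : Subgroup G) (z a : G) : Prop where
  idx : L.index = 2
  hz : orderOf z = 2
  hzL : z ∈ L
  ha : orderOf a = 2
  haL : a ∉ L
  haz : Commute z a
  pt : ∀ v ∈ L, orderOf v = 2 → IsConj z v
  ln : ∀ d, d ∉ L → orderOf d = 2 → IsConj a d
  uq : ∀ v ∈ L, ∀ w ∈ L, orderOf v = 2 → orderOf w = 2 → Commute v a → Commute w a →
    Commute v w → v = w

theorem commute_conj_iff {g x y : G} : Commute (g * x * g⁻¹) (g * y * g⁻¹) ↔ Commute x y := by
  constructor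
  · intro h
    have := h.eq
    have h2 : g⁻¹ * (g * x * g⁻¹ * (g * y * g⁻¹)) * g = g⁻¹ * (g * y * g⁻¹ * (g * x * g⁻¹)) * g := by
      rw [this]
    simpa [mul_assoc, Commute, SemiconjBy] using h2
  · intro h
    have := h.eq
    change _ = _
    calc g * x * g⁻¹ * (g * y * g⁻¹) = g * (x * y) * g⁻¹ := by group
      _ = g * (y * x) * g⁻¹ := by rw [this]
      _ = _ := by group

namespace Geo

variable {L : Subgroup G} {z a : G}

theorem normal (h : Geo L z a) : L.Normal := normal_of_index_eq_two h.idx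

theorem conj_mem_iff (h : Geo L z a) (g x : G) : g * x * g⁻¹ ∈ L ↔ x ∈ L :=
  ⟨fun hx => by simpa [mul_assoc] using h.normal.conj_mem _ hx g⁻¹, fun hx => h.normal.conj_mem _ hx g⟩

theorem mul_notMem (_h : Geo L z a) {d v : G} (hd : d ∉ L) (hv : v ∈ L) : d * v ∉ L :=
  fun hm => hd (by simpa using L.mul_mem hm (L.inv_mem hv))

theorem mul_mem (h : Geo L z a) {d e : G} (hd : d ∉ L) (he : e ∉ L) : d * e ∈ L :=
  (mul_mem_iff_of_index_two h.idx).2 (by simp [hd, he])

theorem uq' (h : Geo L z a) {d : G} (hd : d ∉ L) (hd2 : orderOf d = 2) {v w : G} (hv : v ∈ L)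
    (hw : w ∈ L) (hv2 : orderOf v = 2) (hw2 : orderOf w = 2) (hvd : Commute v d)
    (hwd : Commute w d) (hvw : Commute v w) : v = w := by
  obtain ⟨g, hg⟩ := isConj_iff.1 (h.ln d hd hd2).symm
  have := h.uq (g * v * g⁻¹) ((h.conj_mem_iff _ _).2 hv) (g * w * g⁻¹) ((h.conj_mem_iff _ _).2 hw)
    (by rw [H3.orderOf_conj, hv2]) (by rw [H3.orderOf_conj, hw2])
    (by rw [← hg]; exact commute_conj_iff.2 hvd) (by rw [← hg]; exact commute_conj_iff.2 hwd)
    (commute_conj_iff.2 hvw)
  simpa using this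

theorem line_mul (h : Geo L z a) {d v : G} (hd : d ∉ L) (hd2 : orderOf d = 2) (hv : v ∈ L)
    (hv2 : orderOf v = 2) (hvd : Commute v d) : orderOf (d * v) = 2 := by
  refine orderOf_two_of_mul_self ?_ (fun h1 => h.mul_notMem hd hv (h1 ▸ L.one_mem))
  have e1 := mul_self_of_orderOf_two hd2
  have e2 := mul_self_of_orderOf_two hv2
  calc d * v * (d * v) = d * (v * d) * v := by group
    _ = d * (d * v) * v := by rw [hvd.eq]
    _ = (d * d) * (v * v) := by group
    _ = 1 := by rw [e1, e2, one_mul]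

variable [Finite G]

theorem wI_spec (h : Geo L z a) {d v : G} (hd : d ∉ L) (hd2 : orderOf d = 2) (hv : v ∈ L)
    (hv2 : orderOf v = 2) : orderOf (wI d v) = 2 ∧ Commute (wI d v) d ∧ Commute (wI d v) v := by
  refine half_pow_central (mul_self_of_orderOf_two hd2) (mul_self_of_orderOf_two hv2) ?_
  by_contra hodd
  obtain ⟨g, hg⟩ := isConj_iff.1 (isConj_of_odd (mul_self_of_orderOf_two hd2)
    (mul_self_of_orderOf_two hv2) (Nat.not_even_iff_odd.1 hodd))
  exact hd ((h.conj_mem_iff g d).1 (hg ▸ hv))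

theorem conj_of_line (h : Geo L z a) {d : G} (hd : d ∉ L) (hd2 : orderOf d = 2) {v w : G}
    (hv : v ∈ L) (hw : w ∈ L) (hv2 : orderOf v = 2) (hw2 : orderOf w = 2) (hvd : Commute v d)
    (hwd : Commute w d) : ∃ g, Commute g d ∧ g * v * g⁻¹ = w := by
  have e1 := mul_self_of_orderOf_two hv2
  have e2 := mul_self_of_orderOf_two hw2
  have hodd : Odd (orderOf (v * w)) := by
    by_contra hev
    have hev' := Nat.not_odd_iff_even.1 hev
    obtain ⟨c1, c2, c3⟩ := half_pow_central e1 e2 hev'
    have cL : (v * w) ^ (orderOf (v * w) / 2) ∈ L := L.pow_mem (L.mul_mem hv hw) _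
    have cd : Commute ((v * w) ^ (orderOf (v * w) / 2)) d := (hvd.mul_left hwd).pow_left _
    have a1 := h.uq' hd hd2 cL hv c1 hv2 cd hvd c2
    have a2 := h.uq' hd hd2 cL hw c1 hw2 cd hwd c3
    have : v * w = 1 := by rw [← a2.symm.trans a1, e2]
    rw [this] at hev'
    simp at hev'
  obtain ⟨n, hn⟩ := exists_zpow_conj_of_odd e1 e2 hodd
  exact ⟨_, (hvd.mul_left hwd).zpow_left n, hn⟩

theorem wI_A (h : Geo L z a) {y v : G} (hy : y ∈ L) (hy2 : orderOf y = 2) (hya : Commute y a)
    (hv : v ∈ L) (hv2 : orderOf v = 2) (hvy : Commute v (a * y)) : wI a v = a * y := by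
  have hay := h.line_mul h.haL h.ha hy hy2 hya
  have hayL := h.mul_notMem h.haL hy
  have ea := mul_self_of_orderOf_two h.ha
  have hyay : Commute y (a * y) := hya.mul_right (Commute.refl y)
  have key : Commute v a → wI a v = a * y := by
    intro hva
    have hvy' : Commute v y := by
      have : y = a * (a * y) := by rw [← mul_assoc, ea, one_mul]
      rw [this]; exact hva.mul_right hvy
    have : v = y := h.uq v hv y hy hv2 hy2 hva hya hvy'
    subst this
    simp [wI, hay]
  obtain ⟨w2, wa, wv⟩ := h.wI_spec h.haL h.ha hv hv2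
  have way : Commute (wI a v) (a * y) :=
    (wI_commute ((Commute.refl a).mul_left hya) hvy.symm).symm
  by_cases hw : wI a v ∈ L
  · have : wI a v = v := h.uq' hayL hay hw hv w2 hv2 way hvy wv
    exact key (this ▸ wa)
  · by_cases h1 : a * wI a v = 1
    · have : wI a v = a := by
        have := eq_inv_of_mul_eq_one_right h1
        rwa [inv_eq_of_orderOf_two h.ha] at this
      exact key (this ▸ wv).symm
    · have hL := h.mul_mem h.haL hw
      have ew := mul_self_of_orderOf_two w2
      have h2 : orderOf (a * wI a v) = 2 := by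
        refine orderOf_two_of_mul_self ?_ h1
        calc a * wI a v * (a * wI a v) = a * (wI a v * a) * wI a v := by group
          _ = a * (a * wI a v) * wI a v := by rw [wa.eq]
          _ = (a * a) * (wI a v * wI a v) := by group
          _ = 1 := by rw [ea, ew, one_mul]
      have wy : Commute (wI a v) y := by
        have : y = a * (a * y) := by rw [← mul_assoc, ea, one_mul]
        rw [this]; exact wa.mul_right way
      have := h.uq _ hL y hy h2 hy2 ((Commute.refl a).mul_left wa) hya (hya.symm.mul_left wy)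
      rw [← this, ← mul_assoc, ea, one_mul]

theorem wI_B (h : Geo L z a) {y v : G} (hy : y ∈ L) (hy2 : orderOf y = 2) (hya : Commute y a)
    (hv : v ∈ L) (hv2 : orderOf v = 2) (hvy : Commute v y) (hne : v ≠ y) : wI a v = y := by
  obtain ⟨w2, wa, wv⟩ := h.wI_spec h.haL h.ha hv hv2
  have wy : Commute (wI a v) y := (wI_commute hya hvy.symm).symm
  by_cases hw : wI a v ∈ L
  · exact h.uq _ hw y hy w2 hy2 wa hya wy
  · exact absurd (h.uq' hw w2 hv hy hv2 hy2 wv.symm wy.symm hvy) hne

/-- (C2): a point outside `M` commutes with a point of `M` on each line `a y`. -/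
theorem exists_pt (h : Geo L z a) {M : Subgroup G} (hMa : centralizer {a} ≤ M)
    (hMaz : centralizer {a * z} ≤ M) {v : G} (hv : v ∈ L) (hv2 : orderOf v = 2) (hvM : v ∉ M)
    {y : G} (hy : y ∈ L) (hy2 : orderOf y = 2) (hya : Commute y a) :
    ∃ w ∈ L, orderOf w = 2 ∧ Commute w v ∧ w ∈ M ∧ Commute w (a * y) := by
  have hay := h.line_mul h.haL h.ha hy hy2 hya
  have hayL := h.mul_notMem h.haL hy
  have ea := mul_self_of_orderOf_two h.ha
  have ey := mul_self_of_orderOf_two hy2
  have hC : ∀ {c d g : G}, g ∈ M → g * c * g⁻¹ = d → centralizer {c} ≤ M → ∀ x, Commute x d → x ∈ M := by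
    intro c d g hg hcd hc x hx
    have : Commute (g⁻¹ * x * g⁻¹⁻¹) (g⁻¹ * d * g⁻¹⁻¹) := commute_conj_iff.2 hx
    rw [← hcd] at this
    have h2 : g⁻¹ * x * g ∈ M := by
      apply hc
      rw [mem_centralizer_singleton_iff]
      simpa [mul_assoc, Commute, SemiconjBy] using this
    have := M.mul_mem (M.mul_mem hg h2) (M.inv_mem hg)
    simpa [mul_assoc] using this
  have hM' : ∀ x, Commute x a → x ∈ M := fun x hx =>
    hMa (mem_centralizer_singleton_iff.2 hx.eq)
  obtain ⟨g, hga, hg⟩ := h.conj_of_line h.haL h.ha h.hzL hy h.hz hy2 h.haz hya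
  have hb : ∀ x, Commute x (a * y) → x ∈ M := by
    refine hC (hM' g hga) ?_ hMaz
    rw [← hg]
    calc g * (a * z) * g⁻¹ = (g * a) * z * g⁻¹ := by group
      _ = (a * g) * z * g⁻¹ := by rw [hga.eq]
      _ = _ := by group
  obtain ⟨w2, wb, wv⟩ := h.wI_spec hayL hay hv hv2
  by_cases hw : wI (a * y) v ∈ L
  · exact ⟨_, hw, w2, wv, hb _ wb, wb⟩
  · exfalso
    set w := wI (a * y) v with hwdef
    set b := a * y with hbdef
    have eb := mul_self_of_orderOf_two hay
    have ew := mul_self_of_orderOf_two w2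
    by_cases h1 : b * w = 1
    · have : w = b := by
        have := eq_inv_of_mul_eq_one_right h1
        rwa [inv_eq_of_orderOf_two hay] at this
      exact hvM (hb v (this ▸ wv).symm)
    · have hL := h.mul_mem hayL hw
      have h2 : orderOf (b * w) = 2 := by
        refine orderOf_two_of_mul_self ?_ h1
        calc b * w * (b * w) = b * (w * b) * w := by group
          _ = b * (b * w) * w := by rw [wb.eq]
          _ = (b * b) * (w * w) := by group
          _ = 1 := by rw [eb, ew, one_mul]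
      have hyb : Commute y b := hya.mul_right (Commute.refl y)
      obtain ⟨g', hg'b, hg'⟩ := h.conj_of_line hayL hay hy hL hy2 h2 hyb
        ((Commute.refl b).mul_left wb)
      refine hvM (hC (hb g' hg'b) (c := a) (d := w) ?_ hMa v wv.symm)
      have e1 : a = b * y := by rw [hbdef, mul_assoc, ey, mul_one]
      calc g' * a * g'⁻¹ = (g' * b) * y * g'⁻¹ := by rw [e1]; group
        _ = (b * g') * y * g'⁻¹ := by rw [hg'b.eq]
        _ = b * (g' * y * g'⁻¹) := by group
        _ = w := by rw [hg', ← mul_assoc, eb, one_mul]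

end Geo

theorem card_filter_conj [Fintype G] (p : G → Prop) (hp : ∀ g v, p v → p (g * v * g⁻¹)) {b c : G}
    [DecidablePred fun v => p v ∧ Commute v c] [DecidablePred fun v => p v ∧ Commute v b]
    (hbc : IsConj b c) :
    #{v ∈ (univ : Finset G) | p v ∧ Commute v c} = #{v ∈ (univ : Finset G) | p v ∧ Commute v b} := by
  obtain ⟨g, rfl⟩ := isConj_iff.1 hbc
  symm
  refine Finset.card_nbij' (fun v => g * v * g⁻¹) (fun v => g⁻¹ * v * g) ?_ ?_ ?_ ?_
  · intro v hv
    simp only [coe_filter, mem_univ, true_and, Set.mem_ofPred_eq] at hv ⊢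
    exact ⟨hp g v hv.1, commute_conj_iff.2 hv.2⟩
  · intro v hv
    simp only [coe_filter, mem_univ, true_and, Set.mem_ofPred_eq] at hv ⊢
    refine ⟨by simpa using hp g⁻¹ v hv.1, ?_⟩
    have : Commute (g⁻¹ * v * g⁻¹⁻¹) (g⁻¹ * (g * b * g⁻¹) * g⁻¹⁻¹) := commute_conj_iff.2 hv.2
    simpa [mul_assoc] using this
  · intro v _; simp [mul_assoc]
  · intro v _; simp [mul_assoc]

theorem index_centralizer_eq [Finite G] (z : G) :
    (centralizer ({z} : Set G)).index = Nat.card {b // IsConj z b} := by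
  have h1 : centralizer ({z} : Set G) =
      (MulAction.stabilizer (ConjAct G) z).comap (ConjAct.toConjAct (G := G)).toMonoidHom := by
    ext g
    simp [mem_centralizer_singleton_iff, ConjAct.smul_def, mul_inv_eq_iff_eq_mul]
  rw [h1, Subgroup.index_comap_of_surjective _ ConjAct.toConjAct.surjective,
    MulAction.index_stabilizer, ConjAct.orbit_eq_carrier_conjClasses, ← Nat.card_coe_set_eq]
  refine Nat.card_congr (Equiv.subtypeEquivRight fun b => ?_)
  rw [ConjClasses.mem_carrier_iff_mk_eq, ConjClasses.mk_eq_mk_iff_isConj]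
  exact ⟨IsConj.symm, IsConj.symm⟩

theorem Geo.count [Finite G] {L : Subgroup G} {z a : G} (h : Geo L z a) {M : Subgroup G}
    (hMa : centralizer {a} ≤ M) (hMaz : centralizer {a * z} ≤ M) {v : G} (hzv : IsConj z v)
    (hvM : v ∉ M) :
    3 * (Nat.card {b // IsConj a b ∧ b * z = z * b}) ^ 2 * (centralizer ({z} : Set G)).index ≤
      (Nat.card {b // IsConj a b}) ^ 2 := by
  classical
  have := Fintype.ofFinite G
  let pt : G → Prop := fun v => v ∈ L ∧ orderOf v = 2
  let ln : G → Prop := fun v => v ∉ L ∧ orderOf v = 2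
  have hpt : ∀ g v, pt v → pt (g * v * g⁻¹) := fun g v hv =>
    ⟨(h.conj_mem_iff g v).2 hv.1, by rw [H3.orderOf_conj, hv.2]⟩
  have hln : ∀ g v, ln v → ln (g * v * g⁻¹) := fun g v hv =>
    ⟨fun h' => hv.1 ((h.conj_mem_iff g v).1 h'), by rw [H3.orderOf_conj, hv.2]⟩
  have pt_iff : ∀ v, IsConj z v ↔ pt v := fun v =>
    ⟨fun hv => by obtain ⟨g, rfl⟩ := isConj_iff.1 hv; exact hpt g z ⟨h.hzL, h.hz⟩,
      fun hv => h.pt v hv.1 hv.2⟩
  have ln_iff : ∀ v, IsConj a v ↔ ln v := fun v =>
    ⟨fun hv => by obtain ⟨g, rfl⟩ := isConj_iff.1 hv; exact hln g a ⟨h.haL, h.ha⟩,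
      fun hv => h.ln v hv.1 hv.2⟩
  let P : G → Finset G := fun b => {v ∈ (univ : Finset G) | pt v ∧ Commute v b}
  let Q : G → Finset G := fun b => {v ∈ (univ : Finset G) | ln v ∧ Commute v b}
  have memP : ∀ b v, v ∈ P b ↔ pt v ∧ Commute v b := fun b v => by simp [P]
  let Pts : Finset G := {v ∈ (univ : Finset G) | pt v}
  let Lns : Finset G := {v ∈ (univ : Finset G) | ln v}
  set k := #(P a) with hk
  set m := #(Q z) with hm
  have hNz : (centralizer ({z} : Set G)).index = #Pts := by
    rw [index_centralizer_eq, Nat.card_eq_fintype_card, Fintype.card_subtype]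
    congr 1; ext v; simp only [Pts, pt_iff]
  have hNa : Nat.card {b // IsConj a b} = #Lns := by
    rw [Nat.card_eq_fintype_card, Fintype.card_subtype]
    congr 1; ext v; simp only [Lns, ln_iff]
  have hmm : Nat.card {b // IsConj a b ∧ b * z = z * b} = m := by
    rw [Nat.card_eq_fintype_card, Fintype.card_subtype]
    congr 1; ext v; rw [mem_filter, mem_filter, ln_iff]; rfl
  have hPk : ∀ d, ln d → #(P d) = k := fun d hd => card_filter_conj pt hpt ((ln_iff d).2 hd)
  have hQm : ∀ v, pt v → #(Q v) = m := fun v hv => card_filter_conj ln hln ((pt_iff v).2 hv)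
  have hdc : #Lns * k = #Pts * m := by
    refine Finset.card_mul_eq_card_mul (fun d v => Commute v d) ?_ ?_
    · intro d hd
      rw [← hPk d (by simpa [Lns] using hd)]
      congr 1; ext v; simp [Pts, P]
    · intro v hv
      rw [← hQm v (by simpa [Pts] using hv)]
      congr 1; ext d; simp only [Lns, Q, mem_bipartiteBelow, mem_filter, mem_univ, true_and]
      exact and_congr_right fun _ => ⟨Commute.symm, Commute.symm⟩
  have hkpos : 0 < k := card_pos.2 ⟨z, (memP a z).2 ⟨⟨h.hzL, h.hz⟩, h.haz⟩⟩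
  have hv := (pt_iff v).1 hzv
  -- the map recovering the point of `P a`
  let f : G → G := fun v => if wI a v ∈ L then wI a v else a * wI a v
  have ea := mul_self_of_orderOf_two h.ha
  have fA : ∀ y ∈ P a, ∀ w, pt w → Commute w (a * y) → f w = y := by
    intro y hy w hw hwy
    obtain ⟨⟨hyL, hy2⟩, hya⟩ := (memP a y).1 hy
    have := h.wI_A hyL hy2 hya hw.1 hw.2 hwy
    simp only [f, this, if_neg (h.mul_notMem h.haL hyL), ← mul_assoc, ea, one_mul]
  have fB : ∀ y ∈ P a, ∀ w, pt w → Commute w y → w ≠ y → f w = y := by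
    intro y hy w hw hwy hne
    obtain ⟨⟨hyL, hy2⟩, hya⟩ := (memP a y).1 hy
    have := h.wI_B hyL hy2 hya hw.1 hw.2 hwy hne
    simp only [f, this, if_pos hyL]
  -- (C2)
  have hC2 : 2 * k + 1 ≤ #(P v) := by
    let Y : Finset G := {w ∈ P v | w ∈ M}
    have h1 : k ≤ #Y := by
      have : P a ⊆ Y.image f := by
        intro y hy
        obtain ⟨⟨hyL, hy2⟩, hya⟩ := (memP a y).1 hy
        obtain ⟨w, hwL, hw2, hwv, hwM, hwy⟩ := h.exists_pt hMa hMaz hv.1 hv.2 hvM hyL hy2 hya
        exact mem_image.2 ⟨w, mem_filter.2 ⟨(memP v w).2 ⟨⟨hwL, hw2⟩, hwv⟩, hwM⟩,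
          fA y hy w ⟨hwL, hw2⟩ hwy⟩
      exact (card_le_card this).trans card_image_le
    have h2 : #Y + 1 ≤ #{w ∈ P v | w ∉ M} := by
      have hsub : insert v (Y.image (· * v)) ⊆ {w ∈ P v | w ∉ M} := by
        intro x hx
        rcases mem_insert.1 hx with rfl | hx
        · exact mem_filter.2 ⟨(memP _ _).2 ⟨hv, Commute.refl _⟩, hvM⟩
        · obtain ⟨w, hw, rfl⟩ := mem_image.1 hx
          obtain ⟨hw, hwM⟩ := mem_filter.1 hw
          obtain ⟨⟨hwL, hw2⟩, hwv⟩ := (memP v w).1 hw
          have hnM : w * v ∉ M := fun hm => hvM (by simpa using M.mul_mem (M.inv_mem hwM) hm)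
          refine mem_filter.2 ⟨(memP _ _).2 ⟨⟨L.mul_mem hwL hv.1, ?_⟩,
            hwv.mul_left (Commute.refl v)⟩, hnM⟩
          refine orderOf_two_of_mul_self ?_ (fun h1 => hnM (h1 ▸ M.one_mem))
          calc w * v * (w * v) = w * (v * w) * v := by group
            _ = w * (w * v) * v := by rw [hwv.eq]
            _ = (w * w) * (v * v) := by group
            _ = 1 := by rw [mul_self_of_orderOf_two hw2, mul_self_of_orderOf_two hv.2, one_mul]
      have hnot : v ∉ Y.image (· * v) := by
        intro hx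
        obtain ⟨w, hw, hwv⟩ := mem_image.1 hx
        have : w = 1 := by simpa using hwv
        obtain ⟨hw, -⟩ := mem_filter.1 hw
        exact ne_one_of_orderOf_two ((memP v w).1 hw).1.2 this
      have := card_le_card hsub
      rwa [card_insert_of_notMem hnot, card_image_of_injective _ (mul_left_injective v)] at this
    have h3 := card_filter_add_card_filter_not (s := P v) (fun w => w ∈ M)
    change #Y + _ = _ at h3
    omega
  -- (C1)
  have hC1 : k * (3 * k) ≤ #Pts := by
    have h1 : ∀ y ∈ P a, 3 * k ≤ #{w ∈ Pts | f w = y} := by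
      intro y hy
      obtain ⟨⟨hyL, hy2⟩, hya⟩ := (memP a y).1 hy
      have hA : #(P (a * y)) = k :=
        hPk _ ⟨h.mul_notMem h.haL hyL, h.line_mul h.haL h.ha hyL hy2 hya⟩
      have hB : #(P y) = #(P v) :=
        card_filter_conj pt hpt (hzv.symm.trans ((pt_iff y).2 ⟨hyL, hy2⟩))
      have hyP : y ∈ P y := (memP _ _).2 ⟨⟨hyL, hy2⟩, Commute.refl _⟩
      have hB' := card_erase_add_one hyP
      have hdis : Disjoint (P (a * y)) ((P y).erase y) := by
        rw [Finset.disjoint_left]
        intro w hw1 hw2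
        obtain ⟨hne, hw2⟩ := mem_erase.1 hw2
        obtain ⟨hw, hway⟩ := (memP _ _).1 hw1
        obtain ⟨-, hwy⟩ := (memP _ _).1 hw2
        have hwa : Commute w a := by
          have : a = a * y * y := by rw [mul_assoc, mul_self_of_orderOf_two hy2, mul_one]
          rw [this]; exact hway.mul_right hwy
        exact hne (h.uq w hw.1 y hyL hw.2 hy2 hwa hya hwy)
      have hsub : P (a * y) ∪ (P y).erase y ⊆ {w ∈ Pts | f w = y} := by
        intro w hw
        rcases mem_union.1 hw with hw | hw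
        · obtain ⟨hw, hway⟩ := (memP _ _).1 hw
          exact mem_filter.2 ⟨by simpa [Pts] using hw, fA y hy w hw hway⟩
        · obtain ⟨hne, hw⟩ := mem_erase.1 hw
          obtain ⟨hw, hwy⟩ := (memP _ _).1 hw
          exact mem_filter.2 ⟨by simpa [Pts] using hw, fB y hy w hw hwy hne⟩
      have := card_le_card hsub
      rw [card_union_of_disjoint hdis] at this
      omega
    calc k * (3 * k) = ∑ _y ∈ P a, 3 * k := by simp [hk]
      _ ≤ ∑ y ∈ P a, #{w ∈ Pts | f w = y} := sum_le_sum h1
      _ = #{w ∈ Pts | f w ∈ P a} := sum_card_fiberwise_eq_card_filter _ _ _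
      _ ≤ #Pts := card_filter_le _ _
  rw [hNz, hNa, hmm]
  refine Nat.le_of_mul_le_mul_right ?_ (pow_pos hkpos 2)
  calc 3 * m ^ 2 * #Pts * k ^ 2 = (k * (3 * k)) * (#Pts * m ^ 2) := by ring
    _ ≤ #Pts * (#Pts * m ^ 2) := Nat.mul_le_mul_right _ hC1
    _ = (#Pts * m) ^ 2 := by ring
    _ = (#Lns * k) ^ 2 := by rw [hdc]
    _ = #Lns ^ 2 * k ^ 2 := by ring

end Cfsg.Agent.H8.DS
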