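import Cfsg.Agent.H8.DS1
import Cfsg.Agent.H1.Frobenius
import Cfsg.Agent.H2.MaxClass

/-! Dihedral `2`-subgroups in terms of generators; the centralizer of the central involution. -/

set_option autoImplicit false

namespace Cfsg.Agent.H8.DS

open Cfsg.Agent.H3 Cfsg.Agent.H1 Subgroup

variable {G : Type*} [Group G]

theorem odd_fix {g c x : G} {e : ℕ} (hg : (orderOf g).Coprime 2) (hc : c ^ 2 ^ e = 1)
    (hgc : Commute g c) (h : g * x * g⁻¹ = c * x) : c = 1 := by
  have key : ∀ n : ℕ, g ^ n * x * (g ^ n)⁻¹ = c ^ n * x := by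
    intro n
    induction n with
    | zero => simp
    | succ n ih =>
      calc g ^ (n + 1) * x * (g ^ (n + 1))⁻¹ = g * (g ^ n * x * (g ^ n)⁻¹) * g⁻¹ := by group
        _ = (g * c ^ n) * x * g⁻¹ := by rw [ih]; group
        _ = c ^ n * (g * x * g⁻¹) := by rw [(hgc.pow_right n).eq]; group
        _ = c ^ (n + 1) * x := by rw [h]; group
  have h1 := key (orderOf g)
  rw [pow_orderOf_eq_one] at h1
  have h2 : c ^ orderOf g = 1 := by simpa using h1.symm
  exact eq_one_of_pow_of_coprime hc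
    (Nat.Coprime.coprime_dvd_left (orderOf_dvd_of_pow_eq_one h2) hg)

theorem odd_fix_cyclic {g : G} (hg : (orderOf g).Coprime 2) (e : ℕ) : ∀ x : G, x ^ 2 ^ e = 1 →
    g * x * g⁻¹ ∈ zpowers x → g * x * g⁻¹ = x := by
  induction e with
  | zero => intro x hx _; simp at hx; simp [hx]
  | succ e ih =>
    intro x hx hm
    obtain ⟨j, hj⟩ := mem_zpowers_iff.1 hm
    have h2 : g * x ^ 2 * g⁻¹ = x ^ 2 := by
      apply ih
      · rw [← pow_mul, ← pow_succ', hx]
      · rw [← conj_pow, ← hj, ← zpow_natCast (x ^ j), ← zpow_mul, mul_comm, zpow_mul, zpow_natCast]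
        exact zpow_mem (mem_zpowers _) _
    have hc : Commute g (x ^ 2) := by
      change _ = _
      exact mul_inv_eq_iff_eq_mul.1 h2
    have hc' : ∀ i : ℤ, Commute g (x ^ (2 * i)) := fun i => by
      rw [zpow_mul, zpow_ofNat]; exact hc.zpow_right i
    obtain ⟨i, rfl | rfl⟩ := Int.even_or_odd' j
    · have := (hc' i).eq
      rw [hj] at this
      have h3 : g * (g * x * g⁻¹) = g * x := by rw [this]; group
      exact mul_left_cancel h3
    · have h4 : x ^ (2 * i) = 1 := by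
        refine odd_fix (x := x) (e := e + 1) hg ?_ (hc' i) ?_
        · rw [← zpow_natCast, ← zpow_mul, mul_comm, zpow_mul, zpow_natCast, hx, one_zpow]
        · rw [← hj, zpow_add, zpow_one]
      rw [← hj, zpow_add, h4, one_mul, zpow_one]

/-- `T` is dihedral of order `2 ^ (k + 2)` with rotation `u` and reflection `a`. -/
structure Dih (T : Subgroup G) (u a : G) (k : ℕ) : Prop where
  ord : orderOf u = 2 ^ (k + 1)
  aa : a * a = 1
  inv : a * u * a⁻¹ = u⁻¹
  nm : ∀ i : ℤ, a ≠ u ^ i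
  mem : ∀ x, x ∈ T ↔ ∃ i : ℤ, x = u ^ i ∨ x = u ^ i * a

namespace Dih

variable {T : Subgroup G} {u a : G} {k : ℕ}

theorem rot_mem (h : Dih T u a k) (i : ℤ) : u ^ i ∈ T := (h.mem _).2 ⟨i, Or.inl rfl⟩
theorem refl_mem (h : Dih T u a k) (i : ℤ) : u ^ i * a ∈ T := (h.mem _).2 ⟨i, Or.inr rfl⟩
theorem u_mem (h : Dih T u a k) : u ∈ T := by simpa using h.rot_mem 1
theorem a_mem (h : Dih T u a k) : a ∈ T := by simpa using h.refl_mem 0
theorem ainv (h : Dih T u a k) : a⁻¹ = a := inv_eq_of_mul_eq_one_right h.aa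

theorem a_mul (h : Dih T u a k) (i : ℤ) : a * u ^ i = u ^ (-i) * a := mul_zpow_of_inverts h.inv i

theorem refl_ne (h : Dih T u a k) (i j : ℤ) : u ^ i * a ≠ u ^ j := fun e =>
  h.nm (j - i) (by rw [sub_eq_neg_add, zpow_add, ← e, zpow_neg]; group)

theorem refl_mul_refl (h : Dih T u a k) (i j : ℤ) : u ^ i * a * (u ^ j * a) = u ^ (i - j) := by
  calc u ^ i * a * (u ^ j * a) = u ^ i * (a * u ^ j) * a := by group
    _ = u ^ i * u ^ (-j) * (a * a) := by rw [h.a_mul]; group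
    _ = _ := by rw [h.aa]; group

theorem refl_sq (h : Dih T u a k) (i : ℤ) : u ^ i * a * (u ^ i * a) = 1 := by
  rw [h.refl_mul_refl]; simp

theorem orderOf_refl (h : Dih T u a k) (i : ℤ) : orderOf (u ^ i * a) = 2 :=
  orderOf_two_of_mul_self (h.refl_sq i) (by simpa using h.refl_ne i 0)

theorem conj_refl (h : Dih T u a k) (i j : ℤ) :
    u ^ j * (u ^ i * a) * (u ^ j)⁻¹ = u ^ (i + 2 * j) * a := by
  rw [← zpow_neg, mul_assoc, mul_assoc, h.a_mul]; group

theorem pow_eq_one (h : Dih T u a k) : u ^ 2 ^ (k + 1) = 1 := h.ord ▸ pow_orderOf_eq_one u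

theorem zpow_pow_eq_one (h : Dih T u a k) (i : ℤ) : (u ^ i) ^ 2 ^ (k + 1) = 1 := by
  rw [← zpow_natCast, ← zpow_mul, mul_comm, zpow_mul, zpow_natCast, h.pow_eq_one, one_zpow]

theorem z_sq (h : Dih T u a k) : u ^ 2 ^ k * u ^ 2 ^ k = 1 := by
  rw [← pow_add, ← two_mul, ← pow_succ', h.pow_eq_one]

theorem z_ne (h : Dih T u a k) : u ^ 2 ^ k ≠ 1 :=
  pow_ne_one_of_lt_orderOf (by positivity) (by rw [h.ord]; exact Nat.pow_lt_pow_succ one_lt_two)

theorem orderOf_z (h : Dih T u a k) : orderOf (u ^ 2 ^ k) = 2 :=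
  orderOf_two_of_mul_self h.z_sq h.z_ne

theorem z_mem (h : Dih T u a k) : u ^ 2 ^ k ∈ T := T.pow_mem h.u_mem _

theorem rot_inv (h : Dih T u a k) {i : ℤ} (hi : u ^ i * u ^ i = 1) :
    u ^ i = 1 ∨ u ^ i = u ^ 2 ^ k :=
  H2.eq_one_or_eq_of_sq_eq_one h.ord (zpow_mem (mem_zpowers u) i) (by rwa [pow_two])

theorem z_comm_a (h : Dih T u a k) : Commute (u ^ 2 ^ k) a :=
  half_pow_commute h.inv _ (by rw [← pow_succ', h.pow_eq_one])

theorem z_comm (h : Dih T u a k) {x : G} (hx : x ∈ T) : Commute (u ^ 2 ^ k) x := by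
  obtain ⟨i, rfl | rfl⟩ := (h.mem x).1 hx
  · exact ((Commute.refl u).pow_left _).zpow_right _
  · exact (((Commute.refl u).pow_left _).zpow_right _).mul_right h.z_comm_a

theorem shift (h : Dih T u a k) (j : ℤ) : Dih T u (u ^ j * a) k where
  ord := h.ord
  aa := h.refl_sq j
  inv := by
    calc u ^ j * a * u * (u ^ j * a)⁻¹ = u ^ j * (a * u * a⁻¹) * (u ^ j)⁻¹ := by group
      _ = u⁻¹ := by rw [h.inv]; group
  nm := fun i => h.refl_ne j i
  mem := fun x => by
    rw [h.mem]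
    constructor
    · rintro ⟨i, rfl | rfl⟩
      · exact ⟨i, Or.inl rfl⟩
      · exact ⟨i - j, Or.inr (by group)⟩
    · rintro ⟨i, rfl | rfl⟩
      · exact ⟨i, Or.inl rfl⟩
      · exact ⟨i + j, Or.inr (by group)⟩

/-- an element of `T` whose square is not `1` is a rotation -/
theorem rot_of_sq (h : Dih T u a k) {x : G} (hx : x ∈ T) (h2 : x * x ≠ 1) : ∃ i : ℤ, x = u ^ i := by
  obtain ⟨i, rfl | rfl⟩ := (h.mem x).1 hx
  · exact ⟨i, rfl⟩
  · exact absurd (h.refl_sq i) h2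

/-- an element of odd order centralizing `z` and normalizing a subgroup of `T` centralizes it -/
theorem centralizes_of_odd (h : Dih T u a k) {D : Subgroup G} (hD : D ≤ T) {g : G}
    (hgz : Commute g (u ^ 2 ^ k)) (hgD : g ∈ normalizer (D : Set G))
    (hg : (orderOf g).Coprime 2) : g ∈ centralizer (D : Set G) := by
  obtain ⟨n, hn⟩ := (le_zpowers_iff u (D ⊓ zpowers u)).1 inf_le_right
  have hxD : u ^ n ∈ D ⊓ zpowers u := hn ▸ mem_zpowers _
  have hx : g * u ^ n * g⁻¹ = u ^ n := by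
    by_cases h2 : u ^ n * u ^ n = 1
    · rcases h.rot_inv (i := n) (by simpa using h2) with h3 | h3
      · rw [zpow_natCast] at h3; simp [h3]
      · rw [zpow_natCast] at h3; rw [h3, hgz.eq]; simp
    · refine odd_fix_cyclic hg (k + 1) _ (by simpa using h.zpow_pow_eq_one n) ?_
      have h3 := conj_mem_of_mem_normalizer hgD hxD.1
      obtain ⟨i, hi⟩ := h.rot_of_sq (hD h3) (by
        rw [conj_mul]; intro e; apply h2; simpa [mul_assoc] using congrArg (g⁻¹ * · * g) e)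
      rw [← hn]
      exact ⟨h3, hi ▸ zpow_mem (mem_zpowers u) i⟩
  have hrot : ∀ i : ℤ, u ^ i ∈ D → Commute g (u ^ i) := by
    intro i hi
    have : u ^ i ∈ zpowers (u ^ n) := hn ▸ ⟨hi, zpow_mem (mem_zpowers u) i⟩
    obtain ⟨j, hj⟩ := mem_zpowers_iff.1 this
    rw [← hj]
    exact Commute.zpow_right (mul_inv_eq_iff_eq_mul.1 hx) j
  rw [mem_centralizer_iff]
  intro x hx
  obtain ⟨i, rfl | rfl⟩ := (h.mem x).1 (hD hx)
  · exact (hrot i hx).symm.eq
  · have h3 := conj_mem_of_mem_normalizer hgD hx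
    obtain ⟨j, hj | hj⟩ := (h.mem _).1 (hD h3)
    · exfalso
      have h4 := (hrot j (hj ▸ h3)).eq
      apply h.refl_ne i j
      calc u ^ i * a = g⁻¹ * (g * (u ^ i * a) * g⁻¹) * g := by group
        _ = g⁻¹ * (u ^ j * g) := by rw [hj]; group
        _ = u ^ j := by rw [← h4]; group
    · have h5 : u ^ (j - i) ∈ D := by
        rw [← h.refl_mul_refl, ← hj]; exact D.mul_mem h3 hx
      have h6 : u ^ (j - i) = 1 :=
        odd_fix (x := u ^ i * a) hg (h.zpow_pow_eq_one _) (hrot _ h5) (by rw [hj]; group)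
      have h7 : g * (u ^ i * a) * g⁻¹ = u ^ i * a := by
        rw [hj, show j = (j - i) + i by ring, zpow_add, h6, one_mul]
      exact (mul_inv_eq_iff_eq_mul.1 h7).symm

theorem le_centralizer (h : Dih T u a k) : T ≤ centralizer {u ^ 2 ^ k} := fun _ hx =>
  mem_centralizer_singleton_iff.2 (h.z_comm hx).symm.eq

/-- the centralizer of the central involution has a normal `2`-complement -/
theorem exists_complement [Finite G] (h : Dih T u a k) (hT : IsSylowIn 2 T ⊤) :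
    ∃ K : Subgroup G, Odd (Nat.card K) ∧ K ≤ centralizer {u ^ 2 ^ k} ∧
      centralizer {u ^ 2 ^ k} ≤ normalizer (K : Set G) ∧
      ∀ x ∈ centralizer ({u ^ 2 ^ k} : Set G), ∃ y ∈ K, ∃ i : ℕ, x = y * u ^ i ∨ x = y * u ^ i * a := by
  have : Fact (Nat.Prime 2) := ⟨Nat.prime_two⟩
  have hT' : IsSylowIn 2 T (centralizer {u ^ 2 ^ k}) := hT.of_le h.le_centralizer le_top
  have hN := hT'.frobenius fun D hD g hg hgo =>
    h.centralizes_of_odd hD (mem_centralizer_singleton_iff.1 hg.1) hg.2 hgo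
  refine ⟨pResidualOf 2 _, ?_, pResidualOf_le _, le_normalizer_pResidualOf _, fun x hx => ?_⟩
  · rw [← Nat.not_even_iff_odd, even_iff_two_dvd]
    exact hasNormalPComplement_subgroup_iff_not_dvd.1 hN
  · obtain ⟨y, hy, t, ht, rfl⟩ := hT'.exists_mul_pResidualOf hx
    obtain ⟨i, hi⟩ := (h.mem t).1 ht
    obtain ⟨n, hn⟩ : u ^ i ∈ Submonoid.powers u :=
      mem_powers_iff_mem_zpowers.2 (zpow_mem (mem_zpowers u) i)
    refine ⟨y, hy, n, ?_⟩
    simp only at hn
    rcases hi with rfl | rfl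
    · left; rw [hn]
    · right; rw [hn, mul_assoc]

end Dih

end Cfsg.Agent.H8.DS
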