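import Cfsg.Agent.H8.DS2
import Cfsg.Agent.DH.Ch

/-! The core case of S1916: `G = L⟨a⟩` with dihedral Sylow `2`-subgroups. -/

set_option autoImplicit false

namespace Cfsg.Agent.H8.DS

open Cfsg.Agent.H3 Cfsg.Agent.H1 Subgroup

theorem zpow_mem_iff_even {G : Type*} [Group G] {L : Subgroup G} (hL2 : L.index = 2) {u : G}
    (huL : u ∉ L) (i : ℤ) : u ^ i ∈ L ↔ Even i := by
  have h2 : ∀ j : ℤ, u ^ (2 * j) ∈ L := fun j => by
    rw [two_mul, zpow_add]; exact mul_self_mem_of_index_two hL2 _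
  obtain ⟨j, rfl | rfl⟩ := Int.even_or_odd' i
  · exact ⟨fun _ => even_two_mul j, fun _ => h2 j⟩
  · refine ⟨fun h => ?_, fun h => absurd h (by simp)⟩
    rw [zpow_add, zpow_one] at h
    exact absurd ((L.mul_mem_cancel_left (h2 j)).1 h) huL

theorem core {G : Type*} [Group G] [Finite G] {L : Subgroup G} (hL2 : L.index = 2)
    (hmin : ∀ N : Subgroup G, N.Normal → ∀ x ∈ N, x ∈ L → x ≠ 1 → L ≤ N)
    {T : Subgroup G} (hT : IsSylowIn 2 T ⊤) {u a : G} {k : ℕ} (hD : Dih T u a (k + 1))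
    (huL : u ∉ L) (haL : a ∉ L) (hy : ∃ i : ℤ, IsConj (u ^ 2 ^ (k + 1)) (u ^ i * a))
    (uq : ∀ v ∈ L, ∀ w ∈ L, orderOf v = 2 → orderOf w = 2 → Commute v a → Commute w a →
      Commute v w → v = w)
    {M : Subgroup G} (hMa : centralizer {a} ≤ M) (hMaz : centralizer {a * u ^ 2 ^ (k + 1)} ≤ M) :
    L ≤ M := by
  have : Fact (Nat.Prime 2) := ⟨Nat.prime_two⟩
  have hN : L.Normal := normal_of_index_eq_two hL2
  have ha : orderOf a = 2 := by simpa using hD.orderOf_refl 0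
  have hzL : u ^ 2 ^ (k + 1) ∈ L := by
    rw [pow_succ, pow_mul, pow_two]; exact mul_self_mem_of_index_two hL2 _
  have hcm : ∀ {x y : G}, IsConj x y → (x ∈ L ↔ y ∈ L) := by
    intro x y h
    obtain ⟨g, rfl⟩ := isConj_iff.1 h
    exact ⟨fun hx => hN.conj_mem _ hx g, fun hx => by simpa [mul_assoc] using hN.conj_mem _ hx g⁻¹⟩
  have hrefl : ∀ i : ℤ, u ^ i * a ∈ L ↔ ¬ Even i := fun i => by
    rw [mul_mem_iff_of_index_two hL2, zpow_mem_iff_even hL2 huL]; simp [haL]
  have hconj : ∀ i j : ℤ, (Even i ↔ Even j) → IsConj (u ^ i * a) (u ^ j * a) := by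
    intro i j hij
    obtain ⟨m, hm⟩ : Even (j - i) := by rw [Int.even_sub]; exact hij.symm
    exact isConj_iff.2 ⟨u ^ m, by rw [hD.conj_refl, show i + 2 * m = j by omega]⟩
  have hinv : ∀ v : G, orderOf v = 2 →
      IsConj v (u ^ 2 ^ (k + 1)) ∨ ∃ i : ℤ, IsConj v (u ^ i * a) := by
    intro v hv
    obtain ⟨g, -, hg⟩ := hT.exists_cj_le (isPGroup_zpowers_of_orderOf_two hv) le_top
    have h1 := hg (conj_mem_cj (mem_zpowers v))
    have h2 : orderOf (g * v * g⁻¹) = 2 := by rw [H3.orderOf_conj, hv]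
    obtain ⟨i, hi | hi⟩ := (hD.mem _).1 h1
    · rw [hi] at h2
      rcases hD.rot_inv (mul_self_of_orderOf_two h2) with h3 | h3
      · exact absurd h3 (ne_one_of_orderOf_two h2)
      · exact Or.inl (isConj_iff.2 ⟨g, hi.trans h3⟩)
    · exact Or.inr ⟨i, isConj_iff.2 ⟨g, hi⟩⟩
  obtain ⟨i0, hi0⟩ := hy
  have geo : Geo L (u ^ 2 ^ (k + 1)) a :=
    { idx := hL2, hz := hD.orderOf_z, hzL := hzL, ha := ha, haL := haL, haz := hD.z_comm_a
      pt := fun v hv hv2 => by
        rcases hinv v hv2 with h | ⟨i, h⟩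
        · exact h.symm
        · refine hi0.trans ((hconj i0 i ?_).trans h.symm)
          have h1 := (hrefl i0).1 ((hcm hi0).1 hzL)
          have h2 := (hrefl i).1 ((hcm h).1 hv)
          simp [h1, h2]
      ln := fun d hd hd2 => by
        rcases hinv d hd2 with h | ⟨i, h⟩
        · exact absurd ((hcm h).2 hzL) hd
        · have h2 : Even i := by
            by_contra h2
            exact hd ((hcm h).2 ((hrefl i).2 h2))
          have := hconj 0 i (by simp [h2])
          rw [zpow_zero, one_mul] at this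
          exact this.trans h.symm
      uq := uq }
  by_contra hLM
  obtain ⟨v, hzv, hvM⟩ : ∃ v, IsConj (u ^ 2 ^ (k + 1)) v ∧ v ∉ M := by
    by_contra hcon
    push Not at hcon
    apply hLM
    refine (hmin (normalClosure {u ^ 2 ^ (k + 1)}) inferInstance _
      (subset_normalClosure rfl) hzL hD.z_ne).trans ?_
    rw [normalClosure, closure_le]
    intro x hx
    obtain ⟨y, rfl, hy⟩ := Group.mem_conjugatesOfSet_iff.1 hx
    exact hcon x hy
  have h1 := geo.count hMa hMaz hzv hvM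
  obtain ⟨K, hK, hKz, hKn, hH⟩ := hD.exists_complement hT
  have h2 := DH.char_ineq L hL2 hmin (u ^ 2 ^ (k + 1)) a u K (k + 2) (by omega) hD.ord rfl huL haL
    ha hD.inv hK hKz hKn hH (by
      obtain ⟨g, hg⟩ := isConj_iff.1 hi0
      refine ⟨g, fun e => hD.refl_ne i0 (2 ^ (k + 1) : ℕ) ?_⟩
      rw [← hg, e, zpow_natCast])
  omega

theorem Dih.subgroupOf {G : Type*} [Group G] {T H : Subgroup G} {u a : G} {k : ℕ}
    (h : Dih T u a k) (hu : u ∈ H) (ha : a ∈ H) :
    Dih (T.subgroupOf H) (⟨u, hu⟩ : H) ⟨a, ha⟩ k where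
  ord := by rw [← h.ord, Subgroup.orderOf_mk]
  aa := Subtype.ext h.aa
  inv := Subtype.ext h.inv
  nm := fun i e => h.nm i (by simpa using congrArg Subtype.val e)
  mem := fun x => by
    rw [mem_subgroupOf, h.mem]
    simp [Subtype.ext_iff]

/-- The core case inside an ambient group. -/
theorem core_in {G : Type*} [Group G] [Finite G] {L H : Subgroup G} (hL : IsSimpleGroup L)
    {u a : G} (hLH : L ≤ H) (haH : a ∈ H) (hH : ∀ x ∈ H, x ∈ L ∨ x * a ∈ L)
    {T : Subgroup G} (hT : IsSylowIn 2 T H) {k : ℕ} (hD : Dih T u a (k + 1))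
    (huL : u ∉ L) (haL : a ∉ L) (hy : ∃ i : ℤ, ∃ g ∈ L, g * (u ^ i * a) * g⁻¹ = u ^ 2 ^ (k + 1))
    (uq : ∀ v ∈ L, ∀ w ∈ L, orderOf v = 2 → orderOf w = 2 → Commute v a → Commute w a →
      Commute v w → v = w)
    {M : Subgroup G} (hMa : ∀ x ∈ H, Commute x a → x ∈ M)
    (hMaz : ∀ x ∈ H, Commute x (a * u ^ 2 ^ (k + 1)) → x ∈ M) :
    L ≤ M := by
  have : Fact (Nat.Prime 2) := ⟨Nat.prime_two⟩
  have huH : u ∈ H := hT.le hD.u_mem
  have hL2 : (L.subgroupOf H).index = 2 := by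
    rw [index_eq_two_iff]
    refine ⟨⟨a, haH⟩, fun x => ?_⟩
    simp only [mem_subgroupOf, coe_mul]
    rcases hH x x.2 with h | h
    · exact Or.inr ⟨h, fun h' => haL ((L.mul_mem_cancel_left h).1 h')⟩
    · exact Or.inl ⟨h, fun h' => haL ((L.mul_mem_cancel_left h').1 h)⟩
  have key := core (G := H) hL2 (fun N hN x hxN hxL hx1 => by
      have h1 : (N.comap (inclusion hLH)).Normal := hN.comap _
      rcases hL.eq_bot_or_eq_top_of_normal _ h1 with h2 | h2
      · exfalso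
        have h3 : (⟨x, hxL⟩ : L) ∈ N.comap (inclusion hLH) := hxN
        rw [h2, mem_bot] at h3
        exact hx1 (Subtype.ext (congrArg (Subtype.val : L → G) h3))
      · intro y hy
        have h3 : (⟨y, hy⟩ : L) ∈ N.comap (inclusion hLH) := h2 ▸ mem_top _
        exact h3)
    (sylow_isSylowIn_top hT.toSylow) (hD.subgroupOf huH haH) huL haL
    (by
      obtain ⟨i, g, hg, e⟩ := hy
      exact ⟨i, (isConj_iff.2 ⟨⟨g, hLH hg⟩, Subtype.ext (by simpa using e)⟩).symm⟩)
    (fun v hv w hw hv2 hw2 hva hwa hvw => Subtype.ext (uq v hv w hw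
      (by rw [← hv2, orderOf_coe]) (by rw [← hw2, orderOf_coe])
      (congrArg Subtype.val hva.eq) (congrArg Subtype.val hwa.eq) (congrArg Subtype.val hvw.eq)))
    (M := M.subgroupOf H)
    (fun x hx => hMa x x.2 (congrArg Subtype.val (mem_centralizer_singleton_iff.1 hx)))
    (fun x hx => hMaz x x.2 (by
      simpa [commute_iff_eq] using congrArg Subtype.val (mem_centralizer_singleton_iff.1 hx)))
  intro x hx
  exact key (show (⟨x, hLH hx⟩ : H) ∈ L.subgroupOf H from hx)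

end Cfsg.Agent.H8.DS
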