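import Cfsg.Agent.H8.DS2
import Cfsg.Agent.H3.ZStar
import Cfsg.Agent.H1.Fusion

/-! Preliminaries for the reduction in S1916. -/

set_option autoImplicit false

namespace Cfsg.Agent.H8.DS

open Cfsg.Agent.H3 Cfsg.Agent.H1 Subgroup

variable {G : Type*} [Group G]

theorem not_central {L : Subgroup G} (hL : IsSimpleGroup L) (hLn : ¬ IsMulCommutative L) {z : G}
    (hz : z ∈ L) (hz1 : z ≠ 1) (hc : z ∈ centralizer (L : Set G)) : False := by
  rcases hL.eq_bot_or_eq_top_of_normal (center L) inferInstance with h | h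
  · have : (⟨z, hz⟩ : L) ∈ center L :=
      mem_center_iff.2 fun g => Subtype.ext (mem_centralizer_iff.1 hc g g.2)
    rw [h, mem_bot] at this
    exact hz1 (congrArg Subtype.val this)
  · exact hLn ⟨⟨fun x y => (mem_center_iff.1 (h ▸ mem_top y : y ∈ center L) x)⟩⟩

theorem zstar_in [Finite G] {L H P : Subgroup G} (hL : IsSimpleGroup L) (hLH : L ≤ H)
    (hHL : H ≤ normalizer (L : Set G)) {z : G} (hz : z ∈ L) (hz2 : orderOf z = 2)
    (hP : IsSylowIn 2 P H) {t : G} (htP : t ∈ P) (ht : orderOf t = 2)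
    (hiso : ∀ g ∈ H, g * t * g⁻¹ ∈ P → g * t * g⁻¹ = t) : t ∈ centralizer (L : Set G) := by
  have : Fact (Nat.Prime 2) := ⟨Nat.prime_two⟩
  obtain ⟨N, hN, hodd, hc⟩ := zstar_sylow hP.toSylow (u := ⟨t, hP.le htP⟩)
    (by rw [Subgroup.orderOf_mk, ht]) (fun g hg => Subtype.ext (hiso g g.2 hg))
  have h1 : (N.comap (inclusion hLH)).Normal := hN.comap _
  rcases hL.eq_bot_or_eq_top_of_normal _ h1 with h2 | h2
  · rw [mem_centralizer_iff]
    intro l hl
    have hm : t * l * t⁻¹ * l⁻¹ ∈ L :=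
      L.mul_mem (conj_mem_of_mem_normalizer (hHL (hP.le htP)) hl) (L.inv_mem hl)
    have h3 : (⟨_, hm⟩ : L) ∈ N.comap (inclusion hLH) := hc ⟨l, hLH hl⟩
    rw [h2, mem_bot] at h3
    have h4 : t * l * t⁻¹ * l⁻¹ = 1 := congrArg Subtype.val h3
    calc l * t = (t * l * t⁻¹ * l⁻¹) * (l * t) := by rw [h4, one_mul]
      _ = t * l := by group
  · exfalso
    have h3 : (⟨z, hz⟩ : L) ∈ N.comap (inclusion hLH) := h2 ▸ mem_top _
    exact (odd_card_subgroup_iff N).1 hodd _ h3 (by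
      change orderOf (⟨z, hLH hz⟩ : H) = 2
      rw [Subgroup.orderOf_mk, hz2])

theorem exists_dih_or {S : Subgroup G} (hS : IsPGroup 2 S) {n : ℕ} (f : DihedralGroup n →* G)
    (hf : Function.Injective f) (hr : ∀ x, x ∈ S ↔ ∃ d, f d = x) :
    (∃ r s k, Dih S r s k) ∨ ∃ s, orderOf s = 2 ∧ ∀ x, x ∈ S ↔ x = 1 ∨ x = s := by
  have hord : orderOf (f (DihedralGroup.r 1)) = n := by
    rw [orderOf_injective f hf, DihedralGroup.orderOf_r_one]
  have hs : orderOf (f (DihedralGroup.sr 0)) = 2 := by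
    rw [orderOf_injective f hf, DihedralGroup.orderOf_sr]
  have hpow : ∀ i : ℤ, f (DihedralGroup.r 1) ^ i = f (DihedralGroup.r i) := fun i => by
    rw [← map_zpow, DihedralGroup.r_one_zpow]
  have hmem : ∀ x, x ∈ S ↔ ∃ i : ℤ, x = f (DihedralGroup.r 1) ^ i ∨
      x = f (DihedralGroup.r 1) ^ i * f (DihedralGroup.sr 0) := by
    intro x
    rw [hr]
    constructor
    · rintro ⟨i | i, rfl⟩
      · obtain ⟨j, rfl⟩ := ZMod.intCast_surjective i
        exact ⟨j, Or.inl (hpow j).symm⟩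
      · obtain ⟨j, rfl⟩ := ZMod.intCast_surjective i
        exact ⟨-j, Or.inr (by rw [hpow, ← map_mul]; simp)⟩
    · rintro ⟨i, rfl | rfl⟩
      · exact ⟨_, map_zpow f _ _⟩
      · exact ⟨DihedralGroup.r 1 ^ i * DihedralGroup.sr 0, by rw [map_mul, map_zpow]⟩
  obtain ⟨e, he⟩ := isPGroup_iff_mem.1 hS (f (DihedralGroup.r 1)) ((hr _).2 ⟨_, rfl⟩)
  obtain ⟨m, -, hm⟩ := (Nat.dvd_prime_pow Nat.prime_two).1 (orderOf_dvd_of_pow_eq_one he)
  rcases m with _ | k
  · right
    refine ⟨_, hs, fun x => ?_⟩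
    rw [pow_zero, orderOf_eq_one_iff] at hm
    rw [hmem, hm]; simp
  · left
    refine ⟨_, _, k, hm, ?_, ?_, fun i => ?_, hmem⟩
    · rw [← map_mul]; simp
    · rw [← map_inv, ← map_inv, ← map_mul, ← map_mul]; simp
    · rw [hpow]; intro h; cases hf h

theorem exists_dih [Finite G] {L S : Subgroup G} (hL : IsSimpleGroup L) (hLn : ¬ IsMulCommutative L)
    (hD : ∀ P : Sylow 2 L, ∃ n : ℕ, Nonempty (↥(P : Subgroup L) ≃* DihedralGroup n))
    (hS : IsSylowIn 2 S L) : ∃ r s k, Dih S r s k := by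
  have : Fact (Nat.Prime 2) := ⟨Nat.prime_two⟩
  obtain ⟨n, ⟨e⟩⟩ := hD hS.toSylow
  rcases exists_dih_or hS.isPGroup
    (L.subtype.comp ((hS.toSylow : Subgroup L).subtype.comp e.symm.toMonoidHom))
    (L.subtype_injective.comp ((Subgroup.subtype_injective _).comp e.symm.injective))
    (fun x => ⟨fun hx => ⟨e ⟨⟨x, hS.le hx⟩, hx⟩, by simp⟩, by
      rintro ⟨d, rfl⟩; exact (e.symm d).2⟩) with h | ⟨s, hs, h⟩
  · exact h
  · exfalso
    have hsS : s ∈ S := (h s).2 (Or.inr rfl)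
    refine not_central hL hLn (hS.le hsS) (ne_one_of_orderOf_two hs)
      (zstar_in hL le_rfl le_normalizer (hS.le hsS) hs hS hsS hs fun g _ hg => ?_)
    rcases (h _).1 hg with h1 | h1
    · exact absurd h1 (ne_one_of_orderOf_two (by rw [H3.orderOf_conj, hs]))
    · exact h1

theorem uq_of_cyclic [Finite G] {C : Subgroup G} (hC : ∀ R : Sylow 2 C, IsCyclic R) {v w : G}
    (hv : v ∈ C) (hw : w ∈ C) (hv2 : orderOf v = 2) (hw2 : orderOf w = 2) (hvw : Commute v w) :
    v = w := by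
  have hp : IsPGroup 2 (closure ({(⟨v, hv⟩ : C), ⟨w, hw⟩} : Set C)) :=
    isPGroup_closure_pair_of_commute (Subtype.ext (mul_self_of_orderOf_two hv2))
      (Subtype.ext (mul_self_of_orderOf_two hw2)) (Subtype.ext hvw.eq)
  obtain ⟨R, hR⟩ := hp.exists_le_sylow
  have hvR : (⟨v, hv⟩ : C) ∈ (R : Subgroup C) := hR (subset_closure (by simp))
  have hwR : (⟨w, hw⟩ : C) ∈ (R : Subgroup C) := hR (subset_closure (by simp))
  have := hC R
  have h1 : orderOf (⟨_, hvR⟩ : (R : Subgroup C)) = 2 := by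
    rw [Subgroup.orderOf_mk, Subgroup.orderOf_mk, hv2]
  have h2 : orderOf (⟨_, hwR⟩ : (R : Subgroup C)) = 2 := by
    rw [Subgroup.orderOf_mk, Subgroup.orderOf_mk, hw2]
  classical
  have := Fintype.ofFinite (R : Subgroup C)
  have h3 := IsCyclic.card_orderOf_eq_totient (α := (R : Subgroup C)) (d := 2)
    (by have := orderOf_dvd_card (x := (⟨_, hvR⟩ : (R : Subgroup C))); rwa [h1] at this)
  rw [Nat.totient_two, Finset.card_eq_one] at h3
  obtain ⟨c, hc⟩ := h3
  have h4 : (⟨_, hvR⟩ : (R : Subgroup C)) = c := by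
    rw [← Finset.mem_singleton, ← hc]; simpa using h1
  have h5 : (⟨_, hwR⟩ : (R : Subgroup C)) = c := by
    rw [← Finset.mem_singleton, ← hc]; simpa using h2
  simpa using h4.trans h5.symm

namespace Dih

variable {S : Subgroup G} {r s : G} {k : ℕ}

/-- choose the rotation subgroup invariant under an involution normalizing `S` -/
theorem exists_invariant (h : Dih S r s k) {a : G} (ha : a * a = 1)
    (haS : a ∈ normalizer (S : Set G)) :
    ∃ r' s', Dih S r' s' k ∧ ∃ i : ℤ, a * r' * a⁻¹ = r' ^ i := by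
  have hai : a⁻¹ = a := inv_eq_of_mul_eq_one_right ha
  obtain ⟨i, hi | hi⟩ := (h.mem _).1 (conj_mem_of_mem_normalizer haS h.u_mem)
  · exact ⟨r, s, h, i, hi⟩
  have hrr : r * r = 1 := by
    have := h.refl_sq i
    rw [← hi, conj_mul] at this
    simpa [mul_assoc] using congrArg (a⁻¹ * · * a) this
  have hri : r⁻¹ = r := inv_eq_of_mul_eq_one_right hrr
  have hrs : s * r = r * s := by simpa [hri] using h.a_mul 1
  have hz : ∀ j : ℤ, r ^ j = 1 ∨ r ^ j = r := H2.zpow_eq_one_or_self (by rwa [pow_two])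
  have hk : k = 0 := by
    have h1 := orderOf_dvd_of_pow_eq_one (show r ^ 2 = 1 by rwa [pow_two])
    rw [h.ord] at h1
    have := (Nat.pow_dvd_pow_iff_le_right' (b := 0) (k := k + 1) (l := 1)).1 (by simpa using h1)
    omega
  subst hk
  have hyr : r ^ i * s * r = r * (r ^ i * s) := by
    rw [mul_assoc, hrs, ← mul_assoc, ← mul_assoc, ← zpow_add_one, add_comm, zpow_one_add]
  have hsq := h.refl_sq (1 + i)
  rw [zpow_one_add, mul_assoc r] at hsq
  have hne : r * (r ^ i * s) ≠ 1 := by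
    have := h.refl_ne (1 + i) 0
    rwa [zpow_one_add, mul_assoc r, zpow_zero] at this
  have hz' : ∀ j : ℤ, (r * (r ^ i * s)) ^ j = 1 ∨ (r * (r ^ i * s)) ^ j = r * (r ^ i * s) :=
    H2.zpow_eq_one_or_self (by rwa [pow_two])
  have hr1 : r ≠ 1 := by simpa using h.z_ne
  refine ⟨r * (r ^ i * s), r, ⟨?_, hrr, ?_, fun j e => ?_, fun x => ?_⟩, 1, ?_⟩
  · simpa using orderOf_two_of_mul_self hsq hne
  · rw [inv_eq_of_mul_eq_one_right hsq, mul_assoc r (r * _), mul_assoc r (r ^ i * s), hri, hyr,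
      ← mul_assoc r r, hrr, one_mul]
  · rcases hz' j with h1 | h1
    · exact hr1 (e.trans h1)
    · rw [h1] at e
      have : r ^ i * s = 1 := by simpa using e.symm
      exact h.refl_ne i 0 (by simpa using this)
  · rw [(h.shift i).mem]
    have e1 : r * (r ^ i * s) * r = r ^ i * s := by
      rw [mul_assoc, hyr, ← mul_assoc, hrr, one_mul]
    constructor
    · rintro ⟨j, rfl | rfl⟩
      · rcases hz j with h1 | h1
        · exact ⟨0, Or.inl (by simp [h1])⟩
        · exact ⟨0, Or.inr (by simp [h1])⟩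
      · rcases hz j with h1 | h1
        · exact ⟨1, Or.inr (by rw [h1, one_mul, zpow_one, e1])⟩
        · exact ⟨1, Or.inl (by rw [h1, zpow_one])⟩
    · rintro ⟨j, rfl | rfl⟩
      · rcases hz' j with h1 | h1
        · exact ⟨0, Or.inl (by simp [h1])⟩
        · exact ⟨1, Or.inr (by rw [h1, zpow_one])⟩
      · rcases hz' j with h1 | h1
        · exact ⟨1, Or.inl (by simp [h1])⟩
        · exact ⟨0, Or.inr (by rw [h1, e1]; simp)⟩
  · have e2 : a * (r ^ i * s) * a⁻¹ = r := by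
      rw [← hi, hai]
      calc a * (a * r * a) * a = (a * a) * r * (a * a) := by group
        _ = r := by rw [ha]; simp
    rw [← conj_mul, hi, e2, zpow_one, hyr]

/-- an automorphism normalizing the rotations fixes the central involution -/
theorem conj_z (h : Dih S r s k) {d : G} {i : ℤ} (hd : d * r * d⁻¹ = r ^ i) :
    Commute d (r ^ 2 ^ k) := by
  have h1 : d * r ^ 2 ^ k * d⁻¹ = r ^ (i * (2 ^ k : ℕ)) := by
    rw [← conj_pow, hd, zpow_mul, zpow_natCast]
  have h2 : orderOf (r ^ (i * (2 ^ k : ℕ))) = 2 := by rw [← h1, H3.orderOf_conj, h.orderOf_z]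
  rcases h.rot_inv (mul_self_of_orderOf_two h2) with h3 | h3
  · exact absurd h3 (ne_one_of_orderOf_two h2)
  · exact mul_inv_eq_iff_eq_mul.1 (h1.trans h3)

theorem conj_rot (h : Dih S r s k) {d : G} (hdS : d ∈ normalizer (S : Set G))
    (hdz : Commute d (r ^ 2 ^ k)) : ∃ i : ℤ, d * r * d⁻¹ = r ^ i := by
  by_cases hrr : r * r = 1
  · rcases h.rot_inv (i := 1) (by simpa using hrr) with h1 | h1
    · rw [zpow_one] at h1; exact ⟨1, by simp [h1]⟩
    · rw [zpow_one] at h1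
      rw [← h1] at hdz
      exact ⟨1, by rw [hdz.eq]; simp⟩
  · refine h.rot_of_sq (conj_mem_of_mem_normalizer hdS h.u_mem) fun e => hrr ?_
    rw [conj_mul] at e
    simpa [mul_assoc] using congrArg (d⁻¹ * · * d) e

theorem conj_refl_eq (h : Dih S r s k) {d : G} (hd : d * d = 1) (hdS : d ∈ normalizer (S : Set G))
    {i : ℤ} (hi : d * r * d⁻¹ = r ^ i) : ∃ j : ℤ, d * s * d⁻¹ = r ^ j * s := by
  obtain ⟨j, hj | hj⟩ := (h.mem _).1 (conj_mem_of_mem_normalizer hdS h.a_mem)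
  · exfalso
    apply h.nm (i * j)
    have hdi : d⁻¹ = d := inv_eq_of_mul_eq_one_right hd
    rw [zpow_mul, ← hi, conj_zpow, ← hj, hdi]
    calc s = (d * d) * s * (d * d) := by rw [hd]; simp
      _ = _ := by group
  · exact ⟨j, hj⟩

theorem mem_zpowers_odd (h : Dih S r s k) {j : ℤ} (hj : Odd j) : ∃ m : ℤ, (r ^ j) ^ m = r := by
  have hc : IsCoprime j ((2 : ℤ) ^ (k + 1)) := by
    obtain ⟨m, rfl⟩ := hj
    exact IsCoprime.pow_right ⟨1, -m, by ring⟩
  obtain ⟨x, y, hxy⟩ := hc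
  refine ⟨x, ?_⟩
  have h1 : r ^ ((2 : ℤ) ^ (k + 1)) = 1 := by exact_mod_cast h.pow_eq_one
  calc (r ^ j) ^ x = r ^ (x * j) * (r ^ ((2 : ℤ) ^ (k + 1))) ^ y := by
        rw [h1, one_zpow, mul_one, ← zpow_mul, mul_comm]
    _ = r ^ (x * j + y * 2 ^ (k + 1)) := by rw [← zpow_mul, ← zpow_add, mul_comm y]
    _ = r := by rw [hxy, zpow_one]

end Dih

end Cfsg.Agent.H8.DS
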