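import Cfsg.Agent.H8.DS3
import Cfsg.Agent.H8.DS4

/-! The reduction in S1916. -/

set_option autoImplicit false

namespace Cfsg.Agent.H8.DS

open Cfsg.Agent.H3 Cfsg.Agent.H1 Subgroup

variable {G : Type*} [Group G]

/-- The ambient situation: `H / L` is abelian, `P` is Sylow in `H`, `S = P ∩ L` is dihedral. -/
structure Amb (L H P S : Subgroup G) (r s : G) (k : ℕ) : Prop where
  simple : IsSimpleGroup L
  hLH : L ≤ H
  hHL : H ≤ normalizer (L : Set G)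
  hP : IsSylowIn 2 P H
  hS : ∀ x, x ∈ S ↔ x ∈ P ∧ x ∈ L
  ab : ∀ g ∈ H, ∀ c ∈ H, g * c * g⁻¹ * c⁻¹ ∈ L
  dih : Dih S r s k
  zc : ∀ p ∈ P, Commute (r ^ 2 ^ k) p
  fus : ∃ g ∈ L, g * s * g⁻¹ = r ^ 2 ^ k

namespace Amb

variable [Finite G] {L H P S : Subgroup G} {r s : G} {k : ℕ}

omit [Finite G] in
theorem sylow_cen (h : Amb L H P S r s k) {t : G} (ht : ∀ p ∈ P, Commute t p) :
    IsSylowIn 2 P (H ⊓ centralizer {t}) :=
  h.hP.of_le (le_inf h.hP.le fun p hp => mem_centralizer_singleton_iff.2 (ht p hp).symm.eq)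
    inf_le_left

theorem no_root (h : Amb L H P S r s k) {c : G} (hc : c ∈ P) {i : ℤ} (hi : c * r * c⁻¹ = r ^ i)
    (hcs : Commute c s) (hcc : c * c = r ^ 2 ^ k) : False := by
  have : Fact (Nat.Prime 2) := ⟨Nat.prime_two⟩
  obtain ⟨g0, hg0, e0⟩ := h.fus
  obtain ⟨e, he⟩ := isPGroup_iff_mem.1 h.hP.isPGroup c hc
  have hcH := h.hP.le hc
  have hc' : g0 * c * g0⁻¹ ∈ H ⊓ centralizer {r ^ 2 ^ k} :=
    ⟨H.mul_mem (H.mul_mem (h.hLH hg0) hcH) (H.inv_mem (h.hLH hg0)),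
      mem_centralizer_singleton_iff.2 (by rw [← e0]; exact (commute_conj_iff.2 hcs).eq)⟩
  obtain ⟨g1, hg1, hle⟩ := (h.sylow_cen h.zc).exists_cj_le
    (isPGroup_zpowers (p := 2) (x := g0 * c * g0⁻¹) (k := e) (by rw [conj_pow, he]; simp))
    (zpowers_le.2 hc')
  have hm := hle (conj_mem_cj (mem_zpowers _))
  have hg1z : g1 * r ^ 2 ^ k = r ^ 2 ^ k * g1 := mem_centralizer_singleton_iff.1 hg1.2
  obtain ⟨g, hg⟩ : ∃ g, g = g1 * g0 := ⟨_, rfl⟩
  have hgH : g ∈ H := hg ▸ H.mul_mem hg1.1 (h.hLH hg0)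
  have hgc : g * c * g⁻¹ ∈ P := by
    rw [hg]; convert hm using 1; group
  have hgs : g * s * g⁻¹ = r ^ 2 ^ k := by
    calc g * s * g⁻¹ = g1 * (g0 * s * g0⁻¹) * g1⁻¹ := by rw [hg]; group
      _ = _ := by rw [e0, hg1z]; group
  have hσ : g * c * g⁻¹ * c⁻¹ ∈ S := (h.hS _).2 ⟨P.mul_mem hgc (P.inv_mem hc), h.ab g hgH c hcH⟩
  have hrot : ∀ j : ℤ, c * r ^ j * c⁻¹ = r ^ (i * j) := fun j => by
    rw [← conj_zpow, hi, zpow_mul]
  have hsq : g * r ^ 2 ^ k * g⁻¹ =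
      (g * c * g⁻¹ * c⁻¹) * (c * (g * c * g⁻¹ * c⁻¹) * c⁻¹) * r ^ 2 ^ k := by
    rw [← hcc]; group
  obtain ⟨n, hn⟩ : ∃ n : ℤ, g * r ^ 2 ^ k * g⁻¹ = r ^ n := by
    obtain ⟨j, hj | hj⟩ := (h.dih.mem _).1 hσ
    · exact ⟨j + i * j + (2 ^ k : ℕ), by rw [hsq, hj, hrot, zpow_add, zpow_add, zpow_natCast]⟩
    · refine ⟨j - i * j + (2 ^ k : ℕ), ?_⟩
      have : c * (r ^ j * s) * c⁻¹ = r ^ (i * j) * s := by
        rw [← hrot]
        calc c * (r ^ j * s) * c⁻¹ = c * r ^ j * c⁻¹ * (c * s) * c⁻¹ := by group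
          _ = _ := by rw [hcs.eq]; group
      rw [hsq, hj, this, h.dih.refl_mul_refl, zpow_add, zpow_natCast]
  have h2 : orderOf (r ^ n) = 2 := by rw [← hn, H3.orderOf_conj, h.dih.orderOf_z]
  rcases h.dih.rot_inv (mul_self_of_orderOf_two h2) with h3 | h3
  · exact ne_one_of_orderOf_two h2 h3
  · apply h.dih.nm (2 ^ k : ℕ)
    rw [zpow_natCast]
    have := hgs.trans (hn.trans h3).symm
    simpa using this

theorem even_case (h : Amb L H P S r s k) {d : G} (hd : d ∈ P) (hdd : d * d = 1) {i m : ℤ}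
    (hi : d * r * d⁻¹ = r ^ i) (hm : d * s * d⁻¹ = r ^ (2 * m) * s) :
    d * r ^ m * d⁻¹ = r ^ (-m) := by
  have hdi : d⁻¹ = d := inv_eq_of_mul_eq_one_right hdd
  have hrot : ∀ j : ℤ, d * r ^ j * d⁻¹ = r ^ (i * j) := fun j => by
    rw [← conj_zpow, hi, zpow_mul]
  have hcs : Commute (r ^ (-m) * d) s := by
    refine mul_inv_eq_iff_eq_mul.1 ?_
    calc r ^ (-m) * d * s * (r ^ (-m) * d)⁻¹ = r ^ (-m) * (d * s * d⁻¹) * (r ^ (-m))⁻¹ := by group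
      _ = s := by rw [hm, h.dih.conj_refl]; simp
  have hcc : r ^ (-m) * d * (r ^ (-m) * d) = r ^ (-m + i * (-m)) := by
    rw [zpow_add, ← hrot, hdi]; group
  have h1 : r ^ (-m + i * (-m)) * r ^ (-m + i * (-m)) = 1 := by
    have h2 : Commute (r ^ (-m + i * (-m))) s := hcc ▸ hcs.mul_left hcs
    have h3 := h.dih.a_mul (-m + i * (-m))
    rw [← h2.eq, mul_left_inj, zpow_neg] at h3
    nth_rewrite 1 [h3]
    simp
  rcases h.dih.rot_inv h1 with h2 | h2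
  · rw [hrot]
    calc r ^ (i * m) = r ^ (-m) * (r ^ (-m + i * (-m)))⁻¹ := by group
      _ = _ := by rw [h2]; simp
  · exfalso
    refine h.no_root (c := r ^ (-m) * d) (P.mul_mem ((h.hS _).1 (h.dih.rot_mem _)).1 hd) (i := i)
      ?_ hcs (hcc.trans h2)
    calc r ^ (-m) * d * r * (r ^ (-m) * d)⁻¹ = r ^ (-m) * (d * r * d⁻¹) * (r ^ (-m))⁻¹ := by group
      _ = r ^ i := by rw [hi]; group

theorem mem_normalizer (h : Amb L H P S r s k) {d : G} (hd : d ∈ P) :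
    d ∈ normalizer (S : Set G) :=
  mem_normalizer_of_conj_mem fun x hx => (h.hS _).2
    ⟨P.mul_mem (P.mul_mem hd ((h.hS x).1 hx).1) (P.inv_mem hd),
      conj_mem_of_mem_normalizer (h.hHL (h.hP.le hd)) ((h.hS x).1 hx).2⟩

theorem swap (h : Amb L H P S r s k) {d : G} (hd : d ∈ P) (hdd : d * d = 1)
    (uq : ∀ v ∈ L, ∀ w ∈ L, orderOf v = 2 → orderOf w = 2 → Commute v d → Commute w d →
      Commute v w → v = w) :
    d * r * d⁻¹ = r⁻¹ ∧ ∃ j : ℤ, Odd j ∧ d * s * d⁻¹ = r ^ j * s := by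
  have hdi : d⁻¹ = d := inv_eq_of_mul_eq_one_right hdd
  obtain ⟨i, hi⟩ := h.dih.conj_rot (h.mem_normalizer hd) (h.zc d hd).symm
  obtain ⟨j, hj⟩ := h.dih.conj_refl_eq hdd (h.mem_normalizer hd) hi
  obtain ⟨m, rfl | rfl⟩ := Int.even_or_odd' j
  · exfalso
    have h1 := h.even_case hd hdd hi hj
    have h2 : d * (r ^ m * s) * d⁻¹ = r ^ m * s := by
      rw [← conj_mul, h1, hj]; group
    have h3 := uq _ ((h.hS _).1 (h.dih.refl_mem m)).2 _ ((h.hS _).1 h.dih.z_mem).2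
      (h.dih.orderOf_refl m) h.dih.orderOf_z (Commute.symm (mul_inv_eq_iff_eq_mul.1 h2))
      (h.zc d hd) (h.dih.z_comm (h.dih.refl_mem m)).symm
    exact h.dih.refl_ne m (2 ^ k : ℕ) (by rw [h3, zpow_natCast])
  · refine ⟨?_, _, odd_two_mul_add_one m, hj⟩
    obtain ⟨n, hn⟩ := h.dih.mem_zpowers_odd (odd_two_mul_add_one m)
    have h1 : d * r ^ (2 * m + 1) * d⁻¹ = (r ^ (2 * m + 1))⁻¹ := by
      have h2 : s = d * (d * s * d⁻¹) * d⁻¹ := by
        rw [hdi]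
        calc s = (d * d) * s * (d * d) := by rw [hdd]; simp
          _ = _ := by group
      rw [hj, ← conj_mul, hj] at h2
      rw [eq_inv_iff_mul_eq_one]
      have h3 := congrArg (· * s⁻¹) h2
      simpa [mul_assoc] using h3.symm
    rw [← hn, ← conj_zpow, h1, inv_zpow]

theorem not_fused (h : Amb L H P S r s k)
    (huz : ∀ v ∈ S, orderOf v = 2 → (∀ p ∈ P, Commute v p) → v = r ^ 2 ^ k)
    {t : G} (ht : ∀ p ∈ P, Commute t p) {g : G} (hg : g ∈ H)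
    (e : g * t * g⁻¹ = r ^ 2 ^ k * t) : False := by
  have : Fact (Nat.Prime 2) := ⟨Nat.prime_two⟩
  have htz : ∀ p ∈ P, Commute (r ^ 2 ^ k * t) p := fun p hp => (h.zc p hp).mul_left (ht p hp)
  obtain ⟨c, hc, hn⟩ := h.hP.exists_mul_mem_normalizer (K := H ⊓ centralizer {r ^ 2 ^ k * t})
    inf_le_left hg (h.sylow_cen htz).le (cj_le_iff.2 fun p hp =>
      ⟨H.mul_mem (H.mul_mem hg (h.hP.le hp)) (H.inv_mem hg),
        mem_centralizer_singleton_iff.2 (by rw [← e]; exact (commute_conj_iff.2 (ht p hp).symm).eq)⟩)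
  obtain ⟨n, hnd⟩ : ∃ n, n = c * g := ⟨_, rfl⟩
  rw [← hnd] at hn
  have hnH : n ∈ H := hnd ▸ H.mul_mem hc.1 hg
  have hnt : n * t * n⁻¹ = r ^ 2 ^ k * t := by
    have h1 : c * (r ^ 2 ^ k * t) = r ^ 2 ^ k * t * c := mem_centralizer_singleton_iff.1 hc.2
    calc n * t * n⁻¹ = c * (g * t * g⁻¹) * c⁻¹ := by rw [hnd]; group
      _ = _ := by rw [e, h1]; group
  have hz := (h.hS _).1 h.dih.z_mem
  have hnz : Commute n (r ^ 2 ^ k) := by
    refine mul_inv_eq_iff_eq_mul.1 (huz _ ((h.hS _).2 ⟨conj_mem_of_mem_normalizer hn hz.1,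
      conj_mem_of_mem_normalizer (h.hHL hnH) hz.2⟩) (by rw [H3.orderOf_conj, h.dih.orderOf_z])
      fun p hp => ?_)
    have := commute_conj_iff (g := n).2 (h.zc _ (conj_mem_of_mem_normalizer' hn hp))
    simpa [mul_assoc] using this
  obtain ⟨x, y, hxy, hx, hy, ⟨e2, he2⟩, hodd⟩ := exists_pPart (p := 2) n
  have hxP : x ∈ P := h.hP.le_of_le_normalizer (isPGroup_zpowers he2)
    (zpowers_le.2 (zpowers_le.2 hnH hx)) (zpowers_le.2 (zpowers_le.2 hn hx)) (mem_zpowers x)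
  have hyz : Commute y (r ^ 2 ^ k) := by
    obtain ⟨j, rfl⟩ := mem_zpowers_iff.1 hy
    exact hnz.zpow_left j
  have hxy' : Commute x y := H2.commute_of_mem_zpowers hx hy
  refine h.dih.z_ne (odd_fix (x := t) (e := 1) hodd (by rw [pow_one, pow_two, h.dih.z_sq]) hyz ?_)
  rw [← hnt, hxy, hxy'.eq]
  calc y * t * y⁻¹ = y * (t * x) * x⁻¹ * y⁻¹ := by group
    _ = _ := by rw [(ht x hxP).eq]; group

theorem isolated (h : Amb L H P S r s k)
    (huz : ∀ v ∈ S, orderOf v = 2 → (∀ p ∈ P, Commute v p) → v = r ^ 2 ^ k)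
    (hrefl : ∀ i j : ℤ, ∃ p ∈ P, p * (r ^ i * s) * p⁻¹ = r ^ j * s)
    {t : G} (htP : t ∈ P) (ht2 : orderOf t = 2) (ht : ∀ p ∈ P, Commute t p) :
    t ∈ centralizer (L : Set G) ∨ r ^ 2 ^ k * t ∈ centralizer (L : Set G) := by
  have hz := (h.hS _).1 h.dih.z_mem
  by_cases h1 : r ^ 2 ^ k * t = 1
  · right; rw [h1]; exact one_mem _
  have htz : ∀ p ∈ P, Commute (r ^ 2 ^ k * t) p := fun p hp => (h.zc p hp).mul_left (ht p hp)
  have htz2 : orderOf (r ^ 2 ^ k * t) = 2 := by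
    refine orderOf_two_of_mul_self ?_ h1
    calc r ^ 2 ^ k * t * (r ^ 2 ^ k * t) = r ^ 2 ^ k * (t * r ^ 2 ^ k) * t := by group
      _ = (r ^ 2 ^ k * r ^ 2 ^ k) * (t * t) := by rw [(ht _ hz.1).eq]; group
      _ = 1 := by rw [h.dih.z_sq, mul_self_of_orderOf_two ht2, one_mul]
  have key : ∀ x ∈ P, orderOf x = 2 → (∀ p ∈ P, Commute x p) → x ∉ centralizer (L : Set G) →
      ∃ g ∈ H, ∃ i : ℤ, g * x * g⁻¹ = r ^ i * s * x := by
    intro x hxP hx2 hx hxc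
    by_contra hcon
    push Not at hcon
    refine hxc (zstar_in h.simple h.hLH h.hHL hz.2 h.dih.orderOf_z h.hP hxP hx2 fun g hg hgx => ?_)
    have hσ : g * x * g⁻¹ * x⁻¹ ∈ S :=
      (h.hS _).2 ⟨P.mul_mem hgx (P.inv_mem hxP), h.ab g hg x (h.hP.le hxP)⟩
    obtain ⟨i, hi | hi⟩ := (h.dih.mem _).1 hσ
    · have hi' : g * x * g⁻¹ = r ^ i * x := by rw [← hi]; group
      have h2 : r ^ i * r ^ i = 1 := by
        have h3 : g * x * g⁻¹ * (g * x * g⁻¹) = 1 := by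
          rw [conj_mul, mul_self_of_orderOf_two hx2]; simp
        rw [hi'] at h3
        calc r ^ i * r ^ i = r ^ i * (r ^ i * x) * x := by
              rw [mul_assoc, mul_assoc, mul_self_of_orderOf_two hx2, mul_one]
          _ = r ^ i * (x * r ^ i) * x := by rw [(hx _ ((h.hS _).1 (h.dih.rot_mem i)).1).eq]
          _ = r ^ i * x * (r ^ i * x) := by group
          _ = 1 := h3
      rcases h.dih.rot_inv h2 with h3 | h3
      · rw [hi', h3, one_mul]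
      · exact (h.not_fused huz hx hg (by rw [hi', h3])).elim
    · exact absurd (by rw [← hi]; group) (hcon g hg i)
  by_contra hcon
  push Not at hcon
  obtain ⟨g, hg, i, hi⟩ := key t htP ht2 ht hcon.1
  obtain ⟨g', hg', j, hj⟩ := key _ (P.mul_mem hz.1 htP) htz2 htz hcon.2
  obtain ⟨p, hp, hpe⟩ := hrefl i (j + (2 ^ k : ℕ))
  refine h.not_fused huz ht (g := g'⁻¹ * p * g)
    (H.mul_mem (H.mul_mem (H.inv_mem hg') (h.hP.le hp)) hg) ?_
  have e1 : p * (r ^ i * s * t) * p⁻¹ = r ^ j * s * (r ^ 2 ^ k * t) := by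
    calc p * (r ^ i * s * t) * p⁻¹ = p * (r ^ i * s) * p⁻¹ * (p * t) * p⁻¹ := by group
      _ = r ^ j * (r ^ 2 ^ k * s) * t := by
          rw [hpe, ← (ht p hp).eq, zpow_add, zpow_natCast]; group
      _ = _ := by rw [h.dih.z_comm_a.eq]; group
  calc g'⁻¹ * p * g * t * (g'⁻¹ * p * g)⁻¹ = g'⁻¹ * (p * (g * t * g⁻¹) * p⁻¹) * g' := by group
    _ = _ := by rw [hi, e1, ← hj]; group

end Amb

end Cfsg.Agent.H8.DS
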