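import Mathlib

/-! Words in two one-parameter families of transvections: the orbit of `(1, 0)`. -/

set_option autoImplicit false

namespace Cfsg.Agent.H8.Dick

open Polynomial

/-- first columns `(a, X c)` of the words in `x(k)` and `y(k X)` -/
inductive Orb {k : Type*} [Field k] : k[X] → k[X] → Prop
  | base : Orb 1 0
  | x (a c : k[X]) (r : k) : Orb a c → Orb (a + C r * X * c) c
  | y (a c : k[X]) (r : k) : Orb a c → Orb a (c + C r * a)

/-- degree less than `j` -/
def DL {S : Type*} [CommRing S] (j : ℕ) (p : S[X]) : Prop := ∀ n, j ≤ n → p.coeff n = 0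

/-- the product of the pivots of the fraction free Euclidean algorithm -/
noncomputable def disc {S : Type*} [CommRing S] : ℕ → S[X] → S[X] → S
  | 0, _, _ => 1
  | j + 1, a, c =>
    c.coeff j * (C (c.coeff j) * a - C (a.coeff (j + 1)) * X * c).coeff j *
      disc j (C (c.coeff j) * a - C (a.coeff (j + 1)) * X * c)
        (C ((C (c.coeff j) * a - C (a.coeff (j + 1)) * X * c).coeff j) * c -
          C (c.coeff j) * (C (c.coeff j) * a - C (a.coeff (j + 1)) * X * c))

theorem disc_map {S T : Type*} [CommRing S] [CommRing T] (f : S →+* T) (j : ℕ) :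
    ∀ a c : S[X], disc j (a.map f) (c.map f) = f (disc j a c) := by
  induction j with
  | zero => intro a c; simp [disc]
  | succ j ih =>
    intro a c
    have e1 : C ((c.map f).coeff j) * a.map f - C ((a.map f).coeff (j + 1)) * X * c.map f =
        (C (c.coeff j) * a - C (a.coeff (j + 1)) * X * c).map f := by
      simp [Polynomial.map_sub, Polynomial.map_mul]
    simp only [disc]
    rw [e1, coeff_map, coeff_map, map_mul, map_mul, ← ih]
    congr 2
    rw [Polynomial.map_sub f (p := C _ * c), Polynomial.map_mul f (p := C _),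
      Polynomial.map_mul f (p := C (c.coeff j)) (q := _ - _), map_C, map_C]

variable {k : Type*} [Field k]

theorem coeff_CXmul {S : Type*} [CommRing S] (r : S) (c : S[X]) (n : ℕ) :
    (C r * X * c).coeff (n + 1) = r * c.coeff n := by
  rw [mul_assoc, coeff_C_mul, coeff_X_mul]

theorem coeff_CXmul_zero {S : Type*} [CommRing S] (r : S) (c : S[X]) :
    (C r * X * c).coeff 0 = 0 := by
  rw [mul_assoc, coeff_C_mul, coeff_X_mul_zero, mul_zero]

theorem orb_of_disc (j : ℕ) : ∀ a c : k[X], DL (j + 1) a → DL j c → disc j a c ≠ 0 →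
    ∀ l m : k, m ≠ 0 → l * a.coeff 0 = 1 → Orb (C l * a) (C m * c) := by
  induction j with
  | zero =>
    intro a c ha hc _ l m _ hl
    have e1 : c = 0 := by ext n; simp [hc n (Nat.zero_le _)]
    have e2 : C l * a = 1 := by
      ext n
      rcases n with _ | n
      · simp [hl]
      · simp [ha (n + 1) (by omega), coeff_one]
    rw [e1, e2, mul_zero]; exact Orb.base
  | succ j ih =>
    intro a c ha hc hd l m hm hl
    simp only [disc] at hd
    set γ := c.coeff j with hγ
    set a' := C γ * a - C (a.coeff (j + 1)) * X * c with ha'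
    set α := a'.coeff j with hα
    have hγ0 : γ ≠ 0 := fun h => hd (by simp [h])
    have hα0 : α ≠ 0 := fun h => hd (by simp [h])
    have hd' : disc j a' (C α * c - C γ * a') ≠ 0 := fun h => hd (by simp [h])
    have hl0 : l ≠ 0 := by rintro rfl; simp at hl
    have da : DL (j + 1) a' := by
      intro n hn
      obtain ⟨n, rfl⟩ : ∃ n', n = n' + 1 := ⟨n - 1, by omega⟩
      rw [ha', coeff_sub, coeff_C_mul, coeff_CXmul]
      rcases Nat.eq_or_lt_of_le hn with h | h
      · obtain rfl : j = n := by omega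
        ring
      · rw [ha (n + 1) (by omega), hc n (by omega)]; ring
    have dc : DL j (C α * c - C γ * a') := by
      intro n hn
      rw [coeff_sub, coeff_C_mul, coeff_C_mul]
      rcases Nat.eq_or_lt_of_le hn with h | h
      · subst h; ring
      · rw [da n h, hc n h]; ring
    have h1 := ih a' _ da dc hd' (l / γ) (m / α) (div_ne_zero hm hα0) (by
      rw [ha', coeff_sub, coeff_C_mul, coeff_CXmul_zero, ← hl]; field_simp; ring)
    have h2 := Orb.y _ _ (m * γ * γ / (α * l)) h1
    have e2 : C (m / α) * (C α * c - C γ * a') + C (m * γ * γ / (α * l)) * (C (l / γ) * a') =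
        C m * c := by
      have e1 : m / α * α = m := by field_simp
      have e3 : m * γ * γ / (α * l) * (l / γ) = m / α * γ := by field_simp
      rw [mul_sub, ← mul_assoc, ← mul_assoc, ← mul_assoc, ← C_mul, ← C_mul, ← C_mul, e1, e3]; ring
    rw [e2] at h2
    have h3 := Orb.x _ _ (l * a.coeff (j + 1) / (γ * m)) h2
    have e3 : C (l / γ) * a' + C (l * a.coeff (j + 1) / (γ * m)) * X * (C m * c) = C l * a := by
      have e1 : C l = C (l / γ) * C γ := by rw [← C_mul]; congr 1; field_simp
      have e3 : C (l * a.coeff (j + 1) / (γ * m)) * C m = C (l / γ) * C (a.coeff (j + 1)) := by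
        rw [← C_mul, ← C_mul]; congr 1; field_simp
      rw [ha']
      linear_combination (-a) * e1 + X * c * e3
    rwa [e3] at h3

theorem exists_disc (j : ℕ) : ∃ a c : k[X], DL (j + 1) a ∧ DL j c ∧ a.coeff 0 = 1 ∧
    a.coeff j ≠ 0 ∧ ∀ l m : k, l ≠ 0 → m ≠ 0 → disc j (C l * a) (C m * c) ≠ 0 := by
  induction j with
  | zero =>
    refine ⟨1, 0, fun n hn => ?_, fun n _ => by simp, by simp, by simp, by simp [disc]⟩
    rw [coeff_one, if_neg (by omega)]
  | succ j ih =>
    obtain ⟨a, c, ha, hc, h0, hj, hd⟩ := ih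
    have dc : DL (j + 1) (c + a) := fun n hn => by
      rw [coeff_add, ha n hn, hc n (by omega), add_zero]
    have cj : (c + a).coeff j = a.coeff j := by rw [coeff_add, hc j le_rfl, zero_add]
    have aj : (a + X * (c + a)).coeff (j + 1) = a.coeff j := by
      rw [coeff_add, coeff_X_mul, cj, ha _ le_rfl, zero_add]
    refine ⟨a + X * (c + a), c + a, fun n hn => ?_, dc, by simp [h0], by rwa [aj], ?_⟩
    · obtain ⟨n, rfl⟩ : ∃ n', n = n' + 1 := ⟨n - 1, by omega⟩
      rw [coeff_add, coeff_X_mul, ha _ (by omega), dc _ (by omega), add_zero]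
    · intro l m hl hm
      simp only [disc]
      rw [coeff_C_mul, coeff_C_mul, cj, aj]
      have e1 : C (m * a.coeff j) * (C l * (a + X * (c + a))) -
          C (l * a.coeff j) * X * (C m * (c + a)) = C (l * m * a.coeff j) * a := by
        simp only [C_mul]; ring
      rw [e1, coeff_C_mul]
      have e2 : C (l * m * a.coeff j * a.coeff j) * (C m * (c + a)) -
          C (m * a.coeff j) * (C (l * m * a.coeff j) * a) =
          C (l * m * m * a.coeff j * a.coeff j) * c := by
        simp only [C_mul]; ring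
      rw [e2]
      exact mul_ne_zero (mul_ne_zero (mul_ne_zero hm hj) (by positivity))
        (hd _ _ (by positivity) (by positivity))

theorem DL.sub {j : ℕ} {p q : k[X]} (hp : DL j p) (hq : DL j q) : DL j (p - q) :=
  fun n hn => by rw [coeff_sub, hp n hn, hq n hn, sub_zero]

theorem eventually_orb (j : ℕ) {a c a' c' : k[X]} (ha : DL (j + 1) a) (hc : DL j c)
    (ha' : DL (j + 1) a') (hc' : DL j c') (h0 : a.coeff 0 = 1) (h0' : a'.coeff 0 = 0)
    (hd : disc j a c ≠ 0) : {t : k | ¬ Orb (a + C t * a') (c + C t * c')}.Finite := by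
  let A : k[X][X] := a.map C + C X * a'.map C
  let B : k[X][X] := c.map C + C X * c'.map C
  have hE : ∀ t : k, (evalRingHom t).comp C = RingHom.id k := fun t => by ext; simp
  have hA : ∀ t : k, A.map (evalRingHom t) = a + C t * a' := by
    intro t
    simp [A, Polynomial.map_map, hE]
  have hB : ∀ t : k, B.map (evalRingHom t) = c + C t * c' := by
    intro t
    simp [B, Polynomial.map_map, hE]
  have hD : ∀ t : k, disc j (a + C t * a') (c + C t * c') = (disc j A B).eval t := by
    intro t
    rw [← hA, ← hB, disc_map]; rfl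
  have hne : disc j A B ≠ 0 := by
    intro h
    have := hD 0
    rw [h] at this
    simp at this
    exact hd this
  refine (finite_setOfPred_isRoot hne).subset (fun t ht => ?_)
  by_contra hr
  apply ht
  have := orb_of_disc j (a + C t * a') (c + C t * c')
    (fun n hn => by rw [coeff_add, coeff_C_mul, ha n hn, ha' n hn]; simp)
    (fun n hn => by rw [coeff_add, coeff_C_mul, hc n hn, hc' n hn]; simp)
    (by rw [hD]; exact hr) 1 1 one_ne_zero (by simp [h0, h0'])
  simpa using this

/-! ### Counting -/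

open Classical in
theorem exists_finset [Fintype k] (j : ℕ) (T : Finset k) : ∀ (W : Finset (k[X] × k[X])),
    (∀ v ∈ W, Orb v.1 v.2 ∧ DL (j + 1) v.1 ∧ DL j v.2 ∧ v.1.coeff 0 = 1 ∧ v.1.coeff j ≠ 0) →
    ∃ W' : Finset (k[X] × k[X]), W'.card = W.card * T.card * (Fintype.card k - 1) ∧
      ∀ v ∈ W', Orb v.1 v.2 ∧ DL (j + 2) v.1 ∧ DL (j + 1) v.2 ∧ v.1.coeff 0 = 1 ∧
        (0 ∉ T → v.1.coeff (j + 1) ≠ 0) := by
  intro W hW
  let f : (k[X] × k[X]) × k × k → k[X] × k[X] := fun x =>
    (x.1.1 + C x.2.1 * X * (x.1.2 + C x.2.2 * x.1.1), x.1.2 + C x.2.2 * x.1.1)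
  let D : Finset ((k[X] × k[X]) × k × k) := W ×ˢ T ×ˢ (Finset.univ.erase 0)
  have key : ∀ x ∈ D, (f x).2.coeff j = x.2.2 * x.1.1.coeff j ∧
      (f x).1.coeff (j + 1) = x.2.1 * (x.2.2 * x.1.1.coeff j) := by
    intro x hx
    simp only [D, Finset.mem_product] at hx
    obtain ⟨-, h2, h3, -, -⟩ := hW _ hx.1
    have : (f x).2.coeff j = x.2.2 * x.1.1.coeff j := by
      simp only [f]; rw [coeff_add, coeff_C_mul, h3 j le_rfl, zero_add]
    refine ⟨this, ?_⟩
    simp only [f] at this ⊢
    rw [coeff_add, coeff_CXmul, this, h2 _ le_rfl, zero_add]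
  refine ⟨D.image f, ?_, ?_⟩
  · rw [Finset.card_image_of_injOn]
    · simp [D, Finset.card_erase_of_mem, mul_assoc]
    · rintro ⟨⟨a, c⟩, s, t⟩ hx ⟨⟨a', c'⟩, s', t'⟩ hy e
      obtain ⟨k1, k2⟩ := key _ hx
      obtain ⟨k3, k4⟩ := key _ hy
      have hx' := hx
      simp only [D, Finset.coe_product, Set.mem_prod, Finset.mem_coe, Finset.mem_erase] at hx'
      have hj := (hW _ hx'.1).2.2.2.2
      rw [e] at k1 k2
      simp only at k1 k2 k3 k4 hj
      have hs : s = s' := by
        rw [k4, ← k3, k1] at k2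
        exact (mul_right_cancel₀ (mul_ne_zero hx'.2.2.1 hj) k2).symm
      subst hs
      simp only [f, Prod.mk.injEq] at e
      have ha : a = a' := by
        have := e.1
        rw [e.2] at this
        exact add_right_cancel this
      subst ha
      have ht : t = t' := by
        rw [k3] at k1
        exact (mul_right_cancel₀ hj k1).symm
      subst ht
      rw [add_right_cancel e.2]
  · intro v hv
    obtain ⟨x, hx, rfl⟩ := Finset.mem_image.1 hv
    obtain ⟨k1, k2⟩ := key _ hx
    simp only [D, Finset.mem_product, Finset.mem_erase] at hx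
    obtain ⟨h1, h2, h3, h4, h5⟩ := hW _ hx.1
    have dc : DL (j + 1) (f x).2 := fun n hn => by
      simp only [f]; rw [coeff_add, coeff_C_mul, h2 n hn, h3 n (by omega)]; simp
    refine ⟨Orb.x _ _ _ (Orb.y _ _ _ h1), fun n hn => ?_, dc, ?_, fun h0 => ?_⟩
    · obtain ⟨n, rfl⟩ : ∃ n', n = n' + 1 := ⟨n - 1, by omega⟩
      have := dc n (by omega)
      simp only [f] at this ⊢
      rw [coeff_add, coeff_CXmul, this, h2 _ (by omega)]; simp
    · simp only [f]; rw [coeff_add, coeff_CXmul_zero, h4, add_zero]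
    · rw [k2]
      exact mul_ne_zero (fun e => h0 (e ▸ hx.2.1)) (mul_ne_zero hx.2.2.1 h5)

open Classical in
theorem exists_finset' [Fintype k] (j : ℕ) : ∃ W : Finset (k[X] × k[X]),
    W.card = (Fintype.card k - 1) ^ (2 * j) ∧
    ∀ v ∈ W, Orb v.1 v.2 ∧ DL (j + 1) v.1 ∧ DL j v.2 ∧ v.1.coeff 0 = 1 ∧ v.1.coeff j ≠ 0 := by
  induction j with
  | zero =>
    refine ⟨{(1, 0)}, by simp, fun v hv => ?_⟩
    rw [Finset.mem_singleton] at hv
    subst hv
    refine ⟨Orb.base, fun n hn => ?_, fun n _ => by simp, by simp, by simp⟩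
    rw [coeff_one, if_neg (by omega)]
  | succ j ih =>
    obtain ⟨W, h1, h2⟩ := ih
    obtain ⟨W', h3, h4⟩ := exists_finset j (Finset.univ.erase 0) W h2
    refine ⟨W', ?_, fun v hv => ?_⟩
    · rw [h3, h1, Finset.card_erase_of_mem (Finset.mem_univ _), Finset.card_univ]; ring
    · obtain ⟨a, b, c, d, e⟩ := h4 v hv
      exact ⟨a, b, c, d, e (by simp)⟩

theorem exists_finset'' [Fintype k] (j : ℕ) : ∃ W : Finset (k[X] × k[X]),
    W.card = Fintype.card k * (Fintype.card k - 1) ^ (2 * j + 1) ∧
    ∀ v ∈ W, Orb v.1 v.2 ∧ DL (j + 2) v.1 ∧ DL (j + 1) v.2 ∧ v.1.coeff 0 = 1 := by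
  obtain ⟨W, h1, h2⟩ := exists_finset' (k := k) j
  obtain ⟨W', h3, h4⟩ := exists_finset j Finset.univ W h2
  refine ⟨W', ?_, fun v hv => ?_⟩
  · rw [h3, h1, Finset.card_univ]; ring
  · obtain ⟨a, b, c, d, -⟩ := h4 v hv
    exact ⟨a, b, c, d⟩

end Cfsg.Agent.H8.Dick
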