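import Cfsg.Agent.H8.Dick1

/-! A generalised Dickson lemma. -/

set_option autoImplicit false

namespace Cfsg.Agent.H8.Dick

open Polynomial

variable {k R : Type*} [Field k] [CommRing R] [Algebra k R] {θ : R}

variable (k) in
/-- `μ` carries a vector of the orbit to a vector of the orbit -/
def Link (θ μ : R) : Prop := ∃ a c a' c' : k[X], Orb a c ∧ Orb a' c' ∧
  aeval θ a' = μ * aeval θ a ∧ aeval θ c' = μ * aeval θ c

theorem eq_zero_of_DL (hint : IsIntegral k θ) {p : k[X]} (hp : DL (minpoly k θ).natDegree p)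
    (h : aeval θ p = 0) : p = 0 := by
  by_contra hne
  have h1 := minpoly.degree_le_of_ne_zero k θ hne h
  have h2 : p.degree < (minpoly k θ).natDegree := (degree_lt_iff_coeff_zero _ _).2 hp
  rw [degree_eq_natDegree (minpoly.monic hint).ne_zero] at h1
  exact absurd h2 (not_lt.2 h1)

theorem exists_rep (hint : IsIntegral k θ) (hsurj : Function.Surjective (aeval θ : k[X] → R))
    (x : R) : ∃ p : k[X], DL (minpoly k θ).natDegree p ∧ aeval θ p = x := by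
  obtain ⟨p, rfl⟩ := hsurj x
  refine ⟨p %ₘ minpoly k θ, (degree_lt_iff_coeff_zero _ _).1 ?_, minpoly.aeval_modByMonic_minpoly p θ⟩
  rw [← degree_eq_natDegree (minpoly.monic hint).ne_zero]
  exact degree_modByMonic_lt _ (minpoly.monic hint)

theorem aeval_eq_divX (p : k[X]) :
    aeval θ p = algebraMap k R (p.coeff 0) + θ * aeval θ p.divX := by
  conv_lhs => rw [← X_mul_divX_add p]
  rw [map_add, map_mul, aeval_X, aeval_C, add_comm]

theorem finite_not_link (hint : IsIntegral k θ)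
    (hsurj : Function.Surjective (aeval θ : k[X] → R)) (l : R) :
    {t : k | ¬ Link k θ (1 + t • (θ * l))}.Finite := by
  obtain ⟨a, c, ha, hc, h0, -, hd⟩ := exists_disc (k := k) (minpoly k θ).natDegree
  have hd' := hd 1 1 one_ne_zero one_ne_zero
  simp only [map_one, one_mul] at hd'
  obtain ⟨a', ha', e1⟩ := exists_rep hint hsurj (l * aeval θ a)
  obtain ⟨c', hc', e2⟩ := exists_rep hint hsurj (θ * l * aeval θ c)
  have hXa : DL ((minpoly k θ).natDegree + 1) (X * a') := by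
    intro n hn
    obtain ⟨n, rfl⟩ : ∃ n', n = n' + 1 := ⟨n - 1, by omega⟩
    rw [coeff_X_mul, ha' n (by omega)]
  refine (eventually_orb _ ha hc hXa hc' h0 (by simp) hd').subset (fun t ht ho => ht ?_)
  have := orb_of_disc _ a c ha hc hd' 1 1 one_ne_zero (by simp [h0])
  simp only [map_one, one_mul] at this
  refine ⟨a, c, _, _, this, ho, ?_, ?_⟩
  · simp only [map_add, map_mul, aeval_C, aeval_X, e1, Algebra.smul_def]; ring
  · simp only [map_add, map_mul, aeval_C, e2, Algebra.smul_def]; ring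

theorem eq_top_of_infinite [Infinite k] (h2 : (2 : k) ≠ 0) (hint : IsIntegral k θ)
    (hsurj : Function.Surjective (aeval θ : k[X] → R)) (I : Submodule k R) (h1 : (1 : R) ∈ I)
    (hI : ∀ μ, Link k θ μ → ∀ p ∈ I, μ ^ 2 * p ∈ I) : I = ⊤ := by
  have key : ∀ l : R, θ * l ∈ I := by
    intro l
    have hfin := (finite_not_link hint hsurj l).insert 0
    obtain ⟨s, hs⟩ := hfin.infinite_compl.nonempty
    obtain ⟨t, ht⟩ := (hfin.insert s).infinite_compl.nonempty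
    simp only [Set.mem_compl_iff, Set.mem_insert_iff, Set.mem_setOf_eq, not_or, not_not] at hs ht
    have e1 := hI _ hs.2 1 h1
    have e2 := hI _ ht.2.2 1 h1
    have e3 := I.sub_mem (I.smul_mem (t * t) (I.sub_mem e1 h1)) (I.smul_mem (s * s) (I.sub_mem e2 h1))
    have hne : 2 * s * t * (t - s) ≠ 0 :=
      mul_ne_zero (mul_ne_zero (mul_ne_zero h2 hs.1) ht.2.1) (sub_ne_zero.2 ht.1)
    rw [← I.smul_mem_iff hne]
    convert e3 using 1
    simp only [Algebra.smul_def, map_mul, map_sub, map_ofNat]; ring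
  rw [eq_top_iff]
  intro x _
  obtain ⟨p, rfl⟩ := hsurj x
  rw [aeval_eq_divX, Algebra.algebraMap_eq_smul_one]
  exact I.add_mem (I.smul_mem _ h1) (key _)

theorem pigeon [Fintype k] [Fintype R] (hint : IsIntegral k θ) {j : ℕ}
    (hj : (minpoly k θ).natDegree = j + 1) (L : Finset R) (hL : ∀ l ∈ L, IsUnit (1 + θ * l))
    (N : ℕ) (h : Fintype.card R ^ 2 * N <
      L.card * (Fintype.card k * (Fintype.card k - 1) ^ (2 * j + 1))) :
    ∃ l₀ ∈ L, ∃ T ⊆ L, N < T.card ∧ ∀ l ∈ T, ∃ μ, Link k θ μ ∧ μ * (1 + θ * l) = 1 + θ * l₀ := by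
  classical
  obtain ⟨W, hW, hW'⟩ := exists_finset'' (k := k) j
  let f : R × k[X] × k[X] → R × R := fun x =>
    (x.1 + (1 + θ * x.1) * aeval θ x.2.1.divX, (1 + θ * x.1) * aeval θ x.2.2)
  obtain ⟨y, -, hy⟩ := Finset.exists_lt_card_fiber_of_mul_lt_card_of_maps_to
    (s := L ×ˢ W) (t := Finset.univ) (f := f) (n := N) (fun _ _ => Finset.mem_univ _)
    (by rwa [Finset.card_product, hW, Finset.card_univ, Fintype.card_prod, ← sq])
  set F := (L ×ˢ W).filter (fun x => f x = y) with hF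
  have hF' : ∀ x ∈ F, x.1 ∈ L ∧ x.2 ∈ W ∧ f x = y := by
    intro x hx
    simp only [hF, Finset.mem_filter, Finset.mem_product] at hx
    exact ⟨hx.1.1, hx.1.2, hx.2⟩
  have ha : ∀ x ∈ F, (1 + θ * x.1) * aeval θ x.2.1 = 1 + θ * y.1 := by
    intro x hx
    obtain ⟨-, h2, rfl⟩ := hF' x hx
    rw [aeval_eq_divX x.2.1, (hW' _ h2).2.2.2, map_one]
    simp only [f]; ring
  obtain ⟨x₀, hx₀⟩ : F.Nonempty := Finset.card_pos.1 (by omega)
  refine ⟨x₀.1, (hF' _ hx₀).1, F.image Prod.fst, fun l hl => ?_, ?_, fun l hl => ?_⟩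
  · obtain ⟨x, hx, rfl⟩ := Finset.mem_image.1 hl
    exact (hF' _ hx).1
  · rwa [Finset.card_image_of_injOn]
    rintro ⟨l, a, c⟩ hx ⟨l', a', c'⟩ hx' e
    simp only at e
    subst e
    obtain ⟨h1, h2, h3⟩ := hF' _ hx
    obtain ⟨-, h4, h5⟩ := hF' _ hx'
    rw [← h5] at h3
    simp only [f, Prod.mk.injEq, add_right_inj] at h3
    have hu := hL l h1
    obtain ⟨-, d1, d2, d3⟩ := hW' _ h2
    obtain ⟨-, d4, d5, d6⟩ := hW' _ h4
    simp only at d1 d2 d3 d4 d5 d6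
    have e1 : a.divX - a'.divX = 0 := eq_zero_of_DL hint
      (fun n hn => by
        rw [coeff_sub, coeff_divX, coeff_divX, d1 _ (by omega), d4 _ (by omega), sub_zero])
      (by rw [map_sub, hu.mul_left_cancel h3.1, sub_self])
    have e2 : c - c' = 0 := eq_zero_of_DL hint (by rw [hj]; exact d2.sub d5)
      (by rw [map_sub, hu.mul_left_cancel h3.2, sub_self])
    rw [sub_eq_zero] at e1 e2
    rw [← X_mul_divX_add a, ← X_mul_divX_add a', e1, e2, d3, d6]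
  · obtain ⟨x, hx, rfl⟩ := Finset.mem_image.1 hl
    obtain ⟨h1, h2, h3⟩ := hF' _ hx
    obtain ⟨-, h4, h5⟩ := hF' _ hx₀
    obtain ⟨u, hu⟩ := hL _ h1
    have e1 := (ha x hx).trans (ha x₀ hx₀).symm
    have e2 : (1 + θ * x.1) * aeval θ x.2.2 = (1 + θ * x₀.1) * aeval θ x₀.2.2 :=
      congrArg Prod.snd (h3.trans h5.symm)
    refine ⟨↑u⁻¹ * (1 + θ * x₀.1), ⟨_, _, _, _, (hW' _ h4).1, (hW' _ h2).1, ?_, ?_⟩, ?_⟩
    · rw [mul_assoc, ← e1, ← hu, Units.inv_mul_cancel_left]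
    · rw [mul_assoc, ← e2, ← hu, Units.inv_mul_cancel_left]
    · rw [← hu, mul_right_comm, Units.inv_mul, one_mul]

/-! ### Arithmetic -/

theorem arith0 {q : ℕ} (hq : 5 ≤ q) : q ^ 3 ≤ (q - 1) ^ 4 ∧ 2 * q ^ 2 ≤ (q - 1) ^ 3 ∧
    2 * q ^ 3 < (q - 1) ^ 4 ∧ 4 * q ^ 4 ≤ (q - 1) ^ 6 := by
  obtain ⟨r, rfl⟩ : ∃ r, q = r + 5 := ⟨q - 5, by omega⟩
  rw [show r + 5 - 1 = r + 4 by omega]
  refine ⟨?_, ?_, ?_, ?_⟩ <;> ring_nf <;> nlinarith [Nat.zero_le r, Nat.zero_le (r ^ 2),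
    Nat.zero_le (r ^ 3), Nat.zero_le (r ^ 4), Nat.zero_le (r ^ 5), Nat.zero_le (r ^ 6)]

theorem arith1 {q j f r : ℕ} (hq : 5 ≤ q) (hj : 1 ≤ j) (hf : 1 ≤ f) (hr : 2 ≤ r)
    (e : q ^ (j + 1) = f ^ r) :
    (q ^ (j + 1)) ^ 2 * (2 * (f - 1)) < (q ^ (j + 1) - 1) * (q * (q - 1) ^ (2 * j + 1)) := by
  obtain ⟨a1, -, -, a4⟩ := arith0 hq
  obtain ⟨i, rfl⟩ : ∃ i, j = i + 1 := ⟨j - 1, by omega⟩
  obtain ⟨s, rfl⟩ : ∃ s, r = s + 2 := ⟨r - 2, by omega⟩
  obtain ⟨g, rfl⟩ : ∃ g, f = g + 1 := ⟨f - 1, by omega⟩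
  set Q := q ^ (i + 1 + 1) with hQ
  set P := q * (q - 1) ^ (2 * (i + 1) + 1) with hP
  have h1 : 4 * Q ^ 3 ≤ P ^ 2 := by
    have := Nat.mul_le_mul a4 (Nat.pow_le_pow_left a1 i)
    calc 4 * Q ^ 3 = q ^ 2 * (4 * q ^ 4 * (q ^ 3) ^ i) := by rw [hQ]; ring
      _ ≤ q ^ 2 * ((q - 1) ^ 6 * ((q - 1) ^ 4) ^ i) := Nat.mul_le_mul_left _ this
      _ = P ^ 2 := by rw [hP]; ring
  set F := (g + 1) ^ (s + 1) with hF
  have hQF : Q = F * (g + 1) := by rw [e, hF]; ring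
  have hF1 : g + 1 ≤ F := by rw [hF, pow_succ']; exact Nat.le_mul_of_pos_right _ (by positivity)
  have hQ1 : 1 < Q := by rw [hQ]; exact Nat.one_lt_pow (by omega) (by omega)
  have hg : 1 ≤ g := by
    by_contra h
    have : g = 0 := by omega
    subst this
    simp [hF] at hQF
    omega
  have h2 : 2 * Q ^ 2 ≤ F * P := by
    have : (2 * Q ^ 2) ^ 2 ≤ (F * P) ^ 2 := by
      calc (2 * Q ^ 2) ^ 2 = Q * (4 * Q ^ 3) := by ring
        _ ≤ F ^ 2 * P ^ 2 := Nat.mul_le_mul (by rw [hQF, sq]; exact Nat.mul_le_mul_left _ hF1) h1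
        _ = _ := by ring
    exact (Nat.pow_le_pow_iff_left two_ne_zero).1 this
  have hP0 : 0 < P := by
    rw [hP]; have : 0 < q - 1 := by omega
    positivity
  have h3 : g * F < Q - 1 := by
    rw [hQF]
    have : F * (g + 1) = g * F + F := by ring
    omega
  calc Q ^ 2 * (2 * (g + 1 - 1)) = g * (2 * Q ^ 2) := by rw [Nat.add_sub_cancel]; ring
    _ ≤ g * (F * P) := Nat.mul_le_mul_left _ h2
    _ = (g * F) * P := by ring
    _ < (Q - 1) * P := Nat.mul_lt_mul_of_pos_right h3 hP0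

theorem pow_sub_one_le {q d : ℕ} (hq : 1 ≤ q) (hd : 1 ≤ d) : (q - 1) ^ d ≤ q ^ d - 1 := by
  have := Nat.pow_lt_pow_left (show q - 1 < q by omega) (show d ≠ 0 by omega)
  omega

theorem arith2 {q d : ℕ} (hq : 5 ≤ q) (hd : 1 ≤ d) :
    2 * q ^ (2 * d) ≤ (q ^ d - 1) * (q - 1) ^ (2 * d) := by
  obtain ⟨-, a2, -, -⟩ := arith0 hq
  obtain ⟨i, rfl⟩ : ∃ i, d = i + 1 := ⟨d - 1, by omega⟩
  have h1 := pow_sub_one_le (q := q) (d := i + 1) (by omega) hd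
  have h2 : (q ^ 2) ^ i ≤ ((q - 1) ^ 3) ^ i := Nat.pow_le_pow_left (by omega) i
  calc 2 * q ^ (2 * (i + 1)) = 2 * q ^ 2 * (q ^ 2) ^ i := by ring
    _ ≤ (q - 1) ^ 3 * ((q - 1) ^ 3) ^ i := Nat.mul_le_mul a2 h2
    _ = (q - 1) ^ (i + 1) * (q - 1) ^ (2 * (i + 1)) := by ring
    _ ≤ _ := Nat.mul_le_mul_right _ h1

theorem arith3 {q d e : ℕ} (hq : 5 ≤ q) (hd : 1 ≤ d) (he : d ≤ e) :
    2 * (q ^ (2 * (d + e)) * (q - 1)) < (q ^ e - 1) * (q * (q - 1) ^ (2 * (d + e))) := by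
  obtain ⟨-, a2, a3, -⟩ := arith0 hq
  obtain ⟨i, rfl⟩ : ∃ i, d = i + 1 := ⟨d - 1, by omega⟩
  obtain ⟨n, rfl⟩ : ∃ n, e = i + 1 + n := ⟨e - (i + 1), by omega⟩
  have h1 := pow_sub_one_le (q := q) (d := i + 1 + n) (by omega) (by omega)
  have h2 : (q ^ 2) ^ n ≤ ((q - 1) ^ 3) ^ n := Nat.pow_le_pow_left (by omega) n
  have a5 : q ^ 4 ≤ (q - 1) ^ 5 := by
    have : q ≤ 2 * (q - 1) := by omega
    calc q ^ 4 = q ^ 3 * q := by ring
      _ ≤ q ^ 3 * (2 * (q - 1)) := Nat.mul_le_mul_left _ this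
      _ = (2 * q ^ 3) * (q - 1) := by ring
      _ ≤ (q - 1) ^ 4 * (q - 1) := Nat.mul_le_mul_right _ a3.le
      _ = _ := by ring
  have h3 : (q ^ 4) ^ i ≤ ((q - 1) ^ 5) ^ i := Nat.pow_le_pow_left a5 i
  have h0 : 0 < q - 1 := by omega
  have h4 : 0 < q * (q - 1) * ((q ^ 4) ^ i * (q ^ 2) ^ n) := by positivity
  calc 2 * (q ^ (2 * (i + 1 + (i + 1 + n))) * (q - 1))
      = (2 * q ^ 3) * (q * (q - 1) * ((q ^ 4) ^ i * (q ^ 2) ^ n)) := by ring
    _ < (q - 1) ^ 4 * (q * (q - 1) * ((q ^ 4) ^ i * (q ^ 2) ^ n)) :=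
        Nat.mul_lt_mul_of_pos_right a3 h4
    _ ≤ (q - 1) ^ 4 * (q * (q - 1) * (((q - 1) ^ 5) ^ i * ((q - 1) ^ 3) ^ n)) :=
        Nat.mul_le_mul_left _ (Nat.mul_le_mul_left _ (Nat.mul_le_mul h3 h2))
    _ = (q - 1) ^ (i + 1 + n) * (q * (q - 1) ^ (2 * (i + 1 + (i + 1 + n)))) := by ring
    _ ≤ _ := Nat.mul_le_mul_right _ h1

end Cfsg.Agent.H8.Dick
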