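import Cfsg.Agent.H8.Dick2

/-! A generalised Dickson lemma, conclusion. -/

set_option autoImplicit false

namespace Cfsg.Agent.H8.Dick

open Polynomial

theorem card_sq_fiber {K : Type*} [Field K] [DecidableEq K] (s : Finset K) (b : K) :
    (s.filter (fun a => a ^ 2 = b)).card ≤ 2 := by
  rcases (s.filter (fun a => a ^ 2 = b)).eq_empty_or_nonempty with h | ⟨a, ha⟩
  · simp [h]
  · refine (Finset.card_le_card (t := {a, -a}) (fun x hx => ?_)).trans Finset.card_le_two
    rw [Finset.mem_filter] at ha hx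
    simpa [sq_eq_sq_iff_eq_or_eq_neg] using (hx.2.trans ha.2.symm)

theorem exists_half (K : Type*) [Field K] [Fintype K] : ∃ S : Finset K, (∀ x ∈ S, x ≠ 0) ∧
    (∀ x ∈ S, ∀ y ∈ S, x ≠ y → x + y ≠ 0) ∧ Fintype.card K - 1 ≤ 2 * S.card := by
  classical
  obtain ⟨u, h1, h2, h3⟩ := Finset.exists_subset_injOn_image_eq_of_surjOn (f := fun x : K => x ^ 2)
    {x | x ≠ 0} ((Finset.univ.erase (0 : K)).image (fun x => x ^ 2)) (by
      intro b hb
      simp only [Finset.coe_image, Set.mem_image, Finset.mem_coe, Finset.mem_erase] at hb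
      obtain ⟨x, hx, rfl⟩ := hb
      exact ⟨x, hx.1, rfl⟩)
  refine ⟨u, fun x hx => h1 hx, fun x hx y hy hne e => hne (h2 hx hy ?_), ?_⟩
  · simp only [eq_neg_of_add_eq_zero_left e, neg_sq]
  · rw [← Finset.card_image_of_injOn h2, h3, ← Finset.card_univ,
      ← Finset.card_erase_of_mem (Finset.mem_univ (0 : K))]
    exact Finset.card_le_mul_card_image _ 2 (fun b _ => card_sq_fiber _ b)

theorem exists_half' {K : Type*} [Field K] [Fintype K] (h2 : (2 : K) ≠ 0) (a l : K)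
    (h : l = 0 → a ≠ 0) : ∃ S : Finset K, (∀ x ∈ S, a + l * x ≠ 0) ∧
    (∀ x ∈ S, ∀ y ∈ S, x ≠ y → (a + l * x) + (a + l * y) ≠ 0) ∧
      Fintype.card K - 1 ≤ 2 * S.card := by
  classical
  by_cases hl : l = 0
  · refine ⟨Finset.univ, fun x _ => by simpa [hl] using h hl, fun x _ y _ _ => ?_, ?_⟩
    · rw [hl, zero_mul, zero_mul, add_zero, ← two_mul]; exact mul_ne_zero h2 (h hl)
    · rw [Finset.card_univ]; omega
  obtain ⟨S, h1, h3, h4⟩ := exists_half K
  have e : ∀ s : K, a + l * ((s - a) / l) = s := fun s => by field_simp; ring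
  refine ⟨S.image (fun s => (s - a) / l), fun x hx => ?_, fun x hx y hy hne => ?_, ?_⟩
  · obtain ⟨s, hs, rfl⟩ := Finset.mem_image.1 hx
    rw [e]; exact h1 s hs
  · obtain ⟨s, hs, rfl⟩ := Finset.mem_image.1 hx
    obtain ⟨t, ht, rfl⟩ := Finset.mem_image.1 hy
    rw [e, e]; exact h3 s hs t ht (fun h => hne (by rw [h]))
  · rwa [Finset.card_image_of_injective]
    intro s t hst
    rw [← e s, ← e t]; simp only at hst; rw [hst]

variable {k : Type*} [Field k]

/-- admissible families of multipliers -/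
def Adm (ε f₁ G : k[X]) (L : Finset k[X]) : Prop :=
  (∀ l ∈ L, IsCoprime l G ∧ ε * f₁ ∣ l - 1) ∧ ∀ l ∈ L, ∀ l' ∈ L, l ≠ l' → ¬ G ∣ l ^ 2 - l' ^ 2

theorem adm_step [Fintype k] (h2 : (2 : k) ≠ 0) {ε f₁ G f : k[X]} {L : Finset k[X]} (hG : G ≠ 0)
    (hG1 : f₁ ∣ G) (hf : Irreducible f) (hε : ¬ f ∣ ε) (hL : Adm ε f₁ G L) :
    ∃ L' : Finset k[X], Adm ε f₁ (f * G) L' ∧
      (Fintype.card k ^ f.natDegree - 1) * L.card ≤ 2 * L'.card := by
  classical
  haveI := Fact.mk hf
  let K := AdjoinRoot f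
  haveI : Module.Finite k K := (AdjoinRoot.powerBasis hf.ne_zero).finite
  haveI : Finite K := Module.finite_of_finite k
  haveI : Fintype K := Fintype.ofFinite K
  have hK : Fintype.card K = Fintype.card k ^ f.natDegree := by
    rw [Module.card_eq_pow_finrank (K := k), (AdjoinRoot.powerBasis hf.ne_zero).finrank,
      AdjoinRoot.powerBasis_dim]
  have h2K : (2 : K) ≠ 0 := by
    have := (map_ne_zero (algebraMap k K)).2 h2
    rwa [map_ofNat] at this
  choose σ hσ using (AdjoinRoot.mk_surjective (g := f))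
  have hε' : AdjoinRoot.mk f ε ≠ 0 := by rwa [Ne, AdjoinRoot.mk_eq_zero]
  have hS : ∀ l ∈ L, ∃ S : Finset K,
      (∀ x ∈ S, AdjoinRoot.mk f l + AdjoinRoot.mk f (ε * G) * x ≠ 0) ∧
      (∀ x ∈ S, ∀ y ∈ S, x ≠ y → (AdjoinRoot.mk f l + AdjoinRoot.mk f (ε * G) * x) +
        (AdjoinRoot.mk f l + AdjoinRoot.mk f (ε * G) * y) ≠ 0) ∧
      Fintype.card K - 1 ≤ 2 * S.card := by
    intro l hl
    refine exists_half' h2K _ _ (fun h e => ?_)
    rw [map_mul, mul_eq_zero, or_iff_right hε', AdjoinRoot.mk_eq_zero] at h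
    rw [AdjoinRoot.mk_eq_zero] at e
    exact hf.not_isUnit ((hL.1 l hl).1.isUnit_of_dvd' e h)
  choose! S hS1 hS2 hS3 using hS
  let μ : (Σ _ : k[X], K) → k[X] := fun x => x.1 + ε * G * σ x.2
  have hμ : ∀ x, AdjoinRoot.mk f (μ x) = AdjoinRoot.mk f x.1 + AdjoinRoot.mk f (ε * G) * x.2 := by
    intro x; simp only [μ, map_add, map_mul, hσ]
  have key : ∀ x ∈ L.sigma S, ∀ y ∈ L.sigma S, x ≠ y → ¬ f * G ∣ μ x ^ 2 - μ y ^ 2 := by
    rintro ⟨l, x⟩ hx ⟨l', y⟩ hy hne hd
    rw [Finset.mem_sigma] at hx hy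
    by_cases e : l = l'
    · subst e
      have hxy : x ≠ y := fun e => hne (by rw [e])
      have e1 : μ ⟨l, x⟩ ^ 2 - μ ⟨l, y⟩ ^ 2 = (ε * (σ x - σ y) * (μ ⟨l, x⟩ + μ ⟨l, y⟩)) * G := by
        simp only [μ]; ring
      rw [e1, mul_dvd_mul_iff_right hG, ← AdjoinRoot.mk_eq_zero, map_mul, map_mul, map_add, hμ, hμ,
        map_sub, hσ, hσ] at hd
      exact mul_ne_zero (mul_ne_zero hε' (sub_ne_zero.2 hxy)) (hS2 l hx.1 x hx.2 y hy.2 hxy) hd
    · refine hL.2 l hx.1 l' hy.1 e ?_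
      have := (Dvd.intro_left f rfl).trans hd
      have e1 : l ^ 2 - l' ^ 2 = (μ ⟨l, x⟩ ^ 2 - μ ⟨l', y⟩ ^ 2) -
          G * (ε * σ x * (2 * l + ε * G * σ x) - ε * σ y * (2 * l' + ε * G * σ y)) := by
        simp only [μ]; ring
      rw [e1]
      exact dvd_sub this (Dvd.intro _ rfl)
  refine ⟨(L.sigma S).image μ, ⟨fun m hm => ?_, fun m hm m' hm' hne => ?_⟩, ?_⟩
  · obtain ⟨⟨l, x⟩, hx, rfl⟩ := Finset.mem_image.1 hm
    rw [Finset.mem_sigma] at hx
    refine ⟨IsCoprime.mul_right ?_ ?_, ?_⟩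
    · refine ((hf.coprime_iff_not_dvd).2 ?_).symm
      rw [← AdjoinRoot.mk_eq_zero, hμ]
      exact hS1 l hx.1 x hx.2
    · have := (hL.1 l hx.1).1.add_mul_left_left (ε * σ x)
      rwa [show l + G * (ε * σ x) = μ ⟨l, x⟩ by simp only [μ]; ring] at this
    · have : μ ⟨l, x⟩ - 1 = (l - 1) + ε * G * σ x := by simp only [μ]; ring
      rw [this]
      exact dvd_add (hL.1 l hx.1).2 (Dvd.dvd.mul_right (mul_dvd_mul_left ε hG1) _)
  · obtain ⟨x, hx, rfl⟩ := Finset.mem_image.1 hm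
    obtain ⟨y, hy, rfl⟩ := Finset.mem_image.1 hm'
    exact key x hx y hy (fun e => hne (by rw [e]))
  · rw [Finset.card_image_of_injOn, Finset.card_sigma, Finset.mul_sum, mul_comm,
      Finset.card_eq_sum_ones, Finset.sum_mul]
    · refine Finset.sum_le_sum (fun l hl => ?_)
      rw [one_mul, ← hK]; exact hS3 l hl
    · intro x hx y hy e
      by_contra hne
      exact key x hx y hy hne (by rw [e, sub_self]; exact dvd_zero _)

theorem exists_adm [Fintype k] (h2 : (2 : k) ≠ 0) (hq : 5 ≤ Fintype.card k) {ε f₁ : k[X]}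
    (hf₁ : Irreducible f₁) (h : k[X]) : h ≠ 0 →
    (∀ f, Irreducible f → f ∣ h → f₁.natDegree ≤ f.natDegree ∧ ¬ f ∣ ε) →
    ∃ L : Finset k[X], Adm ε f₁ (h * f₁) L ∧ ((IsUnit h ∧ 1 ≤ L.card) ∨
      Fintype.card k ^ (2 * (h * f₁).natDegree) * (Fintype.card k - 1) <
        L.card * (Fintype.card k * (Fintype.card k - 1) ^ (2 * (h * f₁).natDegree))) := by
  induction h using WfDvdMonoid.induction_on_irreducible with
  | zero => intro h; exact absurd rfl h
  | unit h hu =>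
    intro _ _
    exact ⟨{1}, ⟨by simp [isCoprime_one_left], by simp⟩, Or.inl ⟨hu, by simp⟩⟩
  | mul h f hh hf ih =>
    intro _ hd
    obtain ⟨L, hL, hc⟩ := ih hh (fun g hg hgh => hd g hg (Dvd.dvd.mul_left hgh f))
    obtain ⟨h3, h4⟩ := hd f hf (Dvd.intro _ rfl)
    have hG := mul_ne_zero hh hf₁.ne_zero
    obtain ⟨L', hL', hc'⟩ := adm_step h2 hG (Dvd.intro_left _ rfl) hf h4 hL
    refine ⟨L', by rwa [mul_assoc], Or.inr ?_⟩
    set q := Fintype.card k
    have hd1 : 1 ≤ f₁.natDegree := hf₁.natDegree_pos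
    rw [mul_assoc, natDegree_mul hf.ne_zero hG]
    refine Nat.lt_of_mul_lt_mul_left (a := 2) ?_
    rcases hc with ⟨hu, h1⟩ | hc
    · rw [natDegree_mul hh hf₁.ne_zero, natDegree_eq_zero_of_isUnit hu, zero_add, add_comm]
      refine (arith3 hq hd1 h3).trans_le ?_
      rw [← mul_assoc 2]
      exact Nat.mul_le_mul_right _ ((Nat.le_mul_of_pos_right _ h1).trans hc')
    · set n := (h * f₁).natDegree
      set d := f.natDegree
      have a2 := arith2 hq (hd1.trans h3)
      have h0 : 0 < 2 * q ^ (2 * d) := by positivity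
      calc 2 * (q ^ (2 * (d + n)) * (q - 1)) = (2 * q ^ (2 * d)) * (q ^ (2 * n) * (q - 1)) := by ring
        _ < (2 * q ^ (2 * d)) * (L.card * (q * (q - 1) ^ (2 * n))) :=
            Nat.mul_lt_mul_of_pos_left hc h0
        _ ≤ ((q ^ d - 1) * (q - 1) ^ (2 * d)) * (L.card * (q * (q - 1) ^ (2 * n))) :=
            Nat.mul_le_mul_right _ a2
        _ = ((q ^ d - 1) * L.card) * (q * (q - 1) ^ (2 * (d + n))) := by ring
        _ ≤ (2 * L'.card) * (q * (q - 1) ^ (2 * (d + n))) := Nat.mul_le_mul_right _ hc'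
        _ = _ := by ring

theorem exists_adm' [Fintype k] (h2 : (2 : k) ≠ 0) (hq : 5 ≤ Fintype.card k) {g : k[X]}
    (hg0 : g ≠ 0) (hg1 : ¬ IsUnit g) (hg2 : ¬ Irreducible g) :
    ∃ (f₁ h : k[X]) (L : Finset k[X]), ¬ IsUnit f₁ ∧ g = h * f₁ ∧
      (∀ l ∈ L, IsCoprime l g ∧ f₁ ∣ l - 1 ∧ l.coeff 0 = 1) ∧
      (∀ l ∈ L, ∀ l' ∈ L, l ≠ l' → ¬ g ∣ l ^ 2 - l' ^ 2) ∧
      Fintype.card k ^ (2 * g.natDegree) * (Fintype.card k - 1) <
        L.card * (Fintype.card k * (Fintype.card k - 1) ^ (2 * g.natDegree)) := by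
  classical
  obtain ⟨ε, f₁, h, hf₁, e, hX, hd⟩ : ∃ ε f₁ h : k[X], Irreducible f₁ ∧ g = h * f₁ ∧ X ∣ ε * f₁ ∧
      ∀ f, Irreducible f → f ∣ h → f₁.natDegree ≤ f.natDegree ∧ ¬ f ∣ ε := by
    by_cases hX : X ∣ g
    · obtain ⟨h, e⟩ := hX
      refine ⟨1, X, h, irreducible_X, by rw [e, mul_comm], by simp, fun f hf _ => ⟨?_, ?_⟩⟩
      · rw [natDegree_X]; exact hf.natDegree_pos
      · exact fun h => hf.not_isUnit (isUnit_of_dvd_one h)
    · have hex : ∃ n, ∃ f : k[X], Irreducible f ∧ f ∣ g ∧ f.natDegree = n := by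
        obtain ⟨f, hf, hfg⟩ := WfDvdMonoid.exists_irreducible_factor hg1 hg0
        exact ⟨_, f, hf, hfg, rfl⟩
      obtain ⟨f₁, hf₁, ⟨h, e⟩, hn⟩ := Nat.find_spec hex
      refine ⟨X, f₁, h, hf₁, by rw [e, mul_comm], by simp, fun f hf hfh => ⟨?_, fun hfX => ?_⟩⟩
      · rw [hn]; exact Nat.find_min' hex ⟨f, hf, e ▸ Dvd.dvd.mul_left hfh _, rfl⟩
      · exact hX ((hf.dvd_symm irreducible_X hfX).trans (e ▸ Dvd.dvd.mul_left hfh _))
  have hh : h ≠ 0 := by rintro rfl; exact hg0 (by simp [e])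
  obtain ⟨L, hL, hc⟩ := exists_adm h2 hq hf₁ h hh hd
  rw [← e] at hL hc
  refine ⟨f₁, h, L, hf₁.not_isUnit, e, fun l hl => ⟨(hL.1 l hl).1,
    (Dvd.intro_left ε rfl).trans (hL.1 l hl).2, ?_⟩, hL.2, ?_⟩
  · have := X_dvd_iff.1 (hX.trans (hL.1 l hl).2)
    rw [coeff_sub, coeff_one_zero, sub_eq_zero] at this
    exact this
  · rcases hc with ⟨hu, -⟩ | hc
    · exact absurd (by rw [e]; exact (irreducible_isUnit_mul hu).2 hf₁) hg2
    · exact hc

variable {R : Type*} [CommRing R] [Algebra k R] {θ : R}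

theorem five_le_card [Fintype k] (h2 : (2 : k) ≠ 0) (h3 : Nat.card k ≠ 3) :
    5 ≤ Fintype.card k := by
  have hodd : Fintype.card k % 2 = 1 := FiniteField.odd_card_of_char_ne_two (by
    intro h
    apply h2
    have := (ringChar.spec k 2).2 (by rw [h])
    exact_mod_cast this)
  have h1 : 1 < Fintype.card k := Fintype.one_lt_card
  rw [Nat.card_eq_fintype_card] at h3
  omega

theorem eq_top_field {K : Type*} [Field K] [Algebra k K] {θ : K} [Fintype k]
    (hq : 5 ≤ Fintype.card k) (hint : IsIntegral k θ)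
    (hsurj : Function.Surjective (aeval θ : k[X] → K)) (I : Submodule k K) (h1 : (1 : K) ∈ I)
    (hI : ∀ μ, Link k θ μ → ∀ p ∈ I, μ ^ 2 * p ∈ I) : I = ⊤ := by
  classical
  let pb := PowerBasis.ofAdjoinEqTop hint (by
    rw [Algebra.adjoin_singleton_eq_range_aeval, AlgHom.range_eq_top]; exact hsurj)
  haveI : Module.Finite k K := pb.finite
  haveI : Finite K := Module.finite_of_finite k
  haveI : Fintype K := Fintype.ofFinite K
  have hK : Fintype.card K = Fintype.card k ^ (minpoly k θ).natDegree := by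
    rw [Module.card_eq_pow_finrank (K := k), pb.finrank, PowerBasis.ofAdjoinEqTop_dim]
  by_contra hne
  obtain ⟨j, hj, hj1⟩ : ∃ j, (minpoly k θ).natDegree = j + 1 ∧ 1 ≤ j := by
    refine ⟨(minpoly k θ).natDegree - 1, ?_⟩
    by_contra hh
    apply hne
    rw [eq_top_iff]
    intro x _
    obtain ⟨p, hp, rfl⟩ := exists_rep hint hsurj x
    have : p.divX = 0 := by
      ext n; rw [coeff_divX, hp _ (by omega), coeff_zero]
    rw [aeval_eq_divX, this, map_zero, mul_zero, add_zero, Algebra.algebraMap_eq_smul_one]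
    exact I.smul_mem _ h1
  have hθ : θ ≠ 0 := by
    rintro rfl
    rw [minpoly.zero, natDegree_X] at hj
    omega
  let F : Subalgebra k K :=
    { carrier := {x | ∀ p ∈ I, x * p ∈ I}
      mul_mem' := fun ha hb p hp => by rw [mul_assoc]; exact ha _ (hb p hp)
      add_mem' := fun ha hb p hp => by rw [add_mul]; exact I.add_mem (ha p hp) (hb p hp)
      algebraMap_mem' := fun r p hp => by rw [← Algebra.smul_def]; exact I.smul_mem r hp }
  letI : Field F := (Finite.isField_of_domain F).toField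
  haveI : Fintype F := Fintype.ofFinite F
  have hF : Fintype.card K = Fintype.card F ^ Module.finrank F K := Module.card_eq_pow_finrank
  have hr : 2 ≤ Module.finrank F K := by
    by_contra hh
    have h4 : Fintype.card K ≤ Fintype.card F := by
      rw [hF]
      have : Module.finrank F K ≤ 1 := by omega
      exact (Nat.pow_le_pow_right Fintype.card_pos this).trans_eq (pow_one _)
    have hb : Function.Bijective (Subtype.val : F → K) :=
      (Fintype.bijective_iff_injective_and_card _).2 ⟨Subtype.val_injective,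
        le_antisymm (Fintype.card_le_of_injective _ Subtype.val_injective) h4⟩
    apply hne
    rw [eq_top_iff]
    intro x _
    obtain ⟨y, rfl⟩ := hb.2 x
    simpa using y.2 1 h1
  have hL : ∀ l ∈ Finset.univ.erase (-θ⁻¹), 1 + θ * l ≠ 0 := by
    intro l hl e
    apply (Finset.mem_erase.1 hl).1
    field_simp
    linear_combination e
  obtain ⟨l₀, hl₀, T, hT, hc, hT'⟩ := pigeon hint hj (Finset.univ.erase (-θ⁻¹))
    (fun l hl => (hL l hl).isUnit) (2 * (Fintype.card F - 1)) (by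
      rw [Finset.card_erase_of_mem (Finset.mem_univ _), Finset.card_univ, hK, hj]
      exact arith1 hq hj1 Fintype.card_pos hr (by rw [← hF, hK, hj]))
  let φ : K → K := fun l => (1 + θ * l₀) / (1 + θ * l)
  have hφ : Set.InjOn φ T := by
    intro l hl l' hl' e
    simp only [φ] at e
    rw [div_eq_div_iff (hL l (hT hl)) (hL l' (hT hl'))] at e
    exact (mul_left_cancel₀ hθ (add_left_cancel (mul_left_cancel₀ (hL _ hl₀) e))).symm
  have h5 := Finset.card_le_mul_card_image_of_maps_to (f := fun x : K => x ^ 2) (s := T.image φ)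
    (t := (Finset.univ.erase (0 : F)).image Subtype.val) (fun x hx => ?_) 2
    (fun b _ => card_sq_fiber _ b)
  · rw [Finset.card_image_of_injOn hφ, Finset.card_image_of_injective _ Subtype.val_injective,
      Finset.card_erase_of_mem (Finset.mem_univ _), Finset.card_univ] at h5
    omega
  · obtain ⟨l, hl, rfl⟩ := Finset.mem_image.1 hx
    obtain ⟨μ, h6, h7⟩ := hT' l hl
    have : φ l = μ := by simp only [φ]; rw [← h7, mul_div_cancel_right₀ _ (hL l (hT hl))]
    refine Finset.mem_image.2 ⟨⟨φ l ^ 2, by rw [this]; exact hI μ h6⟩, ?_, rfl⟩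
    rw [Finset.mem_erase]
    refine ⟨fun e => ?_, Finset.mem_univ _⟩
    have e' : φ l ^ 2 = 0 := congrArg Subtype.val e
    exact pow_ne_zero 2 (div_ne_zero (hL _ hl₀) (hL l (hT hl))) e'

/-- The generalised Dickson lemma. -/
theorem eq_top (h2 : (2 : k) ≠ 0) (h3 : Nat.card k ≠ 3) (hint : IsIntegral k θ)
    (hsurj : Function.Surjective (aeval θ : k[X] → R)) (I : Submodule k R) (h1 : (1 : R) ∈ I)
    (hu : ∀ p ∈ I, p = 0 ∨ IsUnit p)
    (hI : ∀ μ, Link k θ μ → ∀ p ∈ I, μ ^ 2 * p ∈ I) : I = ⊤ := by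
  classical
  rcases finite_or_infinite k with hk | hk
  swap
  · exact eq_top_of_infinite h2 hint hsurj I h1 hI
  haveI := Fintype.ofFinite k
  have hq := five_le_card h2 h3
  rcases subsingleton_or_nontrivial R with hR | hR
  · rw [eq_top_iff]; intro x _; rw [Subsingleton.elim x 1]; exact h1
  by_cases hg : Irreducible (minpoly k θ)
  · have hF : IsField R := by
      refine ⟨exists_pair_ne R, mul_comm, fun {x} hx => ?_⟩
      obtain ⟨p, rfl⟩ := hsurj x
      rw [Ne, ← minpoly.dvd_iff, ← hg.coprime_iff_not_dvd] at hx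
      obtain ⟨a, b, e⟩ := hx
      refine ⟨aeval θ b, ?_⟩
      have := congrArg (aeval θ) e
      rwa [map_add, map_mul, map_mul, minpoly.aeval, mul_zero, zero_add, map_one, mul_comm] at this
    letI := hF.toField
    exact eq_top_field hq hint hsurj I h1 hI
  exfalso
  let pb := PowerBasis.ofAdjoinEqTop hint (by
    rw [Algebra.adjoin_singleton_eq_range_aeval, AlgHom.range_eq_top]; exact hsurj)
  haveI : Module.Finite k R := pb.finite
  haveI : Finite R := Module.finite_of_finite k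
  haveI : Fintype R := Fintype.ofFinite R
  have hK : Fintype.card R = Fintype.card k ^ (minpoly k θ).natDegree := by
    rw [Module.card_eq_pow_finrank (K := k), pb.finrank, PowerBasis.ofAdjoinEqTop_dim]
  obtain ⟨f₁, h, L, hf₁, e, hL1, hL2, hc⟩ := exists_adm' h2 hq (minpoly.monic hint).ne_zero
    (minpoly.not_isUnit k θ) hg
  obtain ⟨j, hj⟩ : ∃ j, (minpoly k θ).natDegree = j + 1 :=
    ⟨_, (Nat.succ_pred_eq_of_pos (minpoly.natDegree_pos hint)).symm⟩
  have ha : ∀ l ∈ L, aeval θ l = 1 + θ * aeval θ l.divX := fun l hl => by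
    rw [aeval_eq_divX, (hL1 l hl).2.2, map_one]
  have hunit : ∀ l ∈ L, IsUnit (aeval θ l) := by
    intro l hl
    obtain ⟨a, b, e⟩ := (hL1 l hl).1
    have := congrArg (aeval θ) e
    rw [map_add, map_mul, map_mul, minpoly.aeval, mul_zero, add_zero, map_one] at this
    exact IsUnit.of_mul_eq_one_right _ this
  have hinj : Set.InjOn (fun l : k[X] => aeval θ l.divX) L := by
    intro l hl l' hl' e
    by_contra hne
    apply hL2 l hl l' hl' hne
    simp only at e
    rw [minpoly.dvd_iff, map_sub, map_pow, map_pow, ha l hl, ha l' hl', e, sub_self]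
  obtain ⟨l₀, hl₀, T, hT, hc', hT'⟩ := pigeon hint hj (L.image (fun l => aeval θ l.divX))
    (fun l hl => by
      obtain ⟨p, hp, rfl⟩ := Finset.mem_image.1 hl
      rw [← ha p hp]; exact hunit p hp) 1 (by
      rw [Finset.card_image_of_injOn hinj, hK, hj]
      rw [hj] at hc
      refine Nat.lt_of_mul_lt_mul_right (a := Fintype.card k - 1) ?_
      convert hc using 1 <;> ring)
  obtain ⟨l, hl, hne⟩ := Finset.exists_mem_ne hc' l₀
  obtain ⟨μ, h6, h7⟩ := hT' l hl
  obtain ⟨p, hp, rfl⟩ := Finset.mem_image.1 (hT hl)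
  obtain ⟨p₀, hp₀, rfl⟩ := Finset.mem_image.1 hl₀
  rw [← ha p hp, ← ha p₀ hp₀] at h7
  have e1 : (μ ^ 2 * 1 - 1) * aeval θ p ^ 2 = aeval θ (p₀ ^ 2 - p ^ 2) := by
    rw [map_sub, map_pow, map_pow, ← h7]; ring
  rcases hu _ (I.sub_mem (hI μ h6 1 h1) h1) with h8 | h8
  · rw [h8, zero_mul, eq_comm, ← minpoly.dvd_iff] at e1
    exact hL2 p₀ hp₀ p hp (fun e => hne (by rw [e])) e1
  · have h9 := h8.mul ((hunit p hp).pow 2)
    rw [e1] at h9
    have : f₁ ∣ p₀ ^ 2 - p ^ 2 := by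
      have : p₀ ^ 2 - p ^ 2 = ((p₀ - 1) - (p - 1)) * (p₀ + p) := by ring
      rw [this]
      exact Dvd.dvd.mul_right (dvd_sub (hL1 _ hp₀).2.1 (hL1 _ hp).2.1) _
    obtain ⟨c, hc⟩ := this
    rw [hc, map_mul] at h9
    have h10 := isUnit_of_mul_isUnit_left h9
    have h11 : aeval θ h = 0 := by
      rw [← h10.mul_left_eq_zero, ← map_mul, ← e, minpoly.aeval]
    rw [← minpoly.dvd_iff, e] at h11
    have hh : h ≠ 0 := by rintro rfl; exact (minpoly.monic hint).ne_zero (by simp [e])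
    apply hf₁
    refine isUnit_of_dvd_one ((mul_dvd_mul_iff_left hh).1 ?_)
    rwa [mul_one]

end Cfsg.Agent.H8.Dick
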