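import Cfsg.Agent.H8.TC

/-! The presentation used in the characterisation of the first Janko group. -/

set_option autoImplicit false

namespace Cfsg.Agent.H8.J1

open Cfsg.Agent.H5 Cfsg.Agent.H8.TC

def iv (c : ℕ) : ℕ := fld (nat_lit 0x5643210) (nat_lit 4) (nat_lit 15) c

def RLb : List ℕ := [nat_lit 0x3131, nat_lit 0x4141, nat_lit 0x4242, nat_lit 0x4343,
  nat_lit 0x212121, nat_lit 0x3232323232, nat_lit 0x321321321321321, nat_lit 0x5555555,
  nat_lit 0x1546, nat_lit 0x31516, nat_lit 0x34536, nat_lit 0x662312325232132, nat_lit 0x11,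
  nat_lit 0x22, nat_lit 0x33, nat_lit 0x44, nat_lit 0x65, nat_lit 0x56]

def relsb : List (List ℕ) := [[1, 3, 1, 3], [1, 4, 1, 4], [2, 4, 2, 4], [3, 4, 3, 4],
  [1, 2, 1, 2, 1, 2], [2, 3, 2, 3, 2, 3, 2, 3, 2, 3], [1, 2, 3, 1, 2, 3, 1, 2, 3, 1, 2, 3, 1, 2, 3],
  [5, 5, 5, 5, 5, 5, 5], [6, 4, 5, 1], [6, 1, 5, 1, 3], [6, 3, 5, 4, 3],
  [2, 3, 1, 2, 3, 2, 5, 2, 3, 2, 1, 3, 2, 6, 6], [1, 1], [2, 2], [3, 3], [4, 4], [5, 6], [6, 5]]

theorem RLb_eq : RLb = relsb.map pk := by decide +kernel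

variable {Γ : Type*} [Group Γ]

/-- the letters -/
def ltr (a b c t s : Γ) : ℕ → Γ
  | 1 => a
  | 2 => b
  | 3 => c
  | 4 => t
  | 5 => s
  | 6 => s⁻¹
  | _ => 1

structure Pres (a b c t s : Γ) : Prop where
  aa : a * a = 1
  bb : b * b = 1
  cc : c * c = 1
  tt : t * t = 1
  ac : (a * c) ^ 2 = 1
  at' : (a * t) ^ 2 = 1
  bt : (b * t) ^ 2 = 1
  ct : (c * t) ^ 2 = 1
  ab : (a * b) ^ 3 = 1
  bc : (b * c) ^ 5 = 1
  abc : (a * b * c) ^ 5 = 1
  s7 : s ^ 7 = 1
  ts : s⁻¹ * t * s * a = 1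
  as : s⁻¹ * a * s * (a * c) = 1
  cs : s⁻¹ * c * s * (t * c) = 1
  rs : (b * c * a * b * c * b) * s * (b * c * b * a * c * b) * s⁻¹ * s⁻¹ = 1

variable {a b c t s : Γ}

theorem Pres.setup (h : Pres a b c t s) {K : Subgroup Γ} (ha : a ∈ K) (hb : b ∈ K) (hc : c ∈ K)
    (ht : t ∈ K) {w : ℕ} {l : List ℕ} (hw : w = pk l) (hl : ∀ x ∈ l, x < 16)
    (hr : (l.map (ltr a b c t s)).prod = 1) : Setup (ltr a b c t s) K iv (w :: RLb) 5 where
  zero := rfl
  iv_lt x _ := Nat.lt_succ_of_le (fld_le _ _ _ _)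
  lt_iv x hx := by
    have e : ∀ x < 16, iv x = if x = 5 then 6 else if x = 6 then 5 else if x < 5 then x else 0 := by
      decide +kernel
    rw [e x hx]
    interval_cases x <;> simp [ltr, eq_inv_iff_mul_eq_one, h.aa, h.bb, h.cc, h.tt]
  rel v hv := by
    rcases List.mem_cons.1 hv with rfl | hv
    · rw [hw, val_pk rfl l hl, hr]
    · rw [RLb_eq, List.mem_map] at hv
      obtain ⟨m, hm, rfl⟩ := hv
      rw [val_pk rfl m ((by decide : ∀ m ∈ relsb, ∀ c ∈ m, c < 16) m hm)]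
      have h1 := h.ac; have h2 := h.at'; have h3 := h.bt; have h4 := h.ct; have h5 := h.ab
      have h6 := h.bc; have h7 := h.abc; have h8 := h.s7; have h9 := h.ts; have h10 := h.as
      have h11 := h.cs; have h12 := h.rs
      simp only [pow_succ, pow_zero, one_mul, mul_assoc] at h1 h2 h3 h4 h5 h6 h7 h8 h9 h10 h11 h12
      simp only [relsb, List.mem_cons, List.not_mem_nil, or_false] at hm
      rcases hm with rfl | rfl | rfl | rfl | rfl | rfl | rfl | rfl | rfl | rfl | rfl | rfl | rfl |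
        rfl | rfl | rfl | rfl | rfl <;>
      simp only [List.map_cons, List.map_nil, List.prod_cons, List.prod_nil, ltr, mul_one] <;>
      first | assumption | exact h.aa | exact h.bb | exact h.cc | exact h.tt | simp
  sub x hx := by
    interval_cases x
    exacts [K.one_mem, ha, hb, hc, ht]

end Cfsg.Agent.H8.J1
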