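import Cfsg.Agent.H8.J1F
import Cfsg.Agent.H8.J1P
import Cfsg.Agent.H1.ThompsonTransfer
import Cfsg.Agent.H3.Misc

/-! Groups with an involution centraliser `2 × A₅`: the normaliser of a Sylow `2`-subgroup. -/

set_option autoImplicit false

namespace Cfsg.Agent.H8.J1

open Subgroup

variable {G : Type*} [Group G] {ι : Q →* G}

structure Base (ι : Q →* G) : Prop where
  inj : Function.Injective ι
  cent : ∀ g : G, g * ι z0 = ι z0 * g → ∃ k, ι k = g

theorem Base.ne (B : Base ι) {m n : Q} (h : m ≠ n) : ι m ≠ ι n := fun e => h (B.inj e)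

theorem Base.cent_conj (B : Base ι) {g v : G} (h : v * (g⁻¹ * ι z0 * g) = g⁻¹ * ι z0 * g * v) :
    ∃ k, g⁻¹ * ι k * g = v := by
  obtain ⟨k, hk⟩ := B.cent (g * v * g⁻¹) (by
    calc g * v * g⁻¹ * ι z0 = g * (v * (g⁻¹ * ι z0 * g)) * g⁻¹ := by group
      _ = _ := by rw [h]; group)
  exact ⟨k, by rw [hk]; group⟩

theorem Base.centS (B : Base ι) {g : G} (h1 : g * ι z0 = ι z0 * g) (h2 : g * ι a0 = ι a0 * g) :
    ∃ k, inS k ∧ ι k = g := by
  obtain ⟨k, rfl⟩ := B.cent g h1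
  exact ⟨k, B.inj (by simpa using h2), rfl⟩

def Arc (ι : Q →* G) (u v : G) : Prop := ∃ g : G, g⁻¹ * ι z0 * g = u ∧ g⁻¹ * ι a0 * g = v

theorem Arc.conj {u v : G} (h : Arc ι u v) (g : G) : Arc ι (g⁻¹ * u * g) (g⁻¹ * v * g) := by
  obtain ⟨k, rfl, rfl⟩ := h
  exact ⟨k * g, by group, by group⟩

theorem arc_of_conj {m : Q} (k : Q) (h : k⁻¹ * a0 * k = m) : Arc ι (ι z0) (ι m) :=
  ⟨ι k, by rw [← map_inv, ← map_mul, ← map_mul, mul_assoc, ← q_z, inv_mul_cancel_left],
    by rw [← h]; simp⟩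

theorem Base.arc_or (B : Base ι) {g v : G} (h1 : v * v = 1) (h2 : v ≠ 1)
    (h3 : v ≠ g⁻¹ * ι z0 * g) (h : v * (g⁻¹ * ι z0 * g) = g⁻¹ * ι z0 * g * v) :
    Arc ι (g⁻¹ * ι z0 * g) v ∨ Arc ι (g⁻¹ * ι z0 * g) (g⁻¹ * ι z0 * g * v) := by
  obtain ⟨m, rfl⟩ := B.cent_conj h
  obtain ⟨k, hk | hk⟩ := q_AT m (B.inj (by
      rw [map_mul, map_one]
      calc ι m * ι m = g * (g⁻¹ * ι m * g * (g⁻¹ * ι m * g)) * g⁻¹ := by group
        _ = 1 := by rw [h1]; group))
    (by rintro rfl; simp at h2) (by rintro rfl; exact h3 rfl)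
  · exact Or.inl ((arc_of_conj k hk).conj g)
  · refine Or.inr ?_
    have := (arc_of_conj (ι := ι) k hk).conj g
    rwa [map_mul, show g⁻¹ * (ι z0 * ι m) * g = g⁻¹ * ι z0 * g * (g⁻¹ * ι m * g) by group] at this

theorem Base.arc_asymm (B : Base ι) (hta : ∃ g : G, g⁻¹ * ι z0 * g = ι (z0 * a0)) {u v : G}
    (h1 : Arc ι u v) (h2 : Arc ι v u) : False := by
  obtain ⟨g, rfl, rfl⟩ := h1
  obtain ⟨h, h3, h4⟩ := h2
  obtain ⟨f, hf⟩ := hta
  have e1 : (h * g⁻¹)⁻¹ * ι z0 * (h * g⁻¹) = ι a0 := by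
    calc _ = g * (h⁻¹ * ι z0 * h) * g⁻¹ := by group
      _ = _ := by rw [h3]; group
  have e2 : (h * g⁻¹)⁻¹ * ι a0 * (h * g⁻¹) = ι z0 := by
    calc _ = g * (h⁻¹ * ι a0 * h) * g⁻¹ := by group
      _ = _ := by rw [h4]; group
  generalize h * g⁻¹ = k at e1 e2
  have e3 : k⁻¹ * ι (z0 * a0) * k = ι (z0 * a0) := by
    calc _ = k⁻¹ * ι z0 * k * (k⁻¹ * ι a0 * k) := by rw [map_mul]; group
      _ = _ := by rw [e1, e2, ← map_mul, q_z]
  obtain ⟨κ, hκ⟩ := B.cent_conj (g := f) (v := k) (by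
    rw [hf]; calc k * ι (z0 * a0) = k * (k⁻¹ * ι (z0 * a0) * k) := by rw [e3]
      _ = _ := by group)
  obtain ⟨μ, hμ⟩ := B.cent_conj (g := f) (v := ι z0) (by
    rw [hf, ← map_mul, ← map_mul, q_z (z0 * a0)])
  have e4 : κ⁻¹ * μ * κ = μ * z0 := by
    apply B.inj
    have e5 : f⁻¹ * ι (κ⁻¹ * μ * κ) * f = f⁻¹ * ι (μ * z0) * f := by
      calc _ = (f⁻¹ * ι κ * f)⁻¹ * (f⁻¹ * ι μ * f) * (f⁻¹ * ι κ * f) := by
            simp only [map_mul, map_inv]; group
        _ = ι z0 * ι (z0 * a0) := by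
            rw [hκ, hμ, e1, ← map_mul]; exact congrArg ι (by decide +kernel)
        _ = f⁻¹ * ι μ * f * (f⁻¹ * ι z0 * f) := by rw [hμ, hf]
        _ = _ := by simp only [map_mul]; group
    simpa using e5
  have e6 := congrArg sg e4
  have e7 : sg κ⁻¹ + sg κ = 0 := by
    rw [← sg_mul, inv_mul_cancel]; decide +kernel
  rw [sg_mul, sg_mul, sg_mul, add_right_comm, e7, zero_add, left_eq_add] at e6
  exact absurd e6 (by decide +kernel)

/-- the action of an element normalising `S` -/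
def Acts (ι : Q →* G) (g : G) (f : Q → Q) : Prop := ∀ m, inS m → g⁻¹ * ι m * g = ι (f m)

theorem acts_map (k : Q) : Acts ι (ι k) fun m => k⁻¹ * m * k := fun m _ => by simp

theorem Acts.mul {g h : G} {f f' : Q → Q} (h1 : Acts ι g f) (h2 : Acts ι h f')
    (hf : ∀ m, inS m → inS (f m)) : Acts ι (g * h) fun m => f' (f m) := fun m hm => by
  rw [← h2 _ (hf m hm), ← h1 m hm]; group

theorem Acts.congr {g : G} {f f' : Q → Q} (h1 : Acts ι g f) (hf : ∀ m, inS m → f m = f' m) :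
    Acts ι g f' := fun m hm => by rw [h1 m hm, hf m hm]

theorem tf_iter_S (n : ℕ) (m : Q) (hm : inS m) : inS (tf^[n] m) := by
  induction n with
  | zero => exact hm
  | succ n ih => rw [Function.iterate_succ_apply']; exact q_tfS _ ih

theorem Acts.pow {g : G} (h : Acts ι g tf) (n : ℕ) : Acts ι (g ^ n) tf^[n] := by
  induction n with
  | zero => intro m _; simp
  | succ n ih =>
    rw [pow_succ]
    exact (ih.mul h (tf_iter_S n)).congr fun m _ => (Function.iterate_succ_apply' _ _ _).symm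

theorem acts_of_three {g : G} (h1 : g⁻¹ * ι z0 * g = ι a0) (h2 : g⁻¹ * ι a0 * g = ι (a0 * c0))
    (h3 : g⁻¹ * ι c0 * g = ι (z0 * c0)) : Acts ι g tf := by
  have hm : ∀ m n m' n', g⁻¹ * ι m * g = ι m' → g⁻¹ * ι n * g = ι n' →
      g⁻¹ * ι (m * n) * g = ι (m' * n') := fun m n m' n' e1 e2 => by
    rw [map_mul, map_mul, ← e1, ← e2]; group
  intro m hm'
  rcases q_S m hm' with rfl | rfl | rfl | rfl | rfl | rfl | rfl | rfl
  · rw [show tf 1 = 1 by decide +kernel]; simp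
  · exact h1.trans (congrArg ι (by decide +kernel))
  · exact h2.trans (congrArg ι (by decide +kernel))
  · exact (hm _ _ _ _ h1 h2).trans (congrArg ι (by decide +kernel))
  · exact h3.trans (congrArg ι (by decide +kernel))
  · exact (hm _ _ _ _ h1 h3).trans (congrArg ι (by decide +kernel))
  · exact (hm _ _ _ _ h2 h3).trans (congrArg ι (by decide +kernel))
  · exact (hm _ _ _ _ h1 (hm _ _ _ _ h2 h3)).trans (congrArg ι (by decide +kernel))

theorem Base.acts_of_two (B : Base ι) (hta : ∃ g : G, g⁻¹ * ι z0 * g = ι (z0 * a0)) {g : G}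
    (h1 : g⁻¹ * ι z0 * g = ι a0) (h2 : g⁻¹ * ι a0 * g = ι (a0 * c0)) : Acts ι g tf := by
  refine acts_of_three h1 h2 ?_
  have hm : ∀ m n, g⁻¹ * ι (m * n) * g = g⁻¹ * ι m * g * (g⁻¹ * ι n * g) := fun m n => by
    rw [map_mul]; group
  obtain ⟨k, hk, e⟩ := B.centS (g := g * ι z0 * g⁻¹)
    (by
      calc g * ι z0 * g⁻¹ * ι z0 = g * (ι z0 * (g⁻¹ * ι z0 * g)) * g⁻¹ := by group
        _ = g * (g⁻¹ * ι z0 * g * ι z0) * g⁻¹ := by rw [h1, ← map_mul, ← map_mul, q_z]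
        _ = _ := by group)
    (by
      calc g * ι z0 * g⁻¹ * ι a0 = g * (ι z0 * (g⁻¹ * ι a0 * g)) * g⁻¹ := by group
        _ = g * (g⁻¹ * ι a0 * g * ι z0) * g⁻¹ := by rw [h2, ← map_mul, ← map_mul, q_z]
        _ = _ := by group)
  have e' : g⁻¹ * ι k * g = ι z0 := by rw [e]; group
  have Ata : Arc ι (ι z0) (ι a0) := arc_of_conj 1 (by simp)
  have Atc : Arc ι (ι z0) (ι c0) := arc_of_conj (r0 * r0) (by decide +kernel)
  have Atac : Arc ι (ι z0) (ι (a0 * c0)) := arc_of_conj r0 (by decide +kernel)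
  rcases q_S k hk with rfl | rfl | rfl | rfl | rfl | rfl | rfl | rfl
  · exact absurd (by simpa using e'.symm) (B.ne (m := z0) (n := 1) (by decide +kernel))
  · exact absurd (h1.symm.trans e') (B.ne (by decide +kernel))
  · exact absurd (h2.symm.trans e') (B.ne (by decide +kernel))
  · rw [hm, h1, h2, ← map_mul] at e'
    exact absurd e' (B.ne (by decide +kernel))
  · have := Atc.conj g
    rw [h1, e'] at this
    exact (B.arc_asymm hta Ata this).elim
  · exfalso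
    rw [hm, h1, ← eq_inv_mul_iff_mul_eq, ← map_inv, ← map_mul] at e'
    have A1 := (Atac.conj g).conj (ι r0)
    rw [h1, hm, h2, e'] at A1
    have A2 := Ata.conj g
    rw [h1, h2] at A2
    have A3 := A2.conj (ι (r0 * r0))
    simp only [← map_mul, ← map_inv] at A1 A3
    rw [show (r0 * r0)⁻¹ * a0 * (r0 * r0) = c0 by decide +kernel,
      show (r0 * r0)⁻¹ * (a0 * c0) * (r0 * r0) = a0 by decide +kernel] at A3
    have A4 := A3.conj g
    rw [e', h2] at A4
    rw [show r0⁻¹ * a0 * r0 = a0 * c0 by decide +kernel,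
      show r0⁻¹ * (a0 * c0 * (a0⁻¹ * z0)) * r0 = a0⁻¹ * z0 by decide +kernel] at A1
    exact B.arc_asymm hta A1 A4
  · have := Atac.conj g
    rw [h1, e'] at this
    exact (B.arc_asymm hta Ata this).elim
  · rw [hm, hm, h1, h2, ← mul_assoc, ← eq_inv_mul_iff_mul_eq, ← map_mul, ← map_inv,
      ← map_mul] at e'
    exact e'.trans (congrArg ι (by decide +kernel))

theorem Base.pow_seven (B : Base ι) {g : G} (h : Acts ι g tf) : g ^ 7 = 1 := by
  have h7 := h.pow 7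
  have c : ∀ m, inS m → g ^ 7 * ι m = ι m * g ^ 7 := fun m hm => by
    calc g ^ 7 * ι m = g ^ 7 * ((g ^ 7)⁻¹ * ι m * g ^ 7) := by rw [h7 m hm, q_tf7]
      _ = _ := by group
  obtain ⟨k, hk, e⟩ := B.centS (c z0 (by decide +kernel)) (c a0 rfl)
  have := h k hk
  rw [e, show g⁻¹ * g ^ 7 * g = g ^ 7 by group, ← e] at this
  rw [← e, q_tffix k hk (B.inj this).symm, map_one]

theorem Acts.rho {g : G} (h : Acts ι g tf) : Acts ι (((ι r0)⁻¹ * g * ι r0) ^ 4) tf := by
  have h1 : Acts ι ((ι r0)⁻¹ * g * ι r0) fun m => tf (tf m) := by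
    rw [← map_inv]
    refine (((acts_map r0⁻¹).mul h ?_).mul (acts_map r0) ?_).congr ?_
    · intro m hm; simpa using (q_rS m hm).1
    · intro m hm; apply q_tfS; simpa using (q_rS m hm).1
    · intro m hm; simpa using q_tfr m hm
  have hS : ∀ m, inS m → inS (tf (tf m)) := fun m hm => q_tfS _ (q_tfS _ hm)
  have h2 := h1.mul h1 hS
  have h4 := h2.mul h2 fun m hm => hS _ (hS _ hm)
  rw [← pow_two, ← pow_two, ← pow_mul] at h4
  exact h4.congr fun m _ => q_tf7 (tf m)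

theorem Base.card_acts (B : Base ι) {g : G} (h : Acts ι g tf) :
    Nat.card {u : G // Acts ι u tf} = 8 := by
  rw [← card_S0]
  refine (Nat.card_congr (Equiv.ofBijective
    (fun k : S0 => (⟨ι k * g, ?_⟩ : {u : G // Acts ι u tf})) ⟨?_, ?_⟩)).symm
  · refine ((acts_map k.1).mul h fun m hm => ?_).congr fun m hm => ?_ <;>
      rw [mul_assoc, ((q_SS m hm).2 k k.2), inv_mul_cancel_left]
    exact hm
  · intro k k' e
    exact Subtype.ext (B.inj (mul_right_cancel (congrArg Subtype.val e)))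
  · rintro ⟨u, hu⟩
    have c : ∀ m, inS m → u * g⁻¹ * ι m = ι m * (u * g⁻¹) := fun m hm => by
      calc u * g⁻¹ * ι m = u * (g⁻¹ * ι m * g) * g⁻¹ := by group
        _ = u * (u⁻¹ * ι m * u) * g⁻¹ := by rw [h m hm, hu m hm]
        _ = _ := by group
    obtain ⟨k, hk, e⟩ := B.centS (c z0 (by decide +kernel)) (c a0 rfl)
    exact ⟨⟨k, hk⟩, Subtype.ext (by simp [e])⟩

theorem Base.exists_tau (B : Base ι) {g : G} (h : Acts ι g tf) :
    ∃ s : G, Acts ι s tf ∧ (ι r0)⁻¹ * s * ι r0 = s ^ 2 := by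
  classical
  have hc := B.card_acts h
  haveI : Finite {u : G // Acts ι u tf} := Nat.finite_of_card_ne_zero (by rw [hc]; decide)
  letI := Fintype.ofFinite {u : G // Acts ι u tf}
  let f : Function.End {u : G // Acts ι u tf} := fun u => ⟨_, u.2.rho⟩
  have hf : f ^ 3 ^ 1 = 1 := by
    funext u
    apply Subtype.ext
    have e : ∀ x : G, (ι r0)⁻¹ * x * ι r0 = MulAut.conj (ι r0)⁻¹ x := fun x => by simp
    change ((ι r0)⁻¹ * ((ι r0)⁻¹ * ((ι r0)⁻¹ * u.1 * ι r0) ^ 4 * ι r0) ^ 4 * ι r0) ^ 4 = u.1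
    have e3 : (ι r0)⁻¹ * ((ι r0)⁻¹ * ((ι r0)⁻¹ * u.1 * ι r0) * ι r0) * ι r0 = u.1 := by
      calc _ = (ι (r0 * r0 * r0))⁻¹ * u.1 * ι (r0 * r0 * r0) := by simp only [map_mul]; group
        _ = _ := by rw [show r0 * r0 * r0 = 1 by decide +kernel]; simp
    simp only [e, map_pow, ← pow_mul] at e3 ⊢
    rw [e3, show 4 * (4 * 4) = 7 * 9 + 1 by norm_num, pow_succ, pow_mul, B.pow_seven u.2]
    simp
  haveI : Fact (Nat.Prime 3) := ⟨Nat.prime_three⟩
  have h3 := Equiv.Perm.card_fixedPoints_modEq hf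
  rw [← Nat.card_eq_fintype_card, hc] at h3
  obtain ⟨⟨u, hu⟩⟩ : Nonempty f.fixedPoints := by
    rw [← Fintype.card_pos_iff, Nat.pos_iff_ne_zero]
    intro h0
    rw [h0] at h3
    exact absurd h3 (by decide)
  refine ⟨u.1, u.2, ?_⟩
  have e : ((ι r0)⁻¹ * u.1 * ι r0) ^ 4 = u.1 := congrArg Subtype.val hu
  have e7 : ((ι r0)⁻¹ * u.1 * ι r0) ^ 7 = 1 := by
    rw [show (ι r0)⁻¹ * u.1 * ι r0 = (ι r0)⁻¹ * u.1 * (ι r0)⁻¹⁻¹ by simp, conj_pow,
      B.pow_seven u.2]
    simp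
  conv_rhs => rw [← e, ← pow_mul, show 4 * 2 = 7 + 1 by norm_num, pow_succ, e7, one_mul]

/-- the configuration -/
structure JH (ι : Q →* G) (s : G) : Prop extends Base ι where
  acts : Acts ι s tf
  rs : (ι r0)⁻¹ * s * ι r0 = s ^ 2
  h16 : ¬ 16 ∣ Nat.card G

theorem pres_of {s : G} (h1 : Acts ι s tf) (h2 : (ι r0)⁻¹ * s * ι r0 = s ^ 2) (h3 : s ^ 7 = 1) :
    Pres (ι a0) (ι b0) (ι c0) (ι z0) s := by
  have o : ∀ m : Q, m = 1 → ι m = 1 := fun m hm => by rw [hm, map_one]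
  refine ⟨?_, ?_, ?_, ?_, ?_, ?_, ?_, ?_, ?_, ?_, ?_, h3, ?_, ?_, ?_, ?_⟩
  any_goals (simp only [← map_mul, ← map_pow]; exact o _ (by decide +kernel))
  · rw [h1 _ (by decide +kernel), ← map_mul]; exact o _ (by decide +kernel)
  · rw [h1 _ (by decide +kernel), ← map_mul, ← map_mul]; exact o _ (by decide +kernel)
  · rw [h1 _ (by decide +kernel), ← map_mul, ← map_mul]; exact o _ (by decide +kernel)
  · simp only [← map_mul]
    rw [show b0 * c0 * a0 * b0 * c0 * b0 = r0⁻¹ by decide +kernel,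
      show b0 * c0 * b0 * a0 * c0 * b0 = r0 from rfl, map_inv, h2]
    group

theorem card_map_Q (B : Base ι) (K : Subgroup Q) : Nat.card (K.map ι) = Nat.card K :=
  card_map_of_injective B.inj

theorem index_S_odd [Finite G] (B : Base ι) (h : ¬ 16 ∣ Nat.card G) : ¬ 2 ∣ (S0.map ι).index := by
  intro h2
  apply h
  rw [← (S0.map ι).card_mul_index, card_map_Q B, card_S0]
  exact Nat.mul_dvd_mul_left 8 h2

theorem exists_JH [Finite G] [IsSimpleGroup G] (B : Base ι) (h : ¬ 16 ∣ Nat.card G) :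
    ∃ (ι' : Q →* G) (s : G), JH ι' s := by
  have hT : (V0.map ι).relIndex (S0.map ι) = 2 := by
    rw [relIndex_map_map_of_injective _ _ B.inj]
    have h1 := (V0.subgroupOf S0).card_mul_index
    rw [card_S0, Nat.card_congr (subgroupOfEquivOfLe (show V0 ≤ S0 from fun _ h => h.1)).toEquiv,
      card_V0] at h1
    change (V0.subgroupOf S0).index = 2
    omega
  have key : ∀ m, inS m → sg m ≠ 0 → ∃ g : G, g⁻¹ * ι m * g = ι a0 := by
    intro m hm hs
    rcases H1.thompson_transfer_index_two (index_S_odd B h) hT (y := ι m)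
      (by rw [pow_two, ← map_mul, (q_SS m hm).1, map_one]) ⟨m, hm, rfl⟩
      (by rintro ⟨k, hk, e⟩; exact hs (B.inj e ▸ hk.2)) with ⟨N, hN, h2, -⟩ | ⟨g, k, hk, e⟩
    · rcases hN.eq_bot_or_eq_top with rfl | rfl
      · rw [index_bot] at h2
        have := card_dvd_of_injective _ B.inj
        rw [h2, card_Q] at this
        exact absurd this (by decide)
      · simp at h2
    · obtain ⟨j, hj⟩ := q_V k hk (by
        rintro rfl
        rw [map_one, eq_comm, conj_eq_one_iff, ← map_one ι] at e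
        rw [B.inj e] at hs
        exact hs (by decide +kernel))
      refine ⟨g⁻¹ * (ι j)⁻¹, ?_⟩
      calc _ = ι j * (g * ι m * g⁻¹) * (ι j)⁻¹ := by group
        _ = _ := by rw [← e, ← hj]; simp [mul_assoc]
  obtain ⟨g, hg⟩ := key z0 (by decide +kernel) (by decide +kernel)
  obtain ⟨g', hg'⟩ := key (z0 * a0) (by decide +kernel) (by decide +kernel)
  have hta : ∃ g : G, g⁻¹ * ι z0 * g = ι (z0 * a0) :=
    ⟨g * g'⁻¹, by
      calc _ = g' * (g⁻¹ * ι z0 * g) * g'⁻¹ := by group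
        _ = _ := by rw [hg, ← hg']; group⟩
  have main : ∀ ι' : Q →* G, Base ι' → (∃ g : G, g⁻¹ * ι' z0 * g = ι' (z0 * a0)) →
      Arc ι' (ι' a0) (ι' (a0 * c0)) → ∃ s, JH ι' s := by
    rintro ι' B' h' ⟨u, h1, h2⟩
    obtain ⟨s, h3, h4⟩ := B'.exists_tau (B'.acts_of_two h' h1 h2)
    exact ⟨s, B', h3, h4, h⟩
  have := B.arc_or (g := g) (v := ι c0) (by rw [← map_mul, ← map_one ι]; exact congrArg ι (by decide +kernel))
    (by rw [← map_one ι]; exact B.ne (by decide +kernel))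
    (by rw [hg]; exact B.ne (by decide +kernel))
    (by rw [hg, ← map_mul, ← map_mul]; exact congrArg ι (by decide +kernel))
  rw [hg, ← map_mul] at this
  rcases this with h1 | h1
  · refine ⟨ι.comp autQ.toMonoidHom, main _ ⟨B.inj.comp autQ.injective, fun u hu => ?_⟩ ?_ ?_⟩
    · simp only [MonoidHom.comp_apply, MulEquiv.coe_toMonoidHom, autQ_z] at hu
      obtain ⟨k, rfl⟩ := B.cent u hu
      exact ⟨autQ.symm k, by simp⟩
    · simpa [autQ_z, autQ_a] using hta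
    · have e : a0 * (a0 * c0) = c0 := by decide +kernel
      unfold Arc
      simp only [MonoidHom.comp_apply, MulEquiv.coe_toMonoidHom, map_mul autQ, autQ_z, autQ_a,
        autQ_c, e]
      exact h1
  · exact ⟨ι, main _ B hta h1⟩

theorem exists_base [Finite G] {t : G} (ht : orderOf t = 2)
    (hP : ∃ P : Sylow 2 G, t ∈ P ∧ ∀ x ∈ P, x * t = t * x)
    (e : centralizer ({t} : Set G) ≃* Multiplicative (ZMod 2) × alternatingGroup (Fin 5)) :
    ∃ ι : Q →* G, Base ι ∧ ¬ 16 ∣ Nat.card G := by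
  let e' : Q ≃* centralizer ({t} : Set G) := eqvQ.trans e.symm
  let ι : Q →* G := (centralizer ({t} : Set G)).subtype.comp e'.toMonoidHom
  have htC : t ∈ centralizer ({t} : Set G) := mem_centralizer_singleton_iff.2 rfl
  have hz : ι z0 = t := by
    have c : ∀ m, e'.symm ⟨t, htC⟩ * m = m * e'.symm ⟨t, htC⟩ := fun m => by
      apply e'.injective
      rw [map_mul, map_mul, e'.apply_symm_apply]
      exact Subtype.ext (mem_centralizer_singleton_iff.1 (e' m).2).symm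
    rw [← q_central _ (fun h => H3.ne_one_of_orderOf_two ht (by
      have := congrArg e' h
      rw [e'.apply_symm_apply, map_one] at this
      exact congrArg Subtype.val this)) (c a0) (c b0)]
    simp [ι]
  refine ⟨ι, ⟨Subtype.val_injective.comp e'.injective, fun g hg => ?_⟩, fun h16 => ?_⟩
  · rw [hz] at hg
    exact ⟨e'.symm ⟨g, mem_centralizer_singleton_iff.2 hg⟩, by simp [ι]⟩
  · obtain ⟨P, -, hP⟩ := hP
    have h1 : (P : Subgroup G) ≤ centralizer {t} := fun x hx =>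
      mem_centralizer_singleton_iff.2 (hP x hx)
    have h2 := card_dvd_of_le h1
    rw [← Nat.card_congr e'.toEquiv, card_Q] at h2
    have h3 : 2 ^ 4 ∣ Nat.card P := P.pow_dvd_card_of_pow_dvd_card h16
    exact absurd (h3.trans h2) (by decide)

end Cfsg.Agent.H8.J1
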