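import Cfsg.Agent.H8.J1R
import Cfsg.Agent.H2.CoprimeGen

/-! The centralisers of elements of order three and five. -/

set_option autoImplicit false

namespace Cfsg.Agent.H8.J1

open Subgroup

variable {G : Type*} [Group G] [Finite G] {ι : Q →* G} {s : G}

theorem isPGroup_S (B : Base ι) : IsPGroup 2 (S0.map ι) :=
  IsPGroup.of_card (n := 3) (by rw [card_map_Q B, card_S0]; rfl)

noncomputable def JH.sylow (J : JH ι s) : Sylow 2 G :=
  (isPGroup_S J.toBase).toSylow (index_S_odd J.toBase J.h16)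

theorem JH.conj_t (J : JH ι s) {u : G} (h1 : u * u = 1) (h2 : u ≠ 1) :
    ∃ g : G, g⁻¹ * ι z0 * g = u := by
  obtain ⟨g, m, hm, e⟩ := H3.exists_conj_mem_sylow_two J.sylow (H3.orderOf_two_of_mul_self h1 h2)
  obtain ⟨i, rfl⟩ := q_tftr m hm (by
    rintro rfl
    rw [map_one, eq_comm, conj_eq_one_iff] at e
    exact h2 e)
  rw [← J.acts.pow i z0 (by decide +kernel)] at e
  refine ⟨s ^ i.1 * g, ?_⟩
  calc _ = g⁻¹ * ((s ^ i.1)⁻¹ * ι z0 * s ^ i.1) * g := by group
    _ = u := by rw [e]; group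

theorem JH.two_comm (J : JH ι s) {T : Subgroup G} (hT : IsPGroup 2 T) {u v : G} (hu : u ∈ T)
    (hv : v ∈ T) : u * u = 1 ∧ u * v = v * u := by
  obtain ⟨g, hg⟩ := H3.exists_conj_le_sylow J.sylow hT
  obtain ⟨m, hm, e1⟩ := hg u hu
  obtain ⟨n, hn, e2⟩ := hg v hv
  have h1 : u = g⁻¹ * ι m * g := by rw [e1]; group
  have h2 : v = g⁻¹ * ι n * g := by rw [e2]; group
  constructor
  · calc u * u = g⁻¹ * ι (m * m) * g := by rw [h1, map_mul]; group
      _ = 1 := by rw [(q_SS m hm).1]; simp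
  · calc u * v = g⁻¹ * ι (m * n) * g := by rw [h1, h2, map_mul]; group
      _ = g⁻¹ * ι (n * m) * g := by rw [(q_SS m hm).2 n hn]
      _ = _ := by rw [h1, h2, map_mul]; group

omit [Finite G] in
theorem pow15_of_odd (B : Base ι) {m : Q} {g : G} (h : Odd (orderOf (g⁻¹ * ι m * g))) :
    m ^ 15 = 1 := by
  have h1 : orderOf (g⁻¹ * ι m * g) = orderOf m := by
    rw [← orderOf_injective ι B.inj m, ← H3.orderOf_conj g⁻¹ (ι m), inv_inv]
  rw [h1] at h
  have h2 : orderOf m ∣ 2 * 15 := orderOf_dvd_of_pow_eq_one (q_30 m)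
  exact orderOf_dvd_iff_pow_eq_one.1
    ((Nat.coprime_two_right.2 h).dvd_of_dvd_mul_left h2)

omit [Finite G] in
theorem eq_one_of_sq_odd {u : G} (h1 : u * u = 1) (h2 : Odd (orderOf u)) : u = 1 := by
  by_contra h
  rw [H3.orderOf_two_of_mul_self h1 h] at h2
  exact absurd h2 (by decide)

theorem JH.exists_core (J : JH ι s) {m₀ : Q}
    (hc : ∀ m, m * m₀ = m₀ * m → m * m = 1 → m = 1 ∨ m = z0) :
    ∃ O : Subgroup G, (∀ g, g ∈ O ↔ g ∈ centralizer {ι m₀} ∧ Odd (orderOf g)) ∧ Odd (Nat.card O) ∧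
      centralizer {ι m₀} ≤ O ⊔ zpowers (ι z0) := by
  set C := centralizer {ι m₀} with hC
  have htt : ι z0 * ι z0 = 1 := J.pres.tt
  have ht1 : ι z0 ≠ 1 := by rw [← map_one ι]; exact J.toBase.ne (by decide +kernel)
  have htC : ι z0 ∈ C := mem_centralizer_singleton_iff.2 (by rw [← map_mul, ← map_mul, q_z])
  obtain ⟨T, hT⟩ := (H3.isPGroup_zpowers_of_orderOf_two (x := (⟨ι z0, htC⟩ : C)) (by
    rw [← orderOf_coe]; exact H3.orderOf_two_of_mul_self htt ht1)).exists_le_sylow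
  have hT2 : (T : Subgroup C) ≤ zpowers ⟨ι z0, htC⟩ := by
    intro u hu
    obtain ⟨h1, h2⟩ := J.two_comm (T.isPGroup'.map C.subtype) (u := u) (v := ι z0) ⟨u, hu, rfl⟩
      ⟨_, hT (mem_zpowers _), rfl⟩
    obtain ⟨k, hk⟩ := J.cent _ h2
    have h3 := mem_centralizer_singleton_iff.1 u.2
    rw [← hk] at h1 h3
    rcases hc k (J.inj (by simpa using h3)) (J.inj (by simpa using h1)) with rfl | rfl
    · rw [show u = 1 from Subtype.ext (by simpa using hk.symm)]; exact one_mem _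
    · rw [show u = ⟨ι z0, htC⟩ from Subtype.ext hk.symm]; exact mem_zpowers _
  obtain ⟨N, hN, hc'⟩ := H3.exists_normal_complement_of_isCyclic T (isCyclic_of_le hT2)
  have hodd : Odd (Nat.card N) := by
    rw [← hc'.index_eq_card]; exact Nat.not_even_iff_odd.1 fun h => T.not_dvd_index h.two_dvd
  refine ⟨N.map C.subtype, fun g => ⟨?_, ?_⟩, ?_, ?_⟩
  · rintro ⟨n, hn, rfl⟩
    refine ⟨n.2, ?_⟩
    rw [show orderOf (C.subtype n) = orderOf n from orderOf_coe n]
    exact hodd.of_dvd_nat (N.orderOf_dvd_natCard hn)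
  · rintro ⟨hg, ho⟩
    refine ⟨⟨g, hg⟩, ?_, rfl⟩
    obtain ⟨k, hk⟩ := T.isPGroup'.exists_card_eq
    have h1 : orderOf (QuotientGroup.mk' N ⟨g, hg⟩) ∣ 2 ^ k := by
      rw [← hk, ← hc'.symm.index_eq_card]; exact orderOf_dvd_natCard _
    have h2 : orderOf (QuotientGroup.mk' N ⟨g, hg⟩) ∣ orderOf g := by
      rw [show orderOf g = orderOf (⟨g, hg⟩ : C) from orderOf_coe (⟨g, hg⟩ : C)]
      exact orderOf_map_dvd _ _
    have h3 := Nat.eq_one_of_dvd_coprimes ((Nat.coprime_two_left.2 ho).pow_left k) h1 h2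
    exact (QuotientGroup.eq_one_iff _).1 (orderOf_eq_one_iff.1 h3)
  · rwa [card_map_of_injective C.subtype_injective]
  · intro g hg
    have h1 : (⟨g, hg⟩ : C) ∈ N ⊔ (T : Subgroup C) := by rw [hc'.sup_eq_top]; trivial
    have h2 := mem_map_of_mem C.subtype h1
    rw [Subgroup.map_sup] at h2
    refine sup_le_sup_left ((map_mono hT2).trans ?_) _ h2
    rw [MonoidHom.map_zpowers]; rfl

theorem JH.loc (J : JH ι s) {m₀ : Q} (hi : a0 * m₀ * a0 = m₀⁻¹)
    (hc : ∀ m, m * m₀ = m₀ * m → m * m = 1 → m = 1 ∨ m = z0) {L : Subgroup G}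
    (h0 : ∀ m, m * m₀ = m₀ * m → ι m ∈ L)
    (h1 : ∀ n, (n = x0 ∨ n = x1 ∨ n = y1 ∨ n = y0) → Rel ι s m₀ n →
      (ι r0 * s)⁻¹ * ι n * (ι r0 * s) ∈ L)
    (h2 : ∀ n, (n = x0 ∨ n = x1 ∨ n = y1 ∨ n = y0) → Rel ι s n m₀ →
      ι r0 * s * ι n * (ι r0 * s)⁻¹ ∈ L) : centralizer {ι m₀} ≤ L := by
  obtain ⟨O, hO, hodd, hle⟩ := J.exists_core hc
  refine hle.trans (sup_le ?_ (zpowers_le.2 (h0 _ (q_z _).symm)))
  have hW : ∀ m, inW m → ι m ∈ normalizer (O : Set G) := by
    intro m hm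
    refine mem_normalizer_fintype fun g hg => (hO _).2 ⟨?_, ?_⟩
    · have h3 := mem_centralizer_singleton_iff.1 ((hO g).1 hg).1
      have h4 : m⁻¹ * m₀ * m = m₀ ∨ m⁻¹ * m₀ * m = m₀⁻¹ := by
        have ha : a0⁻¹ = a0 := by decide +kernel
        rcases hm with rfl | rfl | rfl | rfl
        · simp
        · left; rw [mul_assoc, q_z, inv_mul_cancel_left]
        · right; rw [ha, hi]
        · right
          rw [mul_inv_rev, ha, mul_assoc a0, mul_assoc a0, mul_assoc _ m₀, ← mul_assoc m₀, q_z,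
            mul_assoc z0, inv_mul_cancel_left, ← mul_assoc, hi]
      have h5 : Commute g (ι (m⁻¹ * m₀ * m)) := by
        rcases h4 with e | e <;> rw [e]
        · exact h3
        · rw [map_inv]; exact Commute.inv_right h3
      rw [mem_centralizer_singleton_iff]
      calc _ = ι m * (g * ι (m⁻¹ * m₀ * m)) * (ι m)⁻¹ := by simp only [map_mul, map_inv]; group
        _ = _ := by rw [h5.eq]; simp only [map_mul, map_inv]; group
    · rw [H3.orderOf_conj]; exact ((hO g).1 hg).2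
  have hinv : ∀ w, (w = a0 ∨ w = z0 * a0) → ∀ y ∈ O, y * ι w = ι w * y →
      ι z0 * y * (ι z0)⁻¹ = y⁻¹ := by
    intro w hw y hy hyw
    refine H3.inverts_of_fixedPointFree (N := O ⊓ centralizer {ι w}) J.pres.tt ?_ ?_
      ⟨hy, mem_centralizer_singleton_iff.2 hyw⟩
    · refine mem_normalizer_fintype fun g hg => ⟨?_, ?_⟩
      · exact (mem_normalizer_iff.1 (hW z0 (Or.inr (Or.inl rfl))) g).1 hg.1
      · have h3 : ι z0 ∈ centralizer {ι w} :=
          mem_centralizer_singleton_iff.2 (by rw [← map_mul, ← map_mul, q_z])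
        exact Subgroup.mul_mem _ (Subgroup.mul_mem _ h3 hg.2) (Subgroup.inv_mem _ h3)
    · rintro n ⟨hn1, hn2⟩ hn3
      have h3 := mem_centralizer_singleton_iff.1 hn2
      obtain ⟨k, hk, rfl⟩ := J.toBase.centS hn3.symm (by
        rcases hw with rfl | rfl
        · exact h3
        · rw [map_mul, ← mul_assoc, ← hn3, mul_assoc, mul_assoc] at h3
          exact mul_left_cancel h3)
      exact eq_one_of_sq_odd (by rw [← map_mul, (q_SS k hk).1, map_one]) ((hO _).1 hn1).2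
  have hr := acts_r J.acts
  have r1 : (ι r0 * s)⁻¹ * ι z0 * (ι r0 * s) = ι a0 :=
    (hr _ (by decide +kernel)).trans (congrArg ι (by decide +kernel))
  have r2 : (ι r0 * s)⁻¹ * ι (z0 * a0) * (ι r0 * s) = ι z0 :=
    (hr _ (by decide +kernel)).trans (congrArg ι (by decide +kernel))
  unfold Rel at h1 h2
  generalize ι r0 * s = r at *
  refine H2.le_of_forall_centralizer_le (A := W0.map ι) ?_ ?_ ?_ ?_ ?_
  · refine ⟨⟨fun u v => Subtype.ext ?_⟩⟩
    obtain ⟨_, m, hm, rfl⟩ := u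
    obtain ⟨_, n, hn, rfl⟩ := v
    change ι m * ι n = ι n * ι m
    rw [← map_mul, ← map_mul,
      (by decide +kernel : ∀ m, inW m → ∀ n, inW n → m * n = n * m) m hm n hn]
  · rintro ⟨⟨_, m, hm, rfl⟩, hg⟩
    have h3 := orderOf_eq_card_of_forall_mem_zpowers hg
    rw [card_map_Q J.toBase, card_W0] at h3
    have h4 : (⟨ι m, m, hm, rfl⟩ : W0.map ι) ^ 2 = 1 := Subtype.ext (by
      change ι m ^ 2 = 1
      rw [← map_pow, (by decide +kernel : ∀ m, inW m → m ^ 2 = 1) m hm, map_one])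
    have h5 := orderOf_dvd_of_pow_eq_one h4
    rw [h3] at h5
    exact absurd h5 (by decide)
  · rintro _ ⟨m, hm, rfl⟩; exact hW m hm
  · rw [card_map_Q J.toBase, card_W0]
    exact (Nat.coprime_two_left.2 hodd).pow_left 2
  · rintro _ ⟨w, hw, rfl⟩ hw1 y ⟨hy1, hy2⟩
    have hy3 := mem_centralizer_singleton_iff.1 hy2
    obtain ⟨hy4, hy5⟩ := (hO y).1 hy1
    have hy6 := mem_centralizer_singleton_iff.1 hy4
    rcases hw with rfl | rfl | rfl | rfl
    · simp at hw1
    · obtain ⟨k, rfl⟩ := J.cent y hy3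
      exact h0 k (J.inj (by simpa using hy6))
    · have h3 := hinv a0 (Or.inl rfl) y hy1 hy3
      obtain ⟨m, rfl⟩ := J.toBase.cent_conj (g := r) (v := y) (by rw [r1]; exact hy3)
      have h4 : a0 * m * a0 = m⁻¹ := by
        apply J.inj
        rw [← r2] at h3
        have h5 : ι (z0 * a0 * m * (z0 * a0)⁻¹) = ι m⁻¹ := by
          calc _ = r * (r⁻¹ * ι (z0 * a0) * r * (r⁻¹ * ι m * r) * (r⁻¹ * ι (z0 * a0) * r)⁻¹) *
              r⁻¹ := by simp only [map_mul, map_inv]; group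
            _ = _ := by rw [h3, map_inv]; group
        rw [← h5, mul_inv_rev, show a0⁻¹ = a0 by decide +kernel, mul_assoc z0, mul_assoc z0,
          ← mul_assoc _ a0, ← q_z, inv_mul_cancel_right]
      rcases q_four m h4 (pow15_of_odd J.toBase hy5) with rfl | ⟨n, hn, ⟨i, hi'⟩, j, hj⟩
      · simp
      · have h5 := (Rel.pow (ι := ι) (s := (ι r0)⁻¹ * r) (m := m₀) (n := m)
          (by unfold Rel; rw [mul_inv_cancel_left]; exact hy6.symm) 1 i)
        unfold Rel at h5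
        rw [mul_inv_cancel_left, pow_one, hi'] at h5
        have h6 := L.pow_mem (h1 n hn h5) j
        rwa [show r⁻¹ * ι n * r = r⁻¹ * ι n * r⁻¹⁻¹ by simp, conj_pow, inv_inv, ← map_pow,
          hj] at h6
    · have h3 := hinv _ (Or.inr rfl) y hy1 hy3
      have r3 : r⁻¹⁻¹ * ι z0 * r⁻¹ = ι (z0 * a0) := by rw [← r2]; group
      obtain ⟨m, rfl⟩ := J.toBase.cent_conj (g := r⁻¹) (v := y) (by rw [r3]; exact hy3)
      have h4 : a0 * m * a0 = m⁻¹ := by
        apply J.inj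
        have h5 : ι (a0 * m * a0⁻¹) = ι m⁻¹ := by
          calc _ = r⁻¹ * (ι z0 * (r⁻¹⁻¹ * ι m * r⁻¹) * (ι z0)⁻¹) * r := by
                simp only [map_mul, map_inv, ← r1]; group
            _ = _ := by rw [h3, map_inv]; group
        rw [← h5, show a0⁻¹ = a0 by decide +kernel]
      rcases q_four m h4 (pow15_of_odd J.toBase hy5) with rfl | ⟨n, hn, ⟨i, hi'⟩, j, hj⟩
      · simp
      · have h5 := (Rel.pow (ι := ι) (s := (ι r0)⁻¹ * r) (m := m) (n := m₀)
          (by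
            unfold Rel
            rw [mul_inv_cancel_left, Commute, SemiconjBy]
            calc _ = r⁻¹ * (r⁻¹⁻¹ * ι m * r⁻¹ * ι m₀) * r := by group
              _ = _ := by rw [hy6]; group) i 1)
        unfold Rel at h5
        rw [mul_inv_cancel_left, pow_one, hi'] at h5
        have h6 := L.pow_mem (h2 n hn h5) j
        rwa [conj_pow, ← map_pow, hj, ← inv_inv r, inv_inv r⁻¹] at h6

theorem cent_card (B : Base ι) {x g : G} (hx : Odd (orderOf x))
    (hw : g⁻¹ * ι z0 * g * x * (g⁻¹ * ι z0 * g)⁻¹ = x⁻¹) (D : Subgroup Q)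
    (hD : ∀ d ∈ D, Commute x (g⁻¹ * ι d * g))
    (hle : ∀ L : Subgroup G, x ∈ L → (∀ d ∈ D, g⁻¹ * ι d * g ∈ L) → centralizer {x} ≤ L) :
    Nat.card (centralizer {x}) = orderOf x * Nat.card D ∧
      Nat.card {u : G // (u * u = 1 ∧ u ≠ 1) ∧ u * x = x * u} =
        Nat.card {d : Q // d ∈ D ∧ d * d = 1 ∧ d ≠ 1} := by
  have conj_one : ∀ {d : Q}, g⁻¹ * ι d * g = 1 → ι d = ι 1 := fun {d} h => by
    calc ι d = g * (g⁻¹ * ι d * g) * g⁻¹ := by group
      _ = _ := by rw [h]; simp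
  let κ : D →* G := ((MulAut.conj g⁻¹).toMonoidHom.comp ι).comp D.subtype
  have hκ : ∀ d : D, κ d = g⁻¹ * ι d * g := fun d => by simp [κ]
  let ψ : zpowers x × D →* G := (zpowers x).subtype.noncommCoprod κ (by
    rintro ⟨_, n, rfl⟩ d
    rw [hκ]; exact (hD d d.2).zpow_left n)
  have hψ : ∀ u d, ψ (u, d) = u * (g⁻¹ * ι d * g) := fun u d => by rw [← hκ]; rfl
  have hinj : Function.Injective ψ := by
    rw [injective_iff_map_eq_one]
    rintro ⟨⟨_, n, rfl⟩, d⟩ h
    rw [hψ, mul_eq_one_iff_eq_inv] at h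
    have h1 := H3.conj_zpow_of_inverts hw n
    have h2 : x ^ n * x ^ n = 1 := by
      simp only at h
      have h3 : g⁻¹ * ι z0 * g * x ^ n * (g⁻¹ * ι z0 * g)⁻¹ = x ^ n := by
        rw [h]
        calc _ = g⁻¹ * ι (z0 * d.1⁻¹ * z0⁻¹) * g := by simp only [map_mul, map_inv]; group
          _ = _ := by rw [← q_z, mul_inv_cancel_right, map_inv]; group
      rw [h3, zpow_neg] at h1
      exact mul_eq_one_iff_eq_inv.2 h1
    have h3 : x ^ n = 1 := eq_one_of_sq_odd h2 (hx.of_dvd_nat (orderOf_dvd_of_mem_zpowers ⟨n, rfl⟩))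
    refine Prod.ext (Subtype.ext h3) (Subtype.ext (B.inj ?_))
    simp only [h3] at h
    exact conj_one (inv_eq_one.1 h.symm)
  have hr : ψ.range = centralizer {x} := by
    refine le_antisymm ?_ (hle _ ⟨(⟨x, mem_zpowers x⟩, 1), by simp [hψ]⟩
      fun d hd => ⟨(1, ⟨d, hd⟩), by simp [hψ]⟩)
    rintro _ ⟨⟨⟨_, n, rfl⟩, d⟩, rfl⟩
    rw [mem_centralizer_singleton_iff, hψ]
    exact (((Commute.refl x).zpow_right n).mul_right (hD d d.2)).symm
  constructor
  · rw [← hr, ← Nat.card_congr (MonoidHom.ofInjective hinj).toEquiv, Nat.card_prod, Nat.card_zpowers]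
  · refine (Nat.card_congr (Equiv.ofBijective (fun d : {d : Q // d ∈ D ∧ d * d = 1 ∧ d ≠ 1} =>
      (⟨g⁻¹ * ι d * g, ⟨?_, ?_⟩, (hD d d.2.1).symm⟩ :
        {u : G // (u * u = 1 ∧ u ≠ 1) ∧ u * x = x * u})) ⟨?_, ?_⟩)).symm
    · calc _ = g⁻¹ * ι (d * d) * g := by rw [map_mul]; group
        _ = 1 := by rw [d.2.2.1]; simp
    · intro h
      exact d.2.2.2 (B.inj (conj_one h))
    · intro d d' h
      exact Subtype.ext (B.inj (by simpa using h))
    · rintro ⟨u, ⟨h1, h2⟩, h3⟩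
      have h4 : u ∈ ψ.range := by rw [hr]; exact mem_centralizer_singleton_iff.2 h3
      obtain ⟨⟨v, d⟩, rfl⟩ := h4
      rw [← map_mul, ← map_one ψ] at h1
      have h5 := hinj h1
      have h6 : v = 1 := Subtype.ext (eq_one_of_sq_odd (congrArg (fun z => z.1.1) h5)
        (hx.of_dvd_nat (orderOf_dvd_of_mem_zpowers v.2)))
      subst h6
      exact ⟨⟨d, d.2, congrArg (fun z => z.2.1) h5, fun h => h2 (by simp [hψ, h])⟩,
        Subtype.ext (by simp [hψ])⟩

omit [Finite G] in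
theorem orderOf_x0 (B : Base ι) : orderOf (ι x0) = 3 := by
  rw [orderOf_injective ι B.inj]
  haveI : Fact (Nat.Prime 3) := ⟨Nat.prime_three⟩
  exact orderOf_eq_prime (by decide +kernel) (by decide +kernel)

omit [Finite G] in
theorem orderOf_y0 (B : Base ι) : orderOf (ι y0) = 5 := by
  rw [orderOf_injective ι B.inj]
  haveI : Fact (Nat.Prime 5) := ⟨Nat.prime_five⟩
  exact orderOf_eq_prime (by decide +kernel) (by decide +kernel)

/-- number of involutions commuting with `x` -/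
noncomputable def nI (x : G) : ℕ := Nat.card {u : G // (u * u = 1 ∧ u ≠ 1) ∧ u * x = x * u}

theorem JH.cent_x (J : JH ι s) (D : Subgroup Q) (h1 : z0 * a0 ∈ D)
    (h2 : ∀ d ∈ D, Rel ι s x0 d) (h3 : Rel ι s x0 y0 → y0 ∈ D) :
    Nat.card (centralizer {ι x0}) = 3 * Nat.card D ∧
      nI (ι x0) = Nat.card {d : Q // d ∈ D ∧ d * d = 1 ∧ d ≠ 1} := by
  have hr := acts_r J.acts
  have r1 : (ι r0 * s)⁻¹ * ι z0 * (ι r0 * s) = ι a0 :=
    (hr _ (by decide +kernel)).trans (congrArg ι (by decide +kernel))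
  have r2 : (ι r0 * s)⁻¹ * ι (z0 * a0) * (ι r0 * s) = ι z0 :=
    (hr _ (by decide +kernel)).trans (congrArg ι (by decide +kernel))
  rw [← orderOf_x0 J.toBase]
  refine cent_card J.toBase (g := ι r0 * s) (by rw [orderOf_x0 J.toBase]; decide) ?_ D h2 ?_
  · rw [r1, ← map_inv, ← map_inv, ← map_mul, ← map_mul]; exact congrArg ι (by decide +kernel)
  · intro L hx hL
    refine J.loc (by decide +kernel) (by decide +kernel) (fun m hm => ?_) (fun n hn h => ?_)
      fun n hn h => (J.rel_x0_right hn h).elim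
    · obtain ⟨i, rfl | rfl⟩ := q_cx m hm
      · rw [map_pow]; exact L.pow_mem hx _
      · rw [map_mul, map_pow]; exact L.mul_mem (r2 ▸ hL _ h1) (L.pow_mem hx _)
    · obtain rfl := J.rel_x0_left hn h
      exact hL _ (h3 h)

theorem JH.cent_y (J : JH ι s) (D : Subgroup Q) (h1 : a0 ∈ D)
    (h2 : ∀ d ∈ D, Rel ι s d y0) (h3 : Rel ι s x0 y0 → x0 ∈ D) :
    Nat.card (centralizer {ι y0}) = 5 * Nat.card D ∧
      nI (ι y0) = Nat.card {d : Q // d ∈ D ∧ d * d = 1 ∧ d ≠ 1} := by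
  have hr := acts_r J.acts
  have r1 : (ι r0 * s)⁻¹ * ι z0 * (ι r0 * s) = ι a0 :=
    (hr _ (by decide +kernel)).trans (congrArg ι (by decide +kernel))
  have r2 : (ι r0 * s)⁻¹ * ι (z0 * a0) * (ι r0 * s) = ι z0 :=
    (hr _ (by decide +kernel)).trans (congrArg ι (by decide +kernel))
  have r3 : (ι r0 * s)⁻¹⁻¹ * ι z0 * (ι r0 * s)⁻¹ = ι (z0 * a0) := by rw [← r2]; group
  have r4 : (ι r0 * s)⁻¹⁻¹ * ι a0 * (ι r0 * s)⁻¹ = ι z0 := by rw [← r1]; group
  rw [← orderOf_y0 J.toBase]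
  refine cent_card J.toBase (g := (ι r0 * s)⁻¹) (by rw [orderOf_y0 J.toBase]; decide) ?_ D ?_ ?_
  · rw [r3, ← map_inv, ← map_inv, ← map_mul, ← map_mul]; exact congrArg ι (by decide +kernel)
  · intro d hd
    have := h2 d hd
    unfold Rel at this
    generalize ι r0 * s = r at *
    rw [Commute, SemiconjBy]
    calc _ = r * (r⁻¹ * ι y0 * r * ι d) * r⁻¹ := by group
      _ = _ := by rw [← this.eq]; group
  · intro L hx hL
    refine J.loc (by decide +kernel) (by decide +kernel) (fun m hm => ?_)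
      (fun n hn h => (J.rel_y0_left hn h).elim) (fun n hn h => ?_)
    · obtain ⟨i, rfl | rfl⟩ := q_cy m hm
      · rw [map_pow]; exact L.pow_mem hx _
      · rw [map_mul, map_pow]; exact L.mul_mem (r4 ▸ hL _ h1) (L.pow_mem hx _)
    · obtain rfl := J.rel_y0_right hn h
      simpa using hL _ (h3 h)

omit [Finite G] in
theorem JH.rel_ta (J : JH ι s) (m : Q) : Rel ι s m (z0 * a0) := by
  unfold Rel
  rw [((acts_r J.acts) _ (by decide +kernel)).trans (congrArg ι (by decide +kernel : _ = z0))]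
  exact (show Commute m z0 from q_z m).map ι

omit [Finite G] in
theorem JH.rel_a (J : JH ι s) : Rel ι s a0 y0 := by
  have h := J.rel_ta
  unfold Rel at *
  rw [← ((acts_r J.acts) z0 (by decide +kernel)).trans (congrArg ι (by decide +kernel : _ = a0))]
  generalize ι r0 * s = r
  rw [Commute, SemiconjBy]
  calc _ = r⁻¹ * ι (z0 * y0) * r := by rw [map_mul]; group
    _ = _ := by rw [← q_z, map_mul]; group

omit [Finite G] in
theorem Rel.mul_right {m n n' : Q} (h : Rel ι s m n) (h' : Rel ι s m n') : Rel ι s m (n * n') := by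
  unfold Rel at *
  have := h.mul_right h'
  generalize ι r0 * s = r at *
  rwa [show r⁻¹ * ι n * r * (r⁻¹ * ι n' * r) = r⁻¹ * (ι n * ι n') * r by group, ← map_mul] at this

omit [Finite G] in
theorem Rel.mul_left {m m' n : Q} (h : Rel ι s m n) (h' : Rel ι s m' n) : Rel ι s (m * m') n := by
  unfold Rel at *
  rw [map_mul ι m]; exact h.mul_left h'

theorem JH.caseC (J : JH ι s) (h : Rel ι s x0 y0) :
    Nat.card (centralizer {ι x0}) = 30 ∧ nI (ι x0) = 5 ∧
      Nat.card (centralizer {ι y0}) = 30 ∧ nI (ι y0) = 3 := by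
  obtain ⟨h1, h2⟩ := J.cent_x D0 (show inD _ by decide +kernel) (by
    rintro _ ⟨i, rfl | rfl⟩
    · simpa using h.pow 1 i
    · exact (J.rel_ta _).mul_right (by simpa using h.pow 1 i)) fun _ => show inD _ by decide +kernel
  obtain ⟨h3, h4⟩ := J.cent_y E0 (show inE _ by decide +kernel) (by
    rintro _ ⟨i, rfl | rfl⟩
    · simpa using h.pow i 1
    · exact J.rel_a.mul_left (by simpa using h.pow i 1)) fun _ => show inE _ by decide +kernel
  exact ⟨by rw [h1, card_D0], h2.trans card_invD, by rw [h3, card_E0], h4.trans card_invE⟩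

theorem JH.caseB (J : JH ι s) (h : ¬ Rel ι s x0 y0) :
    Nat.card (centralizer {ι x0}) = 6 ∧ nI (ι x0) = 1 ∧
      Nat.card (centralizer {ι y0}) = 10 ∧ nI (ι y0) = 1 := by
  obtain ⟨h1, h2⟩ := J.cent_x D0' (Or.inr rfl) (by
    rintro _ (rfl | rfl)
    · simp [Rel]
    · exact J.rel_ta _) fun h' => absurd h' h
  obtain ⟨h3, h4⟩ := J.cent_y E0' (Or.inr rfl) (by
    rintro _ (rfl | rfl)
    · simp [Rel]
    · exact J.rel_a) fun h' => absurd h' h
  exact ⟨by rw [h1, card_D0'], h2.trans card_invD', by rw [h3, card_E0'], h4.trans card_invE'⟩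

end Cfsg.Agent.H8.J1
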