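import Cfsg.Agent.H8.J1Q

/-! Finite facts on the model of `2 × A₅`. -/

set_option autoImplicit false
set_option maxRecDepth 100000
set_option synthInstance.maxSize 2000

namespace Cfsg.Agent.H8.J1

def r0 : Q := b0 * c0 * b0 * a0 * c0 * b0
def x0 : Q := a0 * b0
def x1 : Q := c0 * a0 * b0 * c0
def y1 : Q := a0 * b0 * c0 * b0
def y0 : Q := c0 * a0 * b0 * c0 * b0 * c0

def mkSub (p : Q → Prop) (h1 : p 1) (hm : ∀ x, p x → ∀ y, p y → p (x * y))
    (hi : ∀ x, p x → p x⁻¹) : Subgroup Q where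
  carrier := {x | p x}
  one_mem' := h1
  mul_mem' := fun hx hy => hm _ hx _ hy
  inv_mem' := fun hx => hi _ hx

theorem card_mkSub (p : Q → Prop) [DecidablePred p] (h1 hm hi) :
    Nat.card (mkSub p h1 hm hi) = (Finset.univ.filter p).card := by
  rw [← Fintype.card_subtype, ← Nat.card_eq_fintype_card]; rfl

@[reducible] def inS (m : Q) : Prop := m * a0 = a0 * m
@[reducible] def inV (m : Q) : Prop := inS m ∧ sg m = 0
@[reducible] def inW (m : Q) : Prop := m = 1 ∨ m = z0 ∨ m = a0 ∨ m = z0 * a0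
@[reducible] def inN (k : Q) : Prop := inS (k⁻¹ * a0 * k) ∧ inS (k⁻¹ * c0 * k)
@[reducible] def inD (m : Q) : Prop := ∃ i : Fin 5, m = y0 ^ i.1 ∨ m = z0 * a0 * y0 ^ i.1
@[reducible] def inD' (m : Q) : Prop := m = 1 ∨ m = z0 * a0
@[reducible] def inE (m : Q) : Prop := ∃ i : Fin 3, m = x0 ^ i.1 ∨ m = a0 * x0 ^ i.1
@[reducible] def inE' (m : Q) : Prop := m = 1 ∨ m = a0

def S0 : Subgroup Q := mkSub inS (by decide +kernel) (by decide +kernel) (by decide +kernel)
def V0 : Subgroup Q := mkSub inV (by decide +kernel) (by decide +kernel) (by decide +kernel)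
def W0 : Subgroup Q := mkSub inW (by decide +kernel) (by decide +kernel) (by decide +kernel)
def D0 : Subgroup Q := mkSub inD (by decide +kernel) (by decide +kernel) (by decide +kernel)
def D0' : Subgroup Q := mkSub inD' (by decide +kernel) (by decide +kernel) (by decide +kernel)
def E0 : Subgroup Q := mkSub inE (by decide +kernel) (by decide +kernel) (by decide +kernel)
def E0' : Subgroup Q := mkSub inE' (by decide +kernel) (by decide +kernel) (by decide +kernel)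

theorem card_S0 : Nat.card S0 = 8 := (card_mkSub _ _ _ _).trans (by decide +kernel)
theorem card_V0 : Nat.card V0 = 4 := (card_mkSub _ _ _ _).trans (by decide +kernel)
theorem card_W0 : Nat.card W0 = 4 := (card_mkSub _ _ _ _).trans (by decide +kernel)
theorem card_D0 : Nat.card D0 = 10 := (card_mkSub _ _ _ _).trans (by decide +kernel)
theorem card_D0' : Nat.card D0' = 2 := (card_mkSub _ _ _ _).trans (by decide +kernel)
theorem card_E0 : Nat.card E0 = 6 := (card_mkSub _ _ _ _).trans (by decide +kernel)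
theorem card_E0' : Nat.card E0' = 2 := (card_mkSub _ _ _ _).trans (by decide +kernel)

theorem card_filter (p : Q → Prop) [DecidablePred p] :
    Nat.card {q // p q} = (Finset.univ.filter p).card := by
  rw [← Fintype.card_subtype, ← Nat.card_eq_fintype_card]

theorem card_N0 : Nat.card {q // inN q} = 24 := (card_filter _).trans (by decide +kernel)
theorem card_N3 : Nat.card {q // inN q ∧ q ^ 3 = 1 ∧ q ≠ 1} = 8 :=
  (card_filter _).trans (by decide +kernel)
theorem card_inv : Nat.card {q : Q // q * q = 1 ∧ q ≠ 1} = 31 :=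
  (card_filter _).trans (by decide +kernel)
theorem card_invD : Nat.card {q : Q // inD q ∧ q * q = 1 ∧ q ≠ 1} = 5 :=
  (card_filter _).trans (by decide +kernel)
theorem card_invD' : Nat.card {q : Q // inD' q ∧ q * q = 1 ∧ q ≠ 1} = 1 :=
  (card_filter _).trans (by decide +kernel)
theorem card_invE : Nat.card {q : Q // inE q ∧ q * q = 1 ∧ q ≠ 1} = 3 :=
  (card_filter _).trans (by decide +kernel)
theorem card_invE' : Nat.card {q : Q // inE' q ∧ q * q = 1 ∧ q ≠ 1} = 1 :=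
  (card_filter _).trans (by decide +kernel)

/-- the action of the element of order seven -/
def tf (m : Q) : Q :=
  if m = z0 then a0 else if m = a0 then a0 * c0 else if m = a0 * c0 then z0 * a0
  else if m = z0 * a0 then c0 else if m = c0 then z0 * c0 else if m = z0 * c0 then z0 * (a0 * c0)
  else if m = z0 * (a0 * c0) then z0 else m

theorem q_z : ∀ m : Q, m * z0 = z0 * m := by decide +kernel
theorem q_central : ∀ m : Q, m ≠ 1 → m * a0 = a0 * m → m * b0 = b0 * m → m = z0 := by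
  decide +kernel
theorem q_AT : ∀ m : Q, m * m = 1 → m ≠ 1 → m ≠ z0 →
    ∃ k : Q, k⁻¹ * a0 * k = m ∨ k⁻¹ * a0 * k = z0 * m := by decide +kernel
theorem q_S : ∀ m : Q, inS m → m = 1 ∨ m = z0 ∨ m = a0 ∨ m = z0 * a0 ∨ m = c0 ∨ m = z0 * c0 ∨
    m = a0 * c0 ∨ m = z0 * (a0 * c0) := by decide +kernel
theorem q_SS : ∀ m : Q, inS m → m * m = 1 ∧ ∀ k : Q, inS k → m * k = k * m := by decide +kernel
theorem q_V : ∀ m : Q, inV m → m ≠ 1 → ∃ k : Q, k⁻¹ * a0 * k = m := by decide +kernel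
theorem q_30 : ∀ m : Q, m ^ 30 = 1 := by decide +kernel
theorem q_four : ∀ m : Q, a0 * m * a0 = m⁻¹ → m ^ 15 = 1 → m = 1 ∨
    ∃ n : Q, (n = x0 ∨ n = x1 ∨ n = y1 ∨ n = y0) ∧ (∃ i : Fin 5, m ^ i.1 = n) ∧
      ∃ i : Fin 5, n ^ i.1 = m := by decide +kernel
theorem q_tfS : ∀ m : Q, inS m → inS (tf m) := by decide +kernel
theorem q_tf7 : ∀ m : Q, tf^[7] m = m := by decide +kernel
theorem q_tffix : ∀ m : Q, inS m → tf m = m → m = 1 := by decide +kernel
theorem q_tftr : ∀ m : Q, inS m → m ≠ 1 → ∃ i : Fin 7, tf^[i.1] z0 = m := by decide +kernel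
theorem q_tfinj : ∀ i j : Fin 7, tf^[i.1] z0 = tf^[j.1] z0 → i = j := by decide +kernel
theorem q_rS : ∀ m : Q, inS m → inS (r0 * m * r0⁻¹) ∧ inS (r0⁻¹ * m * r0) := by decide +kernel
theorem q_tfr : ∀ m : Q, inS m → r0⁻¹ * tf (r0 * m * r0⁻¹) * r0 = tf (tf m) := by decide +kernel
theorem q_cx : ∀ m : Q, m * x0 = x0 * m → ∃ i : Fin 3, m = x0 ^ i.1 ∨ m = z0 * x0 ^ i.1 := by
  decide +kernel
theorem q_cy : ∀ m : Q, m * y0 = y0 * m → ∃ i : Fin 5, m = y0 ^ i.1 ∨ m = z0 * y0 ^ i.1 := by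
  decide +kernel
theorem q_pow : ∀ m : Q, m ≠ 1 → (m ^ 15 * m ^ 15 = 1 ∧ m ^ 15 ≠ 1) ∨
    ∃ i : Fin 3, ∃ k : Q, k⁻¹ * m ^ i.1 * k = x0 ∨ k⁻¹ * m ^ i.1 * k = y0 := by decide +kernel
theorem q_three : ∀ m : Q, m ^ 3 = 1 → m ≠ 1 → ∃ k : Q, k⁻¹ * x0 * k = m := by decide +kernel
theorem q_N : ∀ k : Q, inN k → ∀ m : Q, inS m → inS (k⁻¹ * m * k) ∧ inS (k * m * k⁻¹) := by
  decide +kernel
theorem q_Npow : ∀ k : Q, inN k → k ≠ 1 → k ^ 3 = 1 ∨ (inS (k ^ 3) ∧ k ^ 3 ≠ 1) := by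
  decide +kernel
theorem q_Ntf : ∀ k : Q, inN k → ∀ i : Fin 7,
    (∃ j : Fin 7, tf^[i.1] (k⁻¹ * tf^[j.1] z0 * k) = tf^[j.1] z0) ∨ (inS k ∧ i ≠ 0) := by
  decide +kernel
theorem q_Stf : ∀ k : Q, inS k → ∀ i : Fin 7, i ≠ 0 →
    ∃ w : Q, inS w ∧ tf^[i.1] k = tf^[i.1] w * w := by decide +kernel

end Cfsg.Agent.H8.J1
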