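import Cfsg.Agent.H8.J1A
import Cfsg.Agent.H8.J1T0
import Cfsg.Agent.H8.J1T1
import Cfsg.Agent.H8.J1T2
import Cfsg.Agent.H8.J1T3
import Cfsg.Agent.H8.J1T4
import Cfsg.Agent.H8.J1T5
import Cfsg.Agent.H8.J1T6
import Cfsg.Agent.H8.J1T7

/-! Consequences of the coset enumerations. -/

set_option autoImplicit false

namespace Cfsg.Agent.H8.J1

open Subgroup TC

variable {G : Type*} [Group G] {ι : Q →* G} {s : G}

def Rel (ι : Q →* G) (s : G) (m n : Q) : Prop :=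
  Commute (ι m) ((ι r0 * s)⁻¹ * ι n * (ι r0 * s))

def evQ (l : List ℕ) : Q := (l.map (ltr a0 b0 c0 z0 1)).prod

theorem ev_eq (s : G) (l : List ℕ) (h : ∀ c ∈ l, c < 5) :
    (l.map (ltr (ι a0) (ι b0) (ι c0) (ι z0) s)).prod = ι (evQ l) := by
  induction l with
  | nil => simp [evQ]
  | cons c l ih =>
    rw [List.map_cons, List.prod_cons, ih fun d hd => h d (List.mem_cons_of_mem _ hd)]
    have hc := h c List.mem_cons_self
    interval_cases c <;> simp [evQ, ltr]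

def relW (lx ly : List ℕ) : List ℕ :=
  lx ++ ([6] ++ ([2, 3, 1, 2, 3, 2] ++ (ly ++ ([2, 3, 2, 1, 3, 2] ++ ([5] ++ (lx.reverse ++ ([6] ++
    ([2, 3, 1, 2, 3, 2] ++ (ly.reverse ++ ([2, 3, 2, 1, 3, 2] ++ [5]))))))))))

theorem setup_of (P : Pres (ι a0) (ι b0) (ι c0) (ι z0) s) {K : Subgroup G} (hK : ∀ m, ι m ∈ K)
    (lx ly : List ℕ) {m n : Q} {w : ℕ}
    (h : (∀ c ∈ lx, c < 5) ∧ (∀ c ∈ ly, c < 5) ∧ evQ lx = m ∧ evQ lx.reverse = m⁻¹ ∧ evQ ly = n ∧
      evQ ly.reverse = n⁻¹ ∧ w = pk (relW lx ly) ∧ ∀ c ∈ relW lx ly, c < 16) (hR : Rel ι s m n) :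
    Setup (ltr (ι a0) (ι b0) (ι c0) (ι z0) s) K iv (w :: RLb) 5 := by
  obtain ⟨h1, h2, h3, h4, h5, h6, h7, h8⟩ := h
  refine P.setup (hK _) (hK _) (hK _) (hK _) h7 h8 ?_
  simp only [relW, List.map_append, List.prod_append]
  rw [ev_eq s lx h1, ev_eq s ly h2, ev_eq s lx.reverse (by simpa using h1),
    ev_eq s ly.reverse (by simpa using h2), ev_eq s [2, 3, 1, 2, 3, 2] (by decide),
    ev_eq s [2, 3, 2, 1, 3, 2] (by decide), h3, h4, h5, h6,
    show evQ [2, 3, 1, 2, 3, 2] = r0⁻¹ by decide +kernel,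
    show evQ [2, 3, 2, 1, 3, 2] = r0 by decide +kernel]
  simp only [List.map_cons, List.map_nil, List.prod_cons, List.prod_nil, ltr, mul_one, map_inv]
  calc _ = ι m * ((ι r0 * s)⁻¹ * ι n * (ι r0 * s)) *
        ((ι r0 * s)⁻¹ * ι n * (ι r0 * s) * ι m)⁻¹ := by group
    _ = 1 := by rw [hR.eq, mul_inv_cancel]

theorem JH.s7 (J : JH ι s) : s ^ 7 = 1 := J.toBase.pow_seven J.acts

theorem JH.pres (J : JH ι s) : Pres (ι a0) (ι b0) (ι c0) (ι z0) s := pres_of J.acts J.rs J.s7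

theorem JH.s_not_mem (J : JH ι s) : s ∉ ι.range := by
  rintro ⟨k, rfl⟩
  have := J.acts z0 (by decide +kernel)
  rw [← map_inv, ← map_mul, ← map_mul, mul_assoc, ← q_z, inv_mul_cancel_left] at this
  exact J.toBase.ne (by decide +kernel) this

theorem JH.n0 (J : JH ι s) : ¬ Rel ι s x0 x0 := fun h => J.s_not_mem <|
  T0.out (setup_of J.pres (K := ι.range) (fun m => ⟨m, rfl⟩) [1, 2] [1, 2] (by decide +kernel) h)
theorem JH.n1 (J : JH ι s) : ¬ Rel ι s x0 x1 := fun h => J.s_not_mem <|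
  T1.out (setup_of J.pres (K := ι.range) (fun m => ⟨m, rfl⟩) [1, 2] [3, 1, 2, 3] (by decide +kernel) h)
theorem JH.n2 (J : JH ι s) : ¬ Rel ι s x0 y1 := fun h => J.s_not_mem <|
  T2.out (setup_of J.pres (K := ι.range) (fun m => ⟨m, rfl⟩) [1, 2] [1, 2, 3, 2] (by decide +kernel) h)
theorem JH.n4 (J : JH ι s) : ¬ Rel ι s y1 x0 := fun h => J.s_not_mem <|
  T4.out (setup_of J.pres (K := ι.range) (fun m => ⟨m, rfl⟩) [1, 2, 3, 2] [1, 2] (by decide +kernel) h)
theorem JH.n5 (J : JH ι s) : ¬ Rel ι s y1 x1 := fun h => J.s_not_mem <|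
  T5.out (setup_of J.pres (K := ι.range) (fun m => ⟨m, rfl⟩) [1, 2, 3, 2] [3, 1, 2, 3] (by decide +kernel) h)
theorem JH.n6 (J : JH ι s) : ¬ Rel ι s y1 y1 := fun h => J.s_not_mem <| (inv_mem_iff (x := s)).1 <|
  T6.out (setup_of J.pres (K := ι.range) (fun m => ⟨m, rfl⟩) [1, 2, 3, 2] [1, 2, 3, 2] (by decide +kernel) h)
theorem JH.n7 (J : JH ι s) : ¬ Rel ι s y1 y0 := fun h => J.s_not_mem <|
  T7.out (setup_of J.pres (K := ι.range) (fun m => ⟨m, rfl⟩) [1, 2, 3, 2] [3, 1, 2, 3, 2, 3] (by decide +kernel) h)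

/-- the subgroup generated by the configuration -/
def gen (ι : Q →* G) (s : G) : Subgroup G := closure {ι a0, ι b0, ι c0, ι z0, s}

theorem card_gen_le (P : Pres (ι a0) (ι b0) (ι c0) (ι z0) s) (h : Rel ι s x0 y0) :
    Finite (gen ι s) ∧ Nat.card (gen ι s) ≤ 175560 := by
  haveI : Finite ι.range := Finite.of_surjective _ ι.rangeRestrict_surjective
  have h1 := card_le_of_cover (T3.out (setup_of P (K := ι.range) (fun m => ⟨m, rfl⟩) [1, 2]
    [3, 1, 2, 3, 2, 3] (by decide +kernel) h) (X := {ι a0, ι b0, ι c0, ι z0, s}) (by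
      intro g hg
      simp only [Set.mem_insert_iff, Set.mem_singleton_iff] at hg
      rcases hg with rfl | rfl | rfl | rfl | rfl
      · exact ⟨⟨0, by decide, rfl⟩, 0, by decide, eq_inv_of_mul_eq_one_left P.aa⟩
      · exact ⟨⟨1, by decide, rfl⟩, 1, by decide, eq_inv_of_mul_eq_one_left P.bb⟩
      · exact ⟨⟨2, by decide, rfl⟩, 2, by decide, eq_inv_of_mul_eq_one_left P.cc⟩
      · exact ⟨⟨3, by decide, rfl⟩, 3, by decide, eq_inv_of_mul_eq_one_left P.tt⟩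
      · exact ⟨⟨4, by decide, rfl⟩, 5, by decide, rfl⟩))
  refine ⟨h1.1, h1.2.trans ?_⟩
  have h2 := Nat.card_le_card_of_surjective _ ι.rangeRestrict_surjective
  rw [card_Q] at h2
  omega

theorem q_gen : ∀ q : Q, ∃ i : Fin 5, ∃ j : Fin 3, inS (r0 ^ j.1 * (a0 * b0 * c0) ^ i.1 * q) := by
  decide +kernel

theorem mem_gen (s : G) (m : Q) : ι m ∈ gen ι s := by
  have ha : a0 ∈ (gen ι s).comap ι := subset_closure (by simp)
  have hb : b0 ∈ (gen ι s).comap ι := subset_closure (by simp)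
  have hc : c0 ∈ (gen ι s).comap ι := subset_closure (by simp)
  have hz : z0 ∈ (gen ι s).comap ι := subset_closure (by simp)
  change m ∈ (gen ι s).comap ι
  generalize (gen ι s).comap ι = L at *
  obtain ⟨i, j, h⟩ := q_gen m
  have hr : r0 ∈ L := by unfold r0; repeat (first | assumption | apply L.mul_mem)
  rw [← L.mul_mem_cancel_left (L.mul_mem (L.pow_mem hr j)
    (L.pow_mem (L.mul_mem (L.mul_mem ha hb) hc) i))]
  rcases q_S _ h with e | e | e | e | e | e | e | e <;> rw [e] <;>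
    repeat (first | assumption | exact L.one_mem | apply L.mul_mem)

theorem s_mem_gen (s : G) : s ∈ gen ι s := subset_closure (by simp)

theorem acts_r (h : Acts ι s tf) : Acts ι (ι r0 * s) fun m => tf (r0⁻¹ * m * r0) :=
  (acts_map r0).mul h fun m hm => (q_rS m hm).2

theorem Rel.conj (hs : Acts ι s tf) {m n : Q} (h : Rel ι s m n) :
    Rel ι s (c0 * m * c0) (c0 * n * c0) := by
  have h1 : (ι r0 * s)⁻¹ * ι (z0 * c0) * (ι r0 * s) = ι c0 :=
    (acts_r hs (z0 * c0) (by decide +kernel)).trans (congrArg ι (by decide +kernel))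
  have h2 : c0 * n * c0 = z0 * c0 * n * (z0 * c0) := by
    rw [mul_assoc z0, ← q_z, mul_assoc _ z0, ← mul_assoc z0, show z0 * z0 = 1 by decide +kernel,
      one_mul]
  unfold Rel at *
  rw [h2]
  simp only [map_mul ι _ n, map_mul ι _ (z0 * c0), map_mul ι _ m, map_mul ι _ c0] at *
  generalize ι r0 * s = r at *
  have h3 : r⁻¹ * (ι z0 * ι c0 * ι n * (ι z0 * ι c0)) * r = ι c0 * (r⁻¹ * ι n * r) * ι c0 := by
    conv_rhs => rw [← h1]
    group
  have h4 : ι c0 * ι c0 = 1 := by rw [← map_mul, ← map_one ι]; exact congrArg ι (by decide +kernel)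
  rw [h3, Commute, SemiconjBy]
  calc _ = ι c0 * ι m * (ι c0 * ι c0) * (r⁻¹ * ι n * r) * ι c0 := by group
    _ = ι c0 * (ι m * (r⁻¹ * ι n * r)) * ι c0 := by rw [h4]; group
    _ = ι c0 * (r⁻¹ * ι n * r) * (ι c0 * ι c0) * ι m * ι c0 := by rw [h.eq, h4]; group
    _ = _ := by group

theorem Rel.pow {m n : Q} (h : Rel ι s m n) (i j : ℕ) : Rel ι s (m ^ i) (n ^ j) := by
  unfold Rel at *
  have := (h.pow_left i).pow_right j
  rwa [← map_pow, show (ι r0 * s)⁻¹ * ι n * (ι r0 * s) = (ι r0 * s)⁻¹ * ι n * (ι r0 * s)⁻¹⁻¹ by simp,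
    conj_pow, inv_inv, ← map_pow] at this

theorem JH.rel_x0_left (J : JH ι s) {n : Q} (hn : n = x0 ∨ n = x1 ∨ n = y1 ∨ n = y0)
    (h : Rel ι s x0 n) : n = y0 := by
  rcases hn with rfl | rfl | rfl | rfl
  exacts [(J.n0 h).elim, (J.n1 h).elim, (J.n2 h).elim, rfl]

theorem JH.rel_x0_right (J : JH ι s) {n : Q} (hn : n = x0 ∨ n = x1 ∨ n = y1 ∨ n = y0) :
    ¬ Rel ι s n x0 := fun h => by
  have h' := h.conj J.acts
  rw [show c0 * x0 * c0 = x1 by decide +kernel] at h'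
  rcases hn with rfl | rfl | rfl | rfl
  · exact J.n0 h
  · rw [show c0 * x1 * c0 = x0 by decide +kernel] at h'; exact J.n1 h'
  · exact J.n4 h
  · rw [show c0 * y0 * c0 = y1 by decide +kernel] at h'; exact J.n5 h'

theorem JH.rel_y0_left (J : JH ι s) {n : Q} (hn : n = x0 ∨ n = x1 ∨ n = y1 ∨ n = y0) :
    ¬ Rel ι s y0 n := fun h => by
  have h' := h.conj J.acts
  rw [show c0 * y0 * c0 = y1 by decide +kernel] at h'
  rcases hn with rfl | rfl | rfl | rfl
  · rw [show c0 * x0 * c0 = x1 by decide +kernel] at h'; exact J.n5 h'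
  · rw [show c0 * x1 * c0 = x0 by decide +kernel] at h'; exact J.n4 h'
  · rw [show c0 * y1 * c0 = y0 by decide +kernel] at h'; exact J.n7 h'
  · rw [show c0 * y0 * c0 = y1 by decide +kernel] at h'; exact J.n6 h'

theorem JH.rel_y0_right (J : JH ι s) {n : Q} (hn : n = x0 ∨ n = x1 ∨ n = y1 ∨ n = y0)
    (h : Rel ι s n y0) : n = x0 := by
  have h' := h.conj J.acts
  rw [show c0 * y0 * c0 = y1 by decide +kernel] at h'
  rcases hn with rfl | rfl | rfl | rfl
  · rfl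
  · rw [show c0 * x1 * c0 = x0 by decide +kernel] at h'; exact (J.n2 h').elim
  · exact (J.n7 h).elim
  · rw [show c0 * y0 * c0 = y1 by decide +kernel] at h'; exact (J.n6 h').elim

end Cfsg.Agent.H8.J1
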