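import Cfsg.Agent.H8.Root2

/-! Classes of abstract root subgroups. -/

set_option autoImplicit false

namespace Cfsg.Agent.H8

variable {G : Type*} [Group G] {S : Set (Subgroup G)} {A B C D : Subgroup G}

namespace RS

theorem ni_of_class (hS : IsRootSubgroupClass S) (hB : B ∈ S) (hN : NI S B) (hA : A ∈ S) :
    NI S A := by
  obtain ⟨g, rfl⟩ := hS.2.2 B hB A hA
  exact hN.smul hS.1 g

theorem ni_of_nondeg (hS : IsRootSubgroupClass S) (hnd : IsNondegenerateRootSet S) (hA : A ∈ S) :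
    NI S A := by
  obtain ⟨B, hB, C, hC, h⟩ := hnd.2.1
  exact ni_of_class hS hB ⟨C, hC, h⟩ hA

theorem exists_cc_eq (hS : IsRootSubgroupClass S)
    (hcc : ∃ E ∈ S, ∃ F ∈ S, RootCommutatorCase S E F) (hA : A ∈ S) :
    ∃ E ∈ S, ∃ F ∈ S, RootCommutatorCase S E F ∧ ⁅E, F⁆ = A := by
  obtain ⟨E, hE, F, hF, h⟩ := hcc
  obtain ⟨g, rfl⟩ := hS.2.2 _ h.1 A hA
  exact ⟨g • E, smul_mem hS.1 hE g, g • F, smul_mem hS.1 hF g, CC.smul hS.1 h g,
    (smul_commutator g E F).symm⟩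

theorem exists_line (hS : IsRootSubgroupClass S) (hnd : IsNondegenerateRootSet S) (hA : A ∈ S) :
    ∃ E, E ∈ linePartners S A := by
  obtain ⟨E, hE, F, hF, h, rfl⟩ := exists_cc_eq hS hnd.2.2 hA
  exact ⟨E, linePartners_symm hE (line_commutator hS.1 hE (ni_of_nondeg hS hnd hE) h)⟩

theorem exists_line_cc (hS : IsRootSubgroupClass S) (hnd : IsNondegenerateRootSet S) (hA : A ∈ S)
    (hD : D ∈ S) (hr : IsRankOnePair A D) :
    ∃ C ∈ linePartners S A, RootCommutatorCase S D C ∧ RootCommutatorCase S A ⁅D, C⁆ ∧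
      ⁅A, ⁅D, C⁆⁆ = C := by
  obtain ⟨E, hE⟩ := exists_line hS hnd hA
  obtain ⟨C, -, -, h1, h2, h3⟩ := line_exists_cc hS.1 hA hE hD hr
  refine ⟨C, ?_, h1, h2, h3⟩
  rw [← h3]
  exact line_commutator hS.1 hA ⟨D, hD, hr⟩ h2

theorem special_of_nondeg (hS : IsRootSubgroupClass S) (hnd : IsNondegenerateRootSet S) (hA : A ∈ S)
    (hD : D ∈ S) (hr : IsRankOnePair A D) : IsSpecialRankOnePair A D := by
  obtain ⟨C, -, h1, h2, -⟩ := exists_line_cc hS hnd hA hD hr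
  obtain ⟨δ, hδ, hδ1⟩ := exists_ne_one hS.1 h1.1
  have hl := mem_linePartners_iff.1 (line_smul hS.1 hA ⟨D, hD, hr⟩ h2 hδ hδ1)
  exact special_of_triangle hr (RO.smul_left hr ((CC.cm_left h1).smul_eq hδ)) hl.2.2.1 hl.2.1.symm

/-- two-transitivity on a line -/
theorem line_point (hS : IsRootSubgroupSet S) (hF : ∀ A ∈ S, NI S A) (hA : A ∈ S)
    (h : B ∈ linePartners S A) :
    ∃ C ∈ linePartners S A, A ⊔ C = A ⊔ B ∧ ∃ F ∈ normalizingMembers S (A ⊔ B),
      RootCommutatorCase S A F ∧ ⁅A, F⁆ = C ∧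
      ∀ E, E ∈ membersIn S (A ⊔ B) ↔ (∃ f ∈ F, E = f • A) ∨ E = C := by
  obtain ⟨D, hD, hr⟩ := hF A hA
  obtain ⟨C, hC, -, h1, h2, h3⟩ := line_exists_cc hS hA h hD hr
  have hl : C ∈ linePartners S A := by
    rw [← h3]; exact line_commutator hS hA ⟨D, hD, hr⟩ h2
  have e := line_sup_eq hS hA h (hF B (mem_linePartners_iff.1 h).1) hC hl
  refine ⟨C, hl, e, ⁅D, C⁆, ⟨h1.1, fun f hf => ?_⟩, h2, h3, fun E => ?_⟩
  · rw [← smul_eq_iff_mem_normalizer, ← e, ← h3]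
    exact CC.smul_sup_eq h2 hf
  · have := mem_line_cc hS hA (hF A hA) h2 (E := E)
    rw [h3, e] at this
    exact this

theorem line_smul_mem (hS : IsRootSubgroupSet S) {N : Subgroup G} {x : G}
    (hx : x ∈ ⨆ E ∈ normalizingMembers S N, E) :
    x • N = N ∧ ∀ E ∈ membersIn S N, x • E ∈ membersIn S N := by
  have h1 : x • N = N := by
    rw [smul_eq_iff_mem_normalizer]
    exact (iSup₂_le (fun E hE => hE.2) : (⨆ E ∈ normalizingMembers S N, E) ≤ _) hx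
  exact ⟨h1, fun E hE => ⟨smul_mem hS hE.1 x, by rw [← h1]; exact smul_mono' x hE.2⟩⟩

theorem line_two_trans (hS : IsRootSubgroupSet S) (hF : ∀ A ∈ S, NI S A) (hA : A ∈ S)
    (h : B ∈ linePartners S A) :
    ∃ C ∈ membersIn S (A ⊔ B), ∀ P ∈ membersIn S (A ⊔ B), ∀ Q ∈ membersIn S (A ⊔ B), P ≠ Q →
      ∃ x ∈ ⨆ E ∈ normalizingMembers S (A ⊔ B), E, x • P = C ∧ x • Q = A := by
  obtain ⟨C, hl, e, F, hFm, hcc, hFC, hmem⟩ := line_point hS hF hA h
  have hC := (mem_linePartners_iff.1 hl).1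
  have hCA := (mem_linePartners_iff.1 hl).2.1
  obtain ⟨C', hl', e', F', hFm', hcc', hFC', hmem'⟩ :=
    line_point hS hF hC (linePartners_symm hA hl)
  rw [sup_comm C A, e] at hFm' hmem' e'
  have hC' := (mem_linePartners_iff.1 hl').1
  have hCC' := (mem_linePartners_iff.1 hl').2.1
  set L := ⨆ E ∈ normalizingMembers S (A ⊔ B), E with hL
  have hFL : F ≤ L := le_iSup₂_of_le (f := fun E (_ : E ∈ normalizingMembers S (A ⊔ B)) => E)
    F hFm le_rfl
  have hFL' : F' ≤ L := le_iSup₂_of_le (f := fun E (_ : E ∈ normalizingMembers S (A ⊔ B)) => E)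
    F' hFm' le_rfl
  have hCm : C ∈ membersIn S (A ⊔ B) := (hmem C).2 (Or.inr rfl)
  have hfC : ∀ f ∈ F, f • C = C := fun f hf => by
    rw [← hFC]; exact (CC.cm_right hcc).smul_eq' hf
  -- `L` is transitive
  have t1 : ∀ P ∈ membersIn S (A ⊔ B), P ≠ C' → ∃ x ∈ L, x • P = C := by
    intro P hP hne
    rcases (hmem' P).1 hP with ⟨f, hf, rfl⟩ | rfl
    · exact ⟨f⁻¹, hFL' (F'.inv_mem hf), by simp⟩
    · exact absurd rfl hne
  have t2 : ∀ P ∈ membersIn S (A ⊔ B), ∃ x ∈ L, x • P = C := by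
    intro P hP
    by_cases hne : P = C'
    · subst hne
      rcases (hmem P).1 hP with ⟨f, hf, e1⟩ | e1
      · obtain ⟨f₀, hf₀, hf₀1⟩ := exists_ne_one hS hFm.1
        have hne2 : f₀ • P ≠ P := by
          rw [e1, ← mul_smul, cm_self hS hFm.1 f₀ hf₀ f hf, mul_smul]
          intro e2
          exact hf₀1 (smul_inj_cc hS hcc hf₀ (by simpa using e2))
        obtain ⟨x, hx, ex⟩ := t1 _ ((line_smul_mem hS (hFL hf₀)).2 P hP) hne2
        exact ⟨x * f₀, L.mul_mem hx (hFL hf₀), by rw [mul_smul, ex]⟩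
      · exact absurd e1 hCC'
    · exact t1 P hP hne
  refine ⟨C, hCm, fun P hP Q hQ hne => ?_⟩
  obtain ⟨x, hx, ex⟩ := t2 P hP
  rcases (hmem _).1 ((line_smul_mem hS hx).2 Q hQ) with ⟨f, hf, e1⟩ | e1
  · refine ⟨f⁻¹ * x, L.mul_mem (hFL (F.inv_mem hf)) hx, ?_, ?_⟩
    · rw [mul_smul, ex, hfC _ (F.inv_mem hf)]
    · rw [mul_smul, e1, inv_smul_smul]
  · exact absurd (by simpa using ex.trans e1.symm) hne

theorem line_two_trans' (hS : IsRootSubgroupSet S) (hF : ∀ A ∈ S, NI S A) (hA : A ∈ S)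
    (h : B ∈ linePartners S A) :
    ∀ C₁ ∈ membersIn S (A ⊔ B), ∀ C₂ ∈ membersIn S (A ⊔ B), ∀ D₁ ∈ membersIn S (A ⊔ B),
      ∀ D₂ ∈ membersIn S (A ⊔ B), C₁ ≠ C₂ → D₁ ≠ D₂ →
        ∃ x ∈ ⨆ E ∈ normalizingMembers S (A ⊔ B), E, x • C₁ = D₁ ∧ x • C₂ = D₂ := by
  obtain ⟨C, -, hC⟩ := line_two_trans hS hF hA h
  intro C₁ h1 C₂ h2 D₁ h3 D₂ h4 n1 n2
  obtain ⟨x, hx, e1, e2⟩ := hC _ h1 _ h2 n1
  obtain ⟨y, hy, e3, e4⟩ := hC _ h3 _ h4 n2
  exact ⟨y⁻¹ * x, Subgroup.mul_mem _ (Subgroup.inv_mem _ hy) hx,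
    by rw [mul_smul, e1, ← e3, inv_smul_smul], by rw [mul_smul, e2, ← e4, inv_smul_smul]⟩

/-- every line partner `B` of `A` has a member `F` with `[B, F] = A` -/
theorem exists_cc_of_line (hS : IsRootSubgroupSet S) (hF : ∀ A ∈ S, NI S A) (hA : A ∈ S)
    (h : B ∈ linePartners S A) : ∃ F ∈ S, RootCommutatorCase S B F ∧ ⁅B, F⁆ = A := by
  obtain ⟨C, hl, e, F, hFm, hcc, hFC, hmem⟩ := line_point hS hF hA h
  have hB := mem_linePartners_iff.1 h
  obtain ⟨x, -, e1, e2⟩ := line_two_trans' hS hF hA h A ⟨hA, le_sup_left⟩ C ((hmem C).2 (Or.inr rfl))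
    B ⟨hB.1, le_sup_right⟩ A ⟨hA, le_sup_left⟩ (mem_linePartners_iff.1 hl).2.1.symm hB.2.1
  refine ⟨x • F, smul_mem hS hFm.1 x, e1 ▸ CC.smul hS hcc x, ?_⟩
  rw [← e1, ← smul_commutator, hFC, e2]

theorem eAdj_symm (h : EAdj S S A B) : EAdj S S B A := ⟨h.2.1, h.1, linePartners_symm h.1 h.2.2⟩

theorem e_connected (hS : IsRootSubgroupClass S) (hnd : IsNondegenerateRootSet S) :
    IsConnectedFamily (EAdj S S) S := by
  intro A hA B hB
  obtain ⟨g, rfl⟩ := hS.2.2 A hA B hB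
  have single : ∀ {P Q : Subgroup G}, P ∈ S → Q ∈ linePartners S P →
      Relation.ReflTransGen (EAdj S S) P Q := fun hP hQ =>
    Relation.ReflTransGen.single ⟨hP, (mem_linePartners_iff.1 hQ).1, hQ⟩
  have step : ∀ {P Q : Subgroup G}, P ∈ S → RootCommutatorCase S P Q → ∀ q ∈ Q,
      Relation.ReflTransGen (EAdj S S) P (q • P) := by
    intro P Q hP hcc q hq
    by_cases hq1 : q = 1
    · simpa [hq1] using Relation.ReflTransGen.refl
    · exact single hP (line_smul hS.1 hP (ni_of_nondeg hS hnd hP) hcc hq hq1)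
  have := smul_mem_of_members hS.1 (P := {C | C ∈ S ∧ Relation.ReflTransGen (EAdj S S) A C}) ?_ g A
    ⟨hA, Relation.ReflTransGen.refl⟩
  · exact this.2
  rintro D hD d hd P ⟨hP, hr⟩
  refine ⟨smul_mem hS.1 hP d, hr.trans ?_⟩
  rcases tri hS.1 hP hD with h | h | h
  · rw [h.smul_eq' hd]
  · obtain ⟨C, hl, h1, -, -⟩ := exists_line_cc hS hnd hP hD h
    have hC := (mem_linePartners_iff.1 hl).1
    exact (single hP hl).trans ((step hC (CC.symm h1) d hd).trans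
      (single (smul_mem hS.1 hC d) (linePartners_symm (smul_mem hS.1 hP d)
        (linePartners_smul hS.1 hl d))))
  · exact step hP h d hd

theorem generated_by_line (hS : IsRootSubgroupClass S) (hnd : IsNondegenerateRootSet S)
    (hA : A ∈ S) (hB : B ∈ S) (hr : IsRankOnePair A B) :
    (⨆ C ∈ linePartners S A, C) ⊔ B = ⊤ := by
  have hF : ∀ A ∈ S, NI S A := fun A hA => ni_of_nondeg hS hnd hA
  set U := (⨆ C ∈ linePartners S A, C) ⊔ B with hU
  have hlU : ∀ C ∈ linePartners S A, C ≤ U := fun C hC =>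
    (le_iSup₂_of_le (f := fun E (_ : E ∈ linePartners S A) => E) C hC le_rfl).trans le_sup_left
  have hBU : B ≤ U := le_sup_right
  have key : ∀ E ∈ linePartners S A, ∃ u ∈ U, E = u • A := by
    intro E hE
    obtain ⟨C, hC, -, h1, h2, h3⟩ := line_exists_cc hS.1 hA hE hB hr
    have hl : C ∈ linePartners S A := by
      rw [← h3]; exact line_commutator hS.1 hA (hF A hA) h2
    have e := line_sup_eq hS.1 hA hE (hF E (mem_linePartners_iff.1 hE).1) hC hl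
    have hD' : ⁅B, C⁆ ≤ U := (Subgroup.commutator_le_sup _ _).trans (sup_le hBU (hlU C hl))
    have := (mem_line_cc hS.1 hA (hF A hA) h2 (E := E)).1
      (by rw [h3, e]; exact ⟨(mem_linePartners_iff.1 hE).1, le_sup_right⟩)
    rcases this with ⟨f, hf, rfl⟩ | e1
    · exact ⟨f, hD' hf, rfl⟩
    · obtain ⟨F, hFS, hcc, hCF⟩ := exists_cc_of_line hS.1 hF hA hl
      have hFl : F ∈ linePartners S A := by
        have := linePartners_symm hFS (line_commutator hS.1 hFS (hF F hFS) (CC.symm hcc))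
        rwa [Subgroup.commutator_comm, hCF] at this
      obtain ⟨x, hx, ex⟩ := opposite_conj hS.1 hA h1.1 hFS h2 (by rw [h3]; exact CC.symm hcc)
        (by rw [h3, Subgroup.commutator_comm, hCF])
      exact ⟨x, (sup_le hD' (hlU F hFl)) hx, e1.trans ex⟩
  have hAU : A ≤ U := by
    obtain ⟨E, hE⟩ := exists_line hS hnd hA
    obtain ⟨u, hu, e⟩ := key E hE
    rw [← smul_le_iff_of_mem hu, ← e]
    exact hlU E hE
  refine le_of_members hS.1 (fun C hC => ?_)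
  have : ∃ u ∈ U, C = u • A := by
    have hc := e_connected hS hnd A hA C hC
    clear hC
    induction hc with
    | refl => exact ⟨1, U.one_mem, by simp⟩
    | tail _ h2 ih =>
      obtain ⟨u, hu, rfl⟩ := ih
      obtain ⟨v, hv, e⟩ := key _ (by simpa using linePartners_smul hS.1 h2.2.2 u⁻¹)
      exact ⟨u * v, U.mul_mem hu hv, by rw [mul_smul, ← e, smul_inv_smul]⟩
  obtain ⟨u, hu, rfl⟩ := this
  exact smul_le_of_mem hu hAU

end RS

end Cfsg.Agent.H8
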