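import Cfsg.Agent.H8.Special
import Cfsg.Agent.H8.Root3
import Cfsg.Agent.L.Subnormal

/-! Transfer of root subgroup sets to the subgroup they generate. -/

set_option autoImplicit false

namespace Cfsg.Agent.H8

variable {G K : Type*} [Group G] [Group K] {φ : K →* G}

section Map

variable (hφ : Function.Injective φ) {A B : Subgroup K} {T : Set (Subgroup K)}
include hφ

theorem cm_map_iff : Cm (A.map φ) (B.map φ) ↔ Cm A B := by
  rw [cm_iff, cm_iff, ← Subgroup.map_commutator, Subgroup.map_eq_bot_iff_of_injective _ hφ]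

theorem cond_map_iff : RankOneCondition (A.map φ) (B.map φ) ↔ RankOneCondition A B := by
  rw [cond_iff, cond_iff]
  constructor
  · intro h a ha ha1
    obtain ⟨_, ⟨b, hb, rfl⟩, hb1, e⟩ := h (φ a) ⟨a, ha, rfl⟩ (by rwa [map_ne_one_iff _ hφ])
    rw [← map_smul', ← map_smul'] at e
    exact ⟨b, hb, by rintro rfl; simp at hb1, Subgroup.map_injective hφ e⟩
  · rintro h _ ⟨a, ha, rfl⟩ ha1
    obtain ⟨b, hb, hb1, e⟩ := h a ha (by rintro rfl; simp at ha1)
    exact ⟨φ b, ⟨b, hb, rfl⟩, by rwa [map_ne_one_iff _ hφ], by rw [← map_smul', ← map_smul', e]⟩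

theorem ro_map_iff : IsRankOnePair (A.map φ) (B.map φ) ↔ IsRankOnePair A B := by
  have e := fun A : Subgroup K => Group.isNilpotent_congr (A.equivMapOfInjective φ hφ)
  exact ⟨fun h => ⟨fun e => h.ne (by rw [e]), (e A).2 h.2, (e B).2 h.3, (cond_map_iff hφ).1 h.4,
    (cond_map_iff hφ).1 h.5⟩, fun h => ⟨fun e => h.ne (Subgroup.map_injective hφ e), (e A).1 h.2,
      (e B).1 h.3, (cond_map_iff hφ).2 h.4, (cond_map_iff hφ).2 h.5⟩⟩

theorem special_map_iff : IsSpecialRankOnePair (A.map φ) (B.map φ) ↔ IsSpecialRankOnePair A B := by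
  rw [special_iff, special_iff, ro_map_iff hφ]
  refine and_congr_right (fun _ => ⟨fun h a ha ha1 b hb hb1 e => hφ ?_, ?_⟩)
  · simpa using h (φ a) ⟨a, ha, rfl⟩ (by rwa [map_ne_one_iff _ hφ]) (φ b) ⟨b, hb, rfl⟩
      (by rwa [map_ne_one_iff _ hφ]) (by rw [← map_smul', ← map_smul', e])
  · rintro h _ ⟨a, ha, rfl⟩ ha1 _ ⟨b, hb, rfl⟩ hb1 e
    rw [← map_smul', ← map_smul'] at e
    have := h a ha (by rintro rfl; simp at ha1) b hb (by rintro rfl; simp at hb1)
      (Subgroup.map_injective hφ e)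
    simpa using congrArg φ this

theorem mem_image_map_iff : A.map φ ∈ Subgroup.map φ '' T ↔ A ∈ T :=
  (Subgroup.map_injective hφ).mem_set_image

theorem cc_map_iff :
    RootCommutatorCase (Subgroup.map φ '' T) (A.map φ) (B.map φ) ↔ RootCommutatorCase T A B := by
  have e1 : ∀ (a : K) (B : Subgroup K), Subgroup.closure ((fun b => φ a * b * (φ a)⁻¹ * b⁻¹) ''
      (B.map φ : Set G)) = (Subgroup.closure ((fun b => a * b * a⁻¹ * b⁻¹) '' (B : Set K))).map φ := by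
    intro a B
    rw [MonoidHom.map_closure, Subgroup.coe_map, Set.image_image, Set.image_image]
    simp
  have e2 : ∀ (b : K) (A : Subgroup K), Subgroup.closure ((fun a => a * φ b * a⁻¹ * (φ b)⁻¹) ''
      (A.map φ : Set G)) = (Subgroup.closure ((fun a => a * b * a⁻¹ * b⁻¹) '' (A : Set K))).map φ := by
    intro a B
    rw [MonoidHom.map_closure, Subgroup.coe_map, Set.image_image, Set.image_image]
    simp
  unfold RootCommutatorCase
  rw [← Subgroup.map_commutator, ← Subgroup.map_sup, mem_image_map_iff hφ]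
  refine and_congr Iff.rfl (and_congr (cm_map_iff hφ) (and_congr ⟨fun h a ha ha1 => ?_, ?_⟩
    ⟨fun h a ha ha1 => ?_, ?_⟩))
  · have := h (φ a) ⟨a, ha, rfl⟩ (by rwa [map_ne_one_iff _ hφ])
    rw [e1] at this
    exact Subgroup.map_injective hφ this
  · rintro h _ ⟨a, ha, rfl⟩ ha1
    rw [e1, h a ha (by rintro rfl; simp at ha1)]
  · have := h (φ a) ⟨a, ha, rfl⟩ (by rwa [map_ne_one_iff _ hφ])
    rw [e2] at this
    exact Subgroup.map_injective hφ this
  · rintro h _ ⟨a, ha, rfl⟩ ha1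
    rw [e2, h a ha (by rintro rfl; simp at ha1)]

theorem reach_map (h : Reach T A B) : Reach (Subgroup.map φ '' T) (A.map φ) (B.map φ) := by
  induction h with
  | refl => exact Reach.refl _
  | tail _ h ih => exact ih.trans (Reach.single ⟨_, h.1, rfl⟩ ⟨_, h.2.1, rfl⟩ ((ro_map_iff hφ).2 h.2.2))

theorem reach_of_map {C : Subgroup G} (h : Reach (Subgroup.map φ '' T) (A.map φ) C) :
    ∀ B, C = B.map φ → Reach T A B := by
  induction h with
  | refl => intro B e; rw [Subgroup.map_injective hφ e]; exact Reach.refl _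
  | tail _ h ih =>
    rintro B rfl
    obtain ⟨⟨D, hD, rfl⟩, h1, h2⟩ := h
    exact (ih D rfl).trans (Reach.single hD ((mem_image_map_iff hφ).1 h1) ((ro_map_iff hφ).1 h2))

theorem psl2_of_map {k : Type*} [Field k] (h : IsPSL2PairOver k (A.map φ) (B.map φ)) :
    IsPSL2PairOver k A B := by
  obtain ⟨ψ, h1, h2, h3, h4⟩ := h
  have hr : ∀ x, ψ x ∈ φ.range := fun x => by
    have : ψ x ∈ ψ.range := ⟨x, rfl⟩
    rw [h1, ← Subgroup.map_sup] at this
    exact Subgroup.map_le_range φ _ this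
  let χ := (MonoidHom.ofInjective hφ).symm.toMonoidHom.comp (ψ.codRestrict _ hr)
  have e : φ.comp χ = ψ := by
    ext x
    exact MonoidHom.apply_ofInjective_symm hφ ⟨ψ x, hr x⟩
  refine ⟨χ, Subgroup.map_injective hφ ?_, fun x hx => h2 ?_, Subgroup.map_injective hφ ?_,
    Subgroup.map_injective hφ ?_⟩
  · rw [MonoidHom.map_range, e, h1, Subgroup.map_sup]
  · rw [← e, MonoidHom.mem_ker, MonoidHom.comp_apply, MonoidHom.mem_ker.1 hx, map_one]
  · rw [Subgroup.map_map, e, h3]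
  · rw [Subgroup.map_map, e, h4]

end Map

/-- a set of root subgroups of the subgroup it generates -/
structure LRS (S : Set (Subgroup G)) : Prop where
  cm : ∀ A ∈ S, Cm A A
  ne_bot : ∀ A ∈ S, A ≠ ⊥
  conj : ∀ A ∈ S, ∀ a ∈ A, ∀ B ∈ S, a • B ∈ S
  pair : ∀ A ∈ S, ∀ B ∈ S, Cm A B ∨ IsRankOnePair A B ∨ RootCommutatorCase S A B

/-- the family viewed inside the subgroup it generates -/
abbrev loc (S : Set (Subgroup G)) : Set (Subgroup ↥(⨆ B ∈ S, B)) :=
  (fun A : Subgroup G => A.subgroupOf (⨆ B ∈ S, B)) '' S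

variable {S : Set (Subgroup G)} {A B : Subgroup G}

theorem le_gen_of_mem (hA : A ∈ S) : A ≤ ⨆ B ∈ S, B :=
  le_iSup₂_of_le (f := fun B (_ : B ∈ S) => B) A hA le_rfl

theorem map_loc (hA : A ∈ S) : (A.subgroupOf (⨆ B ∈ S, B)).map (⨆ B ∈ S, B).subtype = A :=
  Subgroup.map_subgroupOf_eq_of_le (le_gen_of_mem hA)

theorem image_loc : Subgroup.map (⨆ B ∈ S, B).subtype '' loc S = S := by
  rw [Set.image_image]
  ext A
  constructor
  · rintro ⟨B, hB, rfl⟩
    simpa only [map_loc hB] using hB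
  · exact fun hA => ⟨A, hA, map_loc hA⟩

theorem mem_loc_iff {A : Subgroup ↥(⨆ B ∈ S, B)} : A ∈ loc S ↔ A.map (⨆ B ∈ S, B).subtype ∈ S := by
  rw [← mem_image_map_iff (Subgroup.subtype_injective _), image_loc]

theorem cc_loc_iff {A B : Subgroup ↥(⨆ B ∈ S, B)} : RootCommutatorCase (loc S) A B ↔
    RootCommutatorCase S (A.map (⨆ B ∈ S, B).subtype) (B.map (⨆ B ∈ S, B).subtype) := by
  rw [← cc_map_iff (Subgroup.subtype_injective _), image_loc]

theorem reach_loc_iff {A B : Subgroup ↥(⨆ B ∈ S, B)} : Reach (loc S) A B ↔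
    Reach S (A.map (⨆ B ∈ S, B).subtype) (B.map (⨆ B ∈ S, B).subtype) := by
  constructor
  · intro h
    have := reach_map (Subgroup.subtype_injective _) h
    rwa [image_loc] at this
  · intro h
    exact reach_of_map (Subgroup.subtype_injective _) (by rwa [image_loc]) B rfl

theorem LRS.smul_mem (h : LRS S) {g : G} (hg : g ∈ ⨆ B ∈ S, B) (hA : A ∈ S) : g • A ∈ S :=
  smul_mem_of_biSup h.conj g hg A hA

theorem LRS.root (h : LRS S) : IsRootSubgroupSet (loc S) := by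
  have hi := Subgroup.subtype_injective (⨆ B ∈ S, B)
  refine ⟨fun A hA => cm_self_iff.1 ((cm_map_iff hi).1 (h.cm _ (mem_loc_iff.1 hA))),
    fun A hA e => h.ne_bot _ (mem_loc_iff.1 hA) (by rw [e, Subgroup.map_bot]), ?_,
    fun A hA g => ?_, fun A hA B hB => ?_⟩
  · apply Subgroup.map_injective hi
    rw [← MonoidHom.range_eq_map, Subgroup.range_subtype]
    refine le_antisymm (Subgroup.map_subtype_le _) (iSup₂_le (fun B hB => ?_))
    rw [← map_loc hB]
    exact Subgroup.map_mono (le_iSup₂_of_le (f := fun B (_ : B ∈ loc S) => B) _ ⟨B, hB, rfl⟩ le_rfl)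
  · rw [mem_loc_iff, conjBy_eq, map_smul']
    exact h.smul_mem g.2 (mem_loc_iff.1 hA)
  · rw [← cm_iff, ← cm_map_iff hi, ← ro_map_iff hi, cc_loc_iff]
    exact h.pair _ (mem_loc_iff.1 hA) _ (mem_loc_iff.1 hB)

theorem ni_loc {A : Subgroup ↥(⨆ B ∈ S, B)} (h : NI S (A.map (⨆ B ∈ S, B).subtype)) :
    NI (loc S) A := by
  obtain ⟨B, hB, hr⟩ := h
  refine ⟨_, ⟨B, hB, rfl⟩, (ro_map_iff (Subgroup.subtype_injective _)).1 ?_⟩
  simpa only [map_loc hB] using hr

theorem LRS.reach_cc (h : LRS S) (hN : ∀ A ∈ S, NI S A) (hA : A ∈ S) (hB : B ∈ S)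
    (hc : RootCommutatorCase S A B) : Reach S A ⁅A, B⁆ := by
  rw [← map_loc hA, ← map_loc hB] at hc ⊢
  rw [← cc_loc_iff] at hc
  rw [← Subgroup.map_commutator, ← reach_loc_iff]
  have hN' : ∀ A ∈ loc S, NI (loc S) A := fun A hA => ni_loc (hN _ (mem_loc_iff.1 hA))
  exact RS.reach_of_line h.root ⟨A, hA, rfl⟩
    (RS.line_commutator h.root ⟨A, hA, rfl⟩ (hN' _ ⟨A, hA, rfl⟩) hc) (hN' _ ⟨A, hA, rfl⟩) (hN' _ hc.1)

theorem LRS.reach_smul (h : LRS S) (hN : ∀ A ∈ S, NI S A) (hA : A ∈ S) {g : G}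
    (hg : g ∈ ⨆ B ∈ S, B) : Reach S A (g • A) := by
  have := reach_loc_iff.1 (RS.reach_smul h.root ⟨A, hA, rfl⟩
    (ni_loc (by simpa only [map_loc hA] using hN A hA)) ⟨g, hg⟩)
  rw [map_smul', map_loc hA] at this
  exact this

theorem Reach.mem (h : Reach S A B) (hA : A ∈ S) : B ∈ S := by
  induction h with
  | refl => exact hA
  | tail _ h _ => exact h.2.1

theorem LRS.cm_of_not_reach (h : LRS S) (hN : ∀ A ∈ S, NI S A) (hA : A ∈ S) (hB : B ∈ S)
    (hr : ¬ Reach S A B) : Cm A B := by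
  rcases h.pair A hA B hB with h1 | h1 | h1
  · exact h1
  · exact absurd (Reach.single hA hB h1) hr
  · refine absurd ((h.reach_cc hN hA hB h1).trans ?_) hr
    rw [Subgroup.commutator_comm]
    exact (h.reach_cc hN hB hA (CC.symm h1)).symm

/-- the component of `A` -/
def comp (S : Set (Subgroup G)) (A : Subgroup G) : Set (Subgroup G) := {B | Reach S A B}

theorem comp_eq (h : Reach S A B) : comp S A = comp S B := by
  ext C
  exact ⟨fun h' => h.symm.trans h', fun h' => h.trans h'⟩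

theorem comp_subset (hA : A ∈ S) : comp S A ⊆ S := fun _ h => Reach.mem h hA

theorem LRS.comp (h : LRS S) (hN : ∀ A ∈ S, NI S A) (hA : A ∈ S) : LRS (comp S A) := by
  have hs := comp_subset hA
  refine ⟨fun B hB => h.cm B (hs hB), fun B hB => h.ne_bot B (hs hB), fun B hB b hb C hC =>
    Reach.trans hC (h.reach_smul hN (hs hC) (le_gen_of_mem (hs hB) hb)), fun B hB C hC => ?_⟩
  rcases h.pair B (hs hB) C (hs hC) with h1 | h1 | h1
  · exact Or.inl h1
  · exact Or.inr (Or.inl h1)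
  · exact Or.inr (Or.inr ⟨Reach.trans hB (h.reach_cc hN (hs hB) (hs hC) h1), h1.2⟩)

theorem reach_comp (hB : B ∈ comp S A) : Reach (comp S A) A B := by
  induction hB with
  | refl => exact Reach.refl _
  | tail h1 h2 ih => exact ih.trans (Reach.single h1 (Relation.ReflTransGen.tail h1 h2) h2.2.2)

theorem ni_comp (hN : ∀ A ∈ S, NI S A) (hA : A ∈ S) (hB : B ∈ comp S A) : NI (comp S A) B := by
  obtain ⟨C, hC, hr⟩ := hN B (comp_subset hA hB)
  exact ⟨C, Reach.trans hB (Reach.single (comp_subset hA hB) hC hr), hr⟩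

theorem LRS.class (h : LRS S) (hne : S.Nonempty) (hc : ∀ A ∈ S, ∀ B ∈ S, Reach S A B) :
    IsRootSubgroupClass (loc S) :=
  ⟨h.root, hne.image _, fun _ hA _ hB => Reach.exists_smul
    (reach_loc_iff.2 (hc _ (mem_loc_iff.1 hA) _ (mem_loc_iff.1 hB)))⟩

theorem comm_le_of_cm {N A D P Q : Subgroup G} [N.Normal] (hP : P ≤ N ⊔ A)
    (hQ : Q ≤ N ⊔ D) (h : Cm A D) : ⁅P, Q⁆ ≤ N := by
  have e : ∀ {A P : Subgroup G}, P ≤ N ⊔ A →
      P.map (QuotientGroup.mk' N) ≤ A.map (QuotientGroup.mk' N) := by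
    intro A P hP
    refine (Subgroup.map_mono hP).trans ?_
    rw [Subgroup.map_sup, (Subgroup.map_eq_bot_iff _).2 (by rw [QuotientGroup.ker_mk']), bot_sup_eq]
  have := Subgroup.commutator_mono (e hP) (e hQ)
  rw [← Subgroup.map_commutator, ← Subgroup.map_commutator, cm_iff.1 h, Subgroup.map_bot,
    le_bot_iff, Subgroup.map_eq_bot_iff, QuotientGroup.ker_mk'] at this
  exact this

theorem RS.quasisimple (hS : IsRootSubgroupSet S) (hne : S.Nonempty)
    (h1 : ∀ A ∈ S, ∀ B ∈ S, Reach S A B) (hNI : ∀ A ∈ S, NI S A)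
    (hdeg : ∀ A ∈ S, ∀ B ∈ S, IsRankOnePair A B → A ≤ ⁅A ⊔ B, A ⊔ B⁆)
    (hV : ∀ N : Subgroup G, N.Normal → (∀ n ∈ N, ∀ A ∈ S, ∀ D ∈ S, Cm A D → Cm (n • A) D) →
      N ≤ Subgroup.center G) : IsQuasisimple G := by
  have hK : ∀ N : Subgroup G, N.Normal → ∀ A ∈ S, A ≤ N → N = ⊤ := by
    intro N hN A hA hle
    refine RS.le_of_members hS (fun B hB => ?_)
    obtain ⟨g, rfl⟩ := Reach.exists_smul (h1 A hA B hB)
    rw [← smul_eq_of_normal g N]
    exact smul_mono' g hle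
  obtain ⟨A, hA⟩ := hne
  have hperf : commutator G = ⊤ := by
    obtain ⟨B, hB, hr⟩ := hNI A hA
    exact hK _ inferInstance A hA
      ((hdeg A hA B hB hr).trans (Subgroup.commutator_mono le_top le_top))
  have hR1 : ∀ N : Subgroup G, N.Normal → ∀ A ∈ S, ∀ B ∈ S, IsRankOnePair A B → B ≤ N ⊔ A →
      N = ⊤ := by
    intro N hN A hA B hB hr hle
    have : A ⊔ B ≤ N ⊔ A := sup_le le_sup_right hle
    exact hK N hN A hA ((hdeg A hA B hB hr).trans (comm_le_of_cm this this (RS.cm_self hS hA)))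
  have hR : ∀ N : Subgroup G, N.Normal → ∀ A ∈ S, ∀ B ∈ S, ¬ Cm A B → ⁅A, B⁆ ≤ N → N = ⊤ := by
    intro N hN A hA B hB hn hle
    rcases RS.tri hS hA hB with h | h | h
    · exact absurd h hn
    · obtain ⟨a, ha, ha1⟩ := RO.exists_left h
      refine hR1 N hN B hB _ (RS.smul_mem hS hB a) (RO.pair_smul h ha ha1) ?_
      refine (smul_le_sup_commutator ha).trans ?_
      rw [sup_comm, Subgroup.commutator_comm]
      exact sup_le_sup_right hle _
    · exact hK N hN _ h.1 hle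
  refine L.isQuasisimple_iff.2 ⟨⟨hperf⟩, ?_, fun N hN => ?_⟩
  · obtain ⟨a, -, ha1⟩ := RS.exists_ne_one hS hA
    exact ⟨a, 1, ha1⟩
  · by_cases hN' : N = ⊤
    · exact Or.inl hN'
    refine Or.inr (hV N hN (fun n hn A hA D hD c1 => ?_))
    by_contra c2
    exact hN' (hR N hN _ (RS.smul_mem hS hA n) D hD c2
      (comm_le_of_cm (smul_le_of_mem (Subgroup.mem_sup_left hn) le_sup_right) le_sup_right c1))

theorem LRS.quasisimple (h : LRS S) (hne : S.Nonempty)
    (h1 : ∀ A ∈ S, ∀ B ∈ S, Reach S A B) (hNI : ∀ A ∈ S, NI S A)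
    (hdeg : ∀ A ∈ S, ∀ B ∈ S, IsRankOnePair A B → A ≤ ⁅A ⊔ B, A ⊔ B⁆)
    (hV : ∀ N ≤ ⨆ B ∈ S, B, (∀ g ∈ ⨆ B ∈ S, B, g • N = N) →
      (∀ n ∈ N, ∀ A ∈ S, ∀ D ∈ S, Cm A D → Cm (n • A) D) → Cm N (⨆ B ∈ S, B)) :
    IsQuasisimple ↥(⨆ B ∈ S, B) := by
  have hi := Subgroup.subtype_injective (⨆ B ∈ S, B)
  refine RS.quasisimple h.root (hne.image _)
    (fun _ hA _ hB => reach_loc_iff.2 (h1 _ (mem_loc_iff.1 hA) _ (mem_loc_iff.1 hB)))
    (fun A hA => ni_loc (hNI _ (mem_loc_iff.1 hA))) (fun A hA B hB hr => ?_) (fun N hN hn => ?_)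
  · rw [← Subgroup.map_le_map_iff_of_injective hi, Subgroup.map_commutator, Subgroup.map_sup]
    exact hdeg _ (mem_loc_iff.1 hA) _ (mem_loc_iff.1 hB) ((ro_map_iff hi).2 hr)
  · have := hV (N.map (⨆ B ∈ S, B).subtype) (Subgroup.map_subtype_le _) (fun g hg => by
      rw [show g = (⨆ B ∈ S, B).subtype ⟨g, hg⟩ from rfl, ← map_smul', smul_eq_of_normal]) (by
      rintro _ ⟨n, hnN, rfl⟩ A hA D hD hc
      rw [← map_loc hA, ← map_loc hD] at hc ⊢
      rw [← map_smul', cm_map_iff hi]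
      exact hn n hnN _ ⟨A, hA, rfl⟩ _ ⟨D, hD, rfl⟩ ((cm_map_iff hi).1 hc))
    intro n hn
    rw [Subgroup.mem_center_iff]
    intro g
    exact hi (this _ ⟨n, hn, rfl⟩ g g.2).symm

end Cfsg.Agent.H8
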