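import Cfsg.Agent.H8.Dick3

/-! Square-zero elements whose scalar families lie in a group of units. -/

set_option autoImplicit false

namespace Cfsg.Agent.H8.QP

/-- normal form in a non-commutative algebra -/
macro "h8ncr" : tactic => `(tactic| (
  (try simp only [add_mul, mul_add, sub_mul, mul_sub, neg_mul, mul_neg, mul_assoc, mul_one,
    one_mul, mul_zero, zero_mul, mul_smul_comm, smul_mul_assoc,
    Mathlib.Tactic.NoncommRing.nat_lit_mul_eq_nsmul,
    Mathlib.Tactic.NoncommRing.mul_nat_lit_eq_nsmul]) <;> module))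

/-- linear combination in a non-commutative algebra -/
macro "nlc " e:term : tactic => `(tactic| linear_combination' (norm := h8ncr) $e:term)

open Polynomial Cfsg.Agent.H8.Dick

variable {k E : Type*} [Field k] [Ring E] [Algebra k E] {Γ : Subgroup Eˣ}

variable (k) in
/-- `s` has square zero and all `1 + c s` lie in `Γ` -/
def Nil (Γ : Subgroup Eˣ) (s : E) : Prop := s * s = 0 ∧ ∀ c : k, ∃ g ∈ Γ, (g : E) = 1 + c • s

theorem inv_eq_of_val {g : Eˣ} {s : E} (hs : s * s = 0) (h : (g : E) = 1 + s) :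
    ((g⁻¹ : Eˣ) : E) = 1 - s := by
  rw [Units.inv_eq_of_mul_eq_one_right]
  rw [h]
  nlc -hs

theorem smul_sq_zero {s : E} (hs : s * s = 0) (c : k) : (c • s) * (c • s) = 0 := by
  simp [hs]

theorem Nil.zero : Nil k Γ (0 : E) := ⟨by simp, fun _ => ⟨1, Γ.one_mem, by simp⟩⟩

theorem Nil.smul {s : E} (h : Nil k Γ s) (c : k) : Nil k Γ (c • s) :=
  ⟨smul_sq_zero h.1 c, fun d => by rw [smul_smul]; exact h.2 _⟩

theorem Nil.neg {s : E} (h : Nil k Γ s) : Nil k Γ (-s) := by simpa using h.smul (-1)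

theorem Nil.add {s t : E} (hs : Nil k Γ s) (ht : Nil k Γ t) (h1 : s * t = 0) (h2 : t * s = 0) :
    Nil k Γ (s + t) := by
  refine ⟨by simp [add_mul, mul_add, hs.1, ht.1, h1, h2], fun c => ?_⟩
  obtain ⟨g, hg, e⟩ := hs.2 c
  obtain ⟨g', hg', e'⟩ := ht.2 c
  refine ⟨g * g', Γ.mul_mem hg hg', ?_⟩
  rw [Units.val_mul, e, e']
  simp [add_mul, mul_add, h1, add_assoc, add_comm (c • t)]

theorem Nil.sub {s t : E} (hs : Nil k Γ s) (ht : Nil k Γ t) (h1 : s * t = 0) (h2 : t * s = 0) :
    Nil k Γ (s - t) := by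
  rw [sub_eq_add_neg]; exact hs.add ht.neg (by simp [h1]) (by simp [h2])

theorem Nil.mono {Γ' : Subgroup Eˣ} (h : Γ ≤ Γ') {s : E} (hs : Nil k Γ s) : Nil k Γ' s :=
  ⟨hs.1, fun c => by obtain ⟨g, hg, e⟩ := hs.2 c; exact ⟨g, h hg, e⟩⟩

theorem Nil.conj' {s : E} (hs : Nil k Γ s) {g : Eˣ} (hg : ∀ x ∈ Γ, g * x * g⁻¹ ∈ Γ) :
    Nil k Γ (g * s * (g⁻¹ : Eˣ)) := by
  refine ⟨?_, fun c => ?_⟩
  · calc g * s * (g⁻¹ : Eˣ) * (g * s * (g⁻¹ : Eˣ)) = g * (s * (((g⁻¹ : Eˣ) : E) * g) * s) * (g⁻¹ : Eˣ) := by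
          noncomm_ring
      _ = 0 := by simp [hs.1]
  · obtain ⟨x, hx, e⟩ := hs.2 c
    exact ⟨_, hg x hx, by simp [e, mul_add, add_mul]⟩

theorem Nil.conj {s : E} (hs : Nil k Γ s) {g : Eˣ} (hg : g ∈ Γ) :
    Nil k Γ (g * s * (g⁻¹ : Eˣ)) :=
  hs.conj' (fun _ hx => Γ.mul_mem (Γ.mul_mem hg hx) (Γ.inv_mem hg))

/-- conjugation by `1 + c t` -/
theorem Nil.conj_nil {s t : E} (hs : Nil k Γ s) (ht : Nil k Γ t) :
    Nil k Γ ((1 + t) * s * (1 - t)) := by
  obtain ⟨g, hg, e⟩ := ht.2 1
  rw [one_smul] at e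
  have := hs.conj hg
  rwa [inv_eq_of_val ht.1 e, e] at this

theorem comm_aeval {x y : E} (h : Commute x y) (p : k[X]) : Commute (aeval x p) y := by
  induction p using Polynomial.induction_on' with
  | add p q hp hq => rw [map_add]; exact hp.add_left hq
  | monomial n a =>
    rw [aeval_monomial]
    exact Commute.mul_left (Algebra.commutes a y) (h.pow_left n)

theorem comm_z_left {s t : E} (hs : s * s = 0) : Commute (s * t + t * s) s := by
  change _ = _
  nlc t * hs - hs * t

theorem comm_z_right {s t : E} (ht : t * t = 0) : Commute (s * t + t * s) t := by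
  rw [add_comm]; exact comm_z_left ht

theorem orb_rel {s t : E} (hs : Nil k Γ s) (ht : Nil k Γ t) {a c : k[X]} (h : Orb a c) :
    ∃ g ∈ Γ, Commute (s * t + t * s) (g : E) ∧
      g * s = aeval (s * t + t * s) a * s + aeval (s * t + t * s) c * (t * s) ∧
      s * (g⁻¹ : Eˣ) = aeval (s * t + t * s) a * s - aeval (s * t + t * s) c * (s * t) := by
  set z := s * t + t * s with hz
  have cs : Commute z s := comm_z_left hs.1
  have ct : Commute z t := comm_z_right ht.1
  have hs1 := hs.1
  have ht1 := ht.1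
  induction h with
  | base => exact ⟨1, Γ.one_mem, by simp, by simp, by simp⟩
  | x a c r _ ih =>
    obtain ⟨g, hg, h1, h2, h3⟩ := ih
    obtain ⟨x, hx, e⟩ := hs.2 r
    have e' := inv_eq_of_val (smul_sq_zero hs.1 r) e
    have ca := (comm_aeval cs a).eq
    have cc := (comm_aeval cs c).eq
    have cz := (comm_aeval (Commute.refl z) c).eq
    refine ⟨x * g, Γ.mul_mem hx hg, ?_, ?_, ?_⟩
    · rw [Units.val_mul, e]
      exact ((Commute.one_right z).add_right (cs.smul_right r)).mul_right h1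
    · rw [Units.val_mul, mul_assoc, h2, e, map_add, map_mul, map_mul, aeval_C, aeval_X,
        ← Algebra.smul_def, smul_mul_assoc, ← cz]
      have : s * (aeval z a * s + aeval z c * (t * s)) = aeval z c * z * s := by
        nlc - ca * s + aeval z a * hs1 - cc * (t * s)
          - aeval z c * t * hs1 - aeval z c * hz * s
      rw [add_mul, one_mul, smul_mul_assoc, this, add_mul, smul_mul_assoc]; abel
    · rw [mul_inv_rev, Units.val_mul, ← mul_assoc, h3, e', map_add, map_mul, map_mul, aeval_C,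
        aeval_X, ← Algebra.smul_def, smul_mul_assoc, ← cz]
      have : (aeval z a * s - aeval z c * (s * t)) * s = - (aeval z c * z * s) := by
        nlc aeval z a * hs1
          + aeval z c * t * hs1 + aeval z c * hz * s
      rw [mul_sub, mul_one, mul_smul_comm, this, add_mul, smul_mul_assoc, smul_neg]; abel
  | y a c r _ ih =>
    obtain ⟨g, hg, h1, h2, h3⟩ := ih
    obtain ⟨x, hx, e⟩ := ht.2 r
    have e' := inv_eq_of_val (smul_sq_zero ht.1 r) e
    have ca := (comm_aeval ct a).eq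
    have cc := (comm_aeval ct c).eq
    refine ⟨x * g, Γ.mul_mem hx hg, ?_, ?_, ?_⟩
    · rw [Units.val_mul, e]
      exact ((Commute.one_right z).add_right (ct.smul_right r)).mul_right h1
    · rw [Units.val_mul, mul_assoc, h2, e, map_add, map_mul, aeval_C, ← Algebra.smul_def]
      have : t * (aeval z a * s + aeval z c * (t * s)) = aeval z a * (t * s) := by
        nlc - ca * s - cc * (t * s)
          + aeval z c * ht1 * s
      rw [add_mul, one_mul, smul_mul_assoc, this, add_mul, smul_mul_assoc]; abel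
    · rw [mul_inv_rev, Units.val_mul, ← mul_assoc, h3, e', map_add, map_mul, aeval_C,
        ← Algebra.smul_def]
      have : (aeval z a * s - aeval z c * (s * t)) * t = aeval z a * (s * t) := by
        nlc - aeval z c * s * ht1
      rw [mul_sub, mul_one, mul_smul_comm, this, add_mul, smul_mul_assoc]; abel

/-- the annihilator ideal of `s` in `k[z]` -/
def annI (k : Type*) [Field k] [Algebra k E] (z s : E) : Ideal k[X] where
  carrier := {p | aeval z p * s = 0}
  add_mem' := fun {p q} hp hq => by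
    simp only [Set.mem_setOf_eq] at *
    rw [map_add, add_mul, hp, hq, add_zero]
  zero_mem' := by simp
  smul_mem' := fun c p hp => by
    simp only [Set.mem_setOf_eq] at *
    rw [smul_eq_mul, map_mul, mul_assoc, hp, mul_zero]

theorem mem_annI {z s : E} {p : k[X]} : p ∈ annI k z s ↔ aeval z p * s = 0 := Iff.rfl

theorem poly_mem (h2 : (2 : k) ≠ 0) (h3 : Nat.card k ≠ 3) {s t : E} (hs : Nil k Γ s)
    (ht : Nil k Γ t) (hg : ∃ g : k[X], g.Monic ∧ aeval (s * t + t * s) g * s = 0)
    (hmin : ∀ p : k[X], Nil k Γ (aeval (s * t + t * s) p * s) →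
      aeval (s * t + t * s) p * s = 0 ∨
        ∃ q : k[X], aeval (s * t + t * s) q * (aeval (s * t + t * s) p * s) = s) (p : k[X]) :
    Nil k Γ (aeval (s * t + t * s) p * s) := by
  set z := s * t + t * s with hz
  have cs : Commute z s := comm_z_left hs.1
  have ct : Commute z t := comm_z_right ht.1
  let 𝔞 := annI k z s
  let π := Ideal.Quotient.mkₐ k 𝔞
  have hπ : ∀ p : k[X], aeval (π X) p = π p := fun p => by rw [aeval_algHom_apply, aeval_X_left_apply]
  have hπ0 : ∀ p q : k[X], π p = π q ↔ aeval z p * s = aeval z q * s := fun p q => by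
    rw [← sub_eq_zero, ← map_sub, Ideal.Quotient.mkₐ_eq_mk, Ideal.Quotient.eq_zero_iff_mem,
      mem_annI, map_sub, sub_mul, sub_eq_zero]
  have hsurj : Function.Surjective π := Ideal.Quotient.mkₐ_surjective k 𝔞
  let I₀ : Submodule k k[X] :=
    { carrier := {p | Nil k Γ (aeval z p * s)}
      add_mem' := fun {p q} hp hq => by
        simp only [Set.mem_setOf_eq] at *
        rw [map_add, add_mul]
        have : ∀ p q : k[X], aeval z p * s * (aeval z q * s) = 0 := fun p q => by
          rw [mul_assoc, ← mul_assoc s, ← (comm_aeval cs q).eq, mul_assoc, hs.1]; simp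
        exact hp.add hq (this p q) (this q p)
      zero_mem' := by simpa using Nil.zero
      smul_mem' := fun c p hp => by
        simp only [Set.mem_setOf_eq] at *
        rw [map_smul, smul_mul_assoc]; exact hp.smul c }
  have key := eq_top (θ := π X) h2 h3 ?_ (fun x => by
    obtain ⟨p, rfl⟩ := hsurj x; exact ⟨p, hπ p⟩) (I₀.map π.toLinearMap)
    ⟨1, by simpa [I₀] using hs, by simp⟩ ?_ ?_
  · have : π p ∈ I₀.map π.toLinearMap := by rw [key]; trivial
    obtain ⟨q, hq, e⟩ := this
    rw [← (hπ0 q p).1 e]; exact hq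
  · obtain ⟨g, hg1, hg2⟩ := hg
    refine ⟨g, hg1, ?_⟩
    rw [← aeval_def, hπ, ← map_zero π, hπ0, hg2]; simp
  · rintro _ ⟨p, hp, rfl⟩
    rcases hmin p hp with h | ⟨q, h⟩
    · left
      change π p = 0
      rw [← map_zero π, hπ0, h]; simp
    · right
      refine IsUnit.of_mul_eq_one_right (π q) ?_
      change π q * π p = 1
      rw [← map_mul, ← map_one π, hπ0, map_mul, mul_assoc, h]; simp
  · rintro μ ⟨a, c, a', c', h1, h1', e1, e2⟩ _ ⟨p, hp, rfl⟩
    obtain ⟨m, rfl⟩ := hsurj μ
    rw [hπ, hπ, ← map_mul, hπ0, map_mul] at e1 e2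
    obtain ⟨g, hg, c1, f1, f2⟩ := orb_rel hs ht h1
    obtain ⟨g', hg', c1', f1', f2'⟩ := orb_rel hs ht h1'
    rw [← hz] at c1 f1 f2 c1' f1' f2'
    refine ⟨m ^ 2 * p, ?_, by simp⟩
    have hp' : Nil k Γ (aeval z p * s) := hp
    have := hp'.conj (Γ.mul_mem (Γ.inv_mem hg) hg')
    change Nil k Γ _
    convert this using 1
    have cm := comm_aeval c1 m
    have k1 : (g' : E) * s = g * (aeval z m * s) := by
      have d1 := (comm_aeval ct c').eq
      have d2 := (comm_aeval ct m |>.mul_left (comm_aeval ct c)).eq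
      nlc f1' + cm.eq * s - aeval z m * f1 + e1 + d1 * s + t * e2 - d2 * s
    have k2 : s * (g'⁻¹ : Eˣ) = (aeval z m * s) * (g⁻¹ : Eˣ) := by
      nlc f2' - aeval z m * f2 + e1 - e2 * t
    have cp := comm_aeval c1' p
    have cp' := (comm_aeval c1 p).units_inv_right
    have cmp := comm_aeval (comm_aeval (Commute.refl z) m).symm p
    rw [mul_inv_rev, inv_inv, Units.val_mul, Units.val_mul, map_mul, map_pow]
    calc aeval z m ^ 2 * aeval z p * s = aeval z p * aeval z m * (aeval z m * s * (g⁻¹ : Eˣ)) * g := by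
          rw [← (cmp.pow_right 2).eq]; simp [sq, mul_assoc]
      _ = aeval z p * (((g⁻¹ : Eˣ) : E) * (g * (aeval z m * s))) * (g'⁻¹ : Eˣ) * g := by
          rw [← k2]; simp [mul_assoc]
      _ = _ := by
          rw [← k1, ← mul_assoc (aeval z p), cp'.eq, mul_assoc _ (aeval z p), ← mul_assoc (aeval z p),
            cp.eq]
          simp [mul_assoc]

end Cfsg.Agent.H8.QP
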