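import Cfsg.Agent.H8.SL2b
import Cfsg.Agent.H8.QP1

/-! Homomorphisms from `SL₂` given by matrix units in a ring. -/

set_option autoImplicit false

namespace Cfsg.Agent.H8

open Matrix MatrixGroups

variable {K E : Type*} [Field K] [Ring E]

theorem exists_sl2_hom (ψ : K →ₙ+* E) {s d : E} (ss : s * s = 0) (dd : d * d = 0)
    (sds : s * d * s = s) (dsd : d * s * d = d) (h1 : ψ 1 = s * d + d * s)
    (cs : ∀ c, s * ψ c = ψ c * s) (cd : ∀ c, d * ψ c = ψ c * d) :
    ∃ φ : SL(2, K) →* Eˣ, (∀ c, (φ (uX c) : E) = 1 + ψ c * s) ∧ (∀ c, (φ (uY c) : E) = 1 + ψ c * d) ∧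
      (φ (-1) : E) = 1 - (ψ 1 + ψ 1) := by
  have k1 : ∀ a b x, ψ a * (ψ b * x) = ψ (a * b) * x := fun a b x => by rw [← mul_assoc, map_mul]
  have k2 : ∀ b x, s * (ψ b * x) = ψ b * (s * x) := fun b x => by rw [← mul_assoc, cs, mul_assoc]
  have k3 : ∀ b x, d * (ψ b * x) = ψ b * (d * x) := fun b x => by rw [← mul_assoc, cd, mul_assoc]
  have k4 : ∀ x, s * (s * x) = 0 := fun x => by rw [← mul_assoc, ss, zero_mul]
  have k5 : ∀ x, d * (d * x) = 0 := fun x => by rw [← mul_assoc, dd, zero_mul]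
  have k6 : ∀ x, s * (d * (s * x)) = s * x := fun x => by rw [← mul_assoc, ← mul_assoc, sds]
  have k7 : ∀ x, d * (s * (d * x)) = d * x := fun x => by rw [← mul_assoc, ← mul_assoc, dsd]
  have k8 : s * (d * s) = s := by rw [← mul_assoc, sds]
  have k9 : d * (s * d) = d := by rw [← mul_assoc, dsd]
  let T : Matrix (Fin 2) (Fin 2) K → E := fun A => ψ (A 0 0) * (s * d) + ψ (A 0 1) * s + ψ (A 1 0) * d +
    ψ (A 1 1) * (d * s)
  have T1 : ∀ A, (s * d + d * s) * T A = T A := fun A => by
    simp only [T, add_mul, mul_add, mul_assoc, k2, k3, k4, k5, k6, k7, k8, k9, ss, dd, mul_zero,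
      add_zero, zero_add]
  have T2 : ∀ A, T A * (s * d + d * s) = T A := fun A => by
    simp only [T, add_mul, mul_add, mul_assoc, k2, k3, k4, k5, k6, k7, k8, k9, ss, dd, mul_zero,
      add_zero, zero_add]
    abel
  have T3 : ∀ A B, T A * T B = T (A * B) := fun A B => by
    simp only [T, add_mul, mul_add, mul_assoc, k1, k2, k3, k4, k5, k6, k7, k8, k9, ss, dd, mul_zero,
      add_zero, zero_add, mul_apply, Fin.sum_univ_two, map_add]
    abel
  have ee : (s * d + d * s) * (s * d + d * s) = s * d + d * s := by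
    simp only [add_mul, mul_add, mul_assoc, k4, k5, k6, k7, mul_zero, add_zero, zero_add]
  have T4 : ∀ x, ψ 1 * (s * x) = s * x := fun x => by
    simp only [h1, add_mul, mul_assoc, k4, k6, mul_zero, add_zero]
  have T5 : ∀ x, ψ 1 * (d * x) = d * x := fun x => by
    simp only [h1, add_mul, mul_assoc, k5, k7, mul_zero, zero_add]
  let Φ : SL(2, K) →* E :=
    { toFun := fun A => 1 - (s * d + d * s) + T A
      map_one' := by simp [T, T4, T5]
      map_mul' := fun A B => by
        rw [Matrix.SpecialLinearGroup.coe_mul, ← T3]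
        linear_combination (norm := noncomm_ring) T1 B + T2 A - ee }
  have hΦ : ∀ A, (Φ.toHomUnits A : E) = 1 - (s * d + d * s) + T A := fun A => rfl
  refine ⟨Φ.toHomUnits, fun c => ?_, fun c => ?_, ?_⟩
  · rw [hΦ]
    simp [T, T4, T5, uX]
    abel
  · rw [hΦ]
    simp [T, T4, T5, uY]
    abel
  · rw [hΦ]
    simp [T, T4, T5]
    rw [h1]
    abel

theorem ker_le_center_of_units (φ : SL(2, K) →* Eˣ) {s d : E} (ss : s * s = 0)
    (sds : s * d * s = s) (h0 : s ≠ 0) (h1 : (φ (uX 1) : E) = 1 + s) (h2 : (φ (uY 1) : E) = 1 + d) :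
    φ.ker ≤ Subgroup.center SL(2, K) := by
  refine ker_le_center_of_ne φ (s := 1) (t := 1) (fun e => h0 ?_)
  have := congrArg Units.val e
  rw [Units.val_mul, Units.val_mul, h1, h2] at this
  linear_combination (norm := noncomm_ring) -sds + this * s + d * ss

/-- scalars times an idempotent -/
def smulIdem {k : Type*} [Field k] [Algebra k E] {e : E} (he : e * e = e) : k →ₙ+* E where
  toFun c := c • e
  map_zero' := zero_smul _ _
  map_add' a b := add_smul a b e
  map_mul' a b := by rw [smul_mul_smul_comm, he]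

theorem exists_sl2_hom_smul {k : Type*} [Field k] [Algebra k E] {s d : E} (ss : s * s = 0)
    (dd : d * d = 0) (sds : s * d * s = s) (dsd : d * s * d = d) (h0 : s ≠ 0) :
    ∃ φ : SL(2, k) →* Eˣ, (∀ c, (φ (uX c) : E) = 1 + c • s) ∧ (∀ c, (φ (uY c) : E) = 1 + c • d) ∧
      φ.ker ≤ Subgroup.center SL(2, k) := by
  have ee : (s * d + d * s) * (s * d + d * s) = s * d + d * s := by
    nlc sds * d + s * dd * s + d * ss * d + dsd * s
  have e1 : (s * d + d * s) * s = s := by nlc sds + d * ss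
  have e2 : (s * d + d * s) * d = d := by nlc dsd + s * dd
  obtain ⟨φ, h1, h2, -⟩ := exists_sl2_hom (smulIdem (k := k) ee) ss dd sds dsd (one_smul _ _)
    (fun c => by
      change s * (c • _) = (c • _) * s
      rw [mul_smul_comm, smul_mul_assoc, QP.comm_z_left ss])
    (fun c => by
      change d * (c • _) = (c • _) * d
      rw [mul_smul_comm, smul_mul_assoc, QP.comm_z_right dd])
  have h3 : ∀ c, (φ (uX c) : E) = 1 + c • s := fun c => by
    rw [h1]; change 1 + (c • _) * s = _; rw [smul_mul_assoc, e1]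
  have h4 : ∀ c, (φ (uY c) : E) = 1 + c • d := fun c => by
    rw [h2]; change 1 + (c • _) * d = _; rw [smul_mul_assoc, e2]
  exact ⟨φ, h3, h4, ker_le_center_of_units φ ss sds h0 (by rw [h3, one_smul]) (by rw [h4, one_smul])⟩

theorem three_lt_card {k : Type*} [Field k] (h2 : (2 : k) ≠ 0) (h3 : Nat.card k ≠ 3) :
    3 < ENat.card k := by
  rcases finite_or_infinite k with h | h
  · classical
    haveI := Fintype.ofFinite k
    rw [ENat.card_eq_coe_fintype_card]
    rw [Nat.card_eq_fintype_card] at h3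
    have : 2 < Fintype.card k := Fintype.two_lt_card_iff.2 ⟨0, 1, -1, zero_ne_one, by simp,
      fun e => h2 (by linear_combination e)⟩
    exact_mod_cast (by omega : 3 < Fintype.card k)
  · rw [ENat.card_eq_top_of_infinite]
    exact ENat.coe_lt_top 3

end Cfsg.Agent.H8
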