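import Cfsg.Agent.H8.QP1

/-! Quadratic elements of minimal rank: pairs. -/

set_option autoImplicit false

namespace Cfsg.Agent.H8.QP

open Polynomial Module LinearMap

section Ring

variable {E : Type*} [Ring E]

/-- `u` has smaller image and larger kernel than `s` -/
def Le (u s : E) : Prop := (∀ x, x * s = 0 → x * u = 0) ∧ (∀ x, s * x = 0 → u * x = 0)

theorem Le.refl (s : E) : Le s s := ⟨fun _ h => h, fun _ h => h⟩

theorem Le.trans {u s t : E} (h : Le u s) (h' : Le s t) : Le u t :=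
  ⟨fun x hx => h.1 x (h'.1 x hx), fun x hx => h.2 x (h'.2 x hx)⟩

theorem Le.zero (s : E) : Le 0 s := ⟨fun _ _ => mul_zero _, fun _ _ => zero_mul _⟩

theorem Le.add {u v s : E} (h : Le u s) (h' : Le v s) : Le (u + v) s :=
  ⟨fun x hx => by rw [mul_add, h.1 x hx, h'.1 x hx, add_zero],
    fun x hx => by rw [add_mul, h.2 x hx, h'.2 x hx, add_zero]⟩

theorem Le.neg {u s : E} (h : Le u s) : Le (-u) s :=
  ⟨fun x hx => by rw [mul_neg, h.1 x hx, neg_zero], fun x hx => by rw [neg_mul, h.2 x hx, neg_zero]⟩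

theorem Le.neg_right {u s : E} (h : Le u s) : Le u (-s) :=
  ⟨fun x hx => h.1 x (by simpa using hx), fun x hx => h.2 x (by simpa using hx)⟩

theorem Le.sub {u v s : E} (h : Le u s) (h' : Le v s) : Le (u - v) s := by
  rw [sub_eq_add_neg]; exact h.add h'.neg

theorem Le.of_comm {v s : E} (h : Commute v s) : Le (v * s) s :=
  ⟨fun x hx => by rw [h.eq, ← mul_assoc, hx, zero_mul], fun x hx => by rw [mul_assoc, hx, mul_zero]⟩

theorem Le.sandwich (s x : E) : Le (s * x * s) s :=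
  ⟨fun y hy => by rw [← mul_assoc, ← mul_assoc, hy, zero_mul, zero_mul],
    fun y hy => by rw [mul_assoc, hy, mul_zero]⟩

theorem Le.conj {u s : E} (h : Le u s) (g : Eˣ) :
    Le (g * u * (g⁻¹ : Eˣ)) (g * s * (g⁻¹ : Eˣ)) := by
  refine ⟨fun x hx => ?_, fun x hx => ?_⟩
  · rw [← mul_assoc, Units.mul_left_eq_zero, ← mul_assoc] at hx ⊢
    exact h.1 _ hx
  · rw [mul_assoc, mul_assoc, Units.mul_right_eq_zero] at hx ⊢
    exact h.2 _ hx

theorem Le.mul_eq_zero {u v s t : E} (h : Le u s) (h' : Le v t) (e : s * t = 0) : u * v = 0 :=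
  h.2 _ (h'.1 _ e)

theorem Le.mul3 {u v s : E} (h : Le u s) (h' : Le v s) {x : E} (e : s * x * s = 0) :
    u * x * v = 0 := by
  have := h'.1 _ e
  rw [mul_assoc] at this ⊢
  exact h.2 _ this

theorem exists_poly_inv {k : Type*} [Field k] [Algebra k E] {f s : E}
    (h : ∀ x, x * (f * s) = 0 → x * s = 0) (n : ℕ) : ∀ g : k[X], g ≠ 0 → g.natDegree = n →
    aeval f g * s = 0 → ∃ q : k[X], aeval f q * (f * s) = s := by
  induction n using Nat.strong_induction_on with
  | _ n ih =>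
  intro g hg hn e
  have e1 : aeval f g.divX * (f * s) + g.coeff 0 • s = 0 := by
    rw [← divX_mul_X_add g, map_add, map_mul, aeval_X, aeval_C, add_mul, ← Algebra.smul_def,
      mul_assoc] at e
    exact e
  by_cases h0 : g.coeff 0 = 0
  · have hd : g.divX ≠ 0 := by
      intro hd
      apply hg
      rw [← divX_mul_X_add g, hd, h0]; simp
    rw [h0, zero_smul, add_zero] at e1
    refine ih _ ?_ g.divX hd rfl (h _ e1)
    rw [← hn]
    exact natDegree_lt_natDegree hd (degree_divX_lt hg)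
  · refine ⟨(-(g.coeff 0)⁻¹) • g.divX, ?_⟩
    rw [map_smul, smul_mul_assoc, eq_neg_of_add_eq_zero_left e1, smul_neg, neg_smul, neg_neg,
      smul_smul, inv_mul_cancel₀ h0, one_smul]

end Ring

variable {k M : Type*} [Field k] [AddCommGroup M] [Module k M]

theorem mul_eq_zero_iff {x y : End k M} : x * y = 0 ↔ range y ≤ ker x :=
  range_le_ker_iff.symm

theorem range_le_iff {u s : End k M} : range u ≤ range s ↔ ∀ x, x * s = 0 → x * u = 0 := by
  constructor
  · intro h x hx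
    rw [mul_eq_zero_iff] at *
    exact h.trans hx
  · intro h
    obtain ⟨W, hW⟩ := (range s).exists_isCompl
    have := h (W.projection _ hW.symm) (by
      rw [mul_eq_zero_iff, Submodule.ker_projection])
    rwa [mul_eq_zero_iff, Submodule.ker_projection] at this

theorem ker_le_iff {u s : End k M} : ker s ≤ ker u ↔ ∀ x, s * x = 0 → u * x = 0 := by
  constructor
  · intro h x hx
    rw [mul_eq_zero_iff] at *
    exact hx.trans h
  · intro h
    obtain ⟨W, hW⟩ := (ker s).exists_isCompl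
    have := h ((ker s).projection _ hW) (by
      rw [mul_eq_zero_iff, Submodule.range_projection])
    rwa [mul_eq_zero_iff, Submodule.range_projection] at this

theorem le_iff {u s : End k M} : Le u s ↔ range u ≤ range s ∧ ker s ≤ ker u := by
  rw [range_le_iff, ker_le_iff]; rfl

theorem range_mul (x y : End k M) : range (x * y) = (range y).map x := range_comp _ _

theorem range_mul_le (x y : End k M) : range (x * y) ≤ range x := range_comp_le_range _ _

/-- the rank -/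
noncomputable def rk (x : End k M) : ℕ := finrank k (range x)

variable [FiniteDimensional k M]

theorem rk_mul_add (x y : End k M) : rk (x * y) + finrank k ↥(range y ⊓ ker x) = rk y := by
  have := finrank_range_add_finrank_ker (x.domRestrict (range y))
  rw [range_domRestrict, ker_domRestrict, ← Submodule.finrank_map_subtype_eq (range y)
    (Submodule.comap _ _), Submodule.map_comap_subtype] at this
  rw [rk, range_mul, this, rk]

theorem rk_mul_le_right (x y : End k M) : rk (x * y) ≤ rk y := by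
  have := rk_mul_add x y; omega

theorem rk_mono {x y : End k M} (h : range x ≤ range y) : rk x ≤ rk y := Submodule.finrank_mono h

theorem rk_mul_le_left (x y : End k M) : rk (x * y) ≤ rk x := rk_mono (range_mul_le x y)

theorem range_add_le (x y : End k M) : range (x + y) ≤ range x ⊔ range y := by
  rintro _ ⟨v, rfl⟩
  exact Submodule.add_mem_sup ⟨v, rfl⟩ ⟨v, rfl⟩

theorem rk_add_le (x y : End k M) : rk (x + y) ≤ rk x + rk y :=
  (Submodule.finrank_mono (range_add_le x y)).trans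
    (Submodule.finrank_add_le_finrank_add_finrank _ _)

theorem rk_conj (g : (End k M)ˣ) (x : End k M) : 
    rk ((g : End k M) * x * ((g⁻¹ : (End k M)ˣ) : End k M)) = rk x := by
  refine le_antisymm ((rk_mul_le_left _ _).trans (rk_mul_le_right _ _)) ?_
  have : x = ((g⁻¹ : (End k M)ˣ) : End k M) * ((g : End k M) * x *
    ((g⁻¹ : (End k M)ˣ) : End k M)) * (g : End k M) := by simp [mul_assoc]
  conv_lhs => rw [this]
  exact (rk_mul_le_left _ _).trans (rk_mul_le_right _ _)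

theorem Le.symm_of_rk {u s : End k M} (h : Le u s) (hr : rk s ≤ rk u) : Le s u := by
  rw [le_iff] at *
  refine ⟨(Submodule.eq_of_le_of_finrank_le h.1 hr).ge,
    (Submodule.eq_of_le_of_finrank_le h.2 ?_).ge⟩
  have h1 := finrank_range_add_finrank_ker u
  have h2 := finrank_range_add_finrank_ker s
  simp only [rk] at hr
  omega

theorem partner_symm {s d : End k M} (hr : rk s ≤ rk d) (h : d * s * d = d) : s * d * s = s := by
  have h1 : rk s ≤ rk (s * d * s) := by
    refine hr.trans ?_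
    have : d = d * (s * d * s) * d := by
      nlc -h - d * s * h
    conv_lhs => rw [this]
    exact (rk_mul_le_left _ _).trans (rk_mul_le_right _ _)
  have := ((Le.sandwich s d).symm_of_rk h1).1 (1 - s * d) (by nlc -s * h * s)
  nlc -this

variable {Γ : Subgroup (End k M)ˣ}

variable (Γ) in
/-- quadratic elements of minimal rank -/
def Mn (s : End k M) : Prop := Nil k Γ s ∧ s ≠ 0 ∧ ∀ u, Nil k Γ u → u ≠ 0 → rk s ≤ rk u

theorem Mn.of_rk {s u : End k M} (hs : Mn Γ s) (hu : Nil k Γ u) (h0 : u ≠ 0) (h : rk u ≤ rk s) :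
    Mn Γ u := ⟨hu, h0, fun v hv h1 => h.trans (hs.2.2 v hv h1)⟩

theorem Mn.rk_le {s t : End k M} (hs : Mn Γ s) (ht : Mn Γ t) : rk s ≤ rk t := hs.2.2 t ht.1 ht.2.1

theorem Mn.of_le {s u : End k M} (hs : Mn Γ s) (hu : Nil k Γ u) (h0 : u ≠ 0) (h : Le u s) :
    Mn Γ u ∧ Le s u :=
  ⟨hs.of_rk hu h0 (rk_mono (le_iff.1 h).1), h.symm_of_rk (hs.2.2 u hu h0)⟩

theorem Mn.neg {s : End k M} (hs : Mn Γ s) : Mn Γ (-s) :=
  (hs.of_le hs.1.neg (neg_ne_zero.2 hs.2.1) (Le.refl s).neg).1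

theorem Mn.conj' {s : End k M} (hs : Mn Γ s) {g : (End k M)ˣ} (hg : ∀ x ∈ Γ, g * x * g⁻¹ ∈ Γ) :
    Mn Γ ((g : End k M) * s * ((g⁻¹ : (End k M)ˣ) : End k M)) :=
  hs.of_rk (hs.1.conj' hg) (by simpa using hs.2.1) (rk_conj g s).le

theorem Mn.conj {s : End k M} (hs : Mn Γ s) {g : (End k M)ˣ} (hg : g ∈ Γ) :
    Mn Γ ((g : End k M) * s * ((g⁻¹ : (End k M)ˣ) : End k M)) :=
  hs.conj' (fun _ hx => Γ.mul_mem (Γ.mul_mem hg hx) (Γ.inv_mem hg))

theorem Mn.conj_nil {s t : End k M} (hs : Mn Γ s) (ht : Nil k Γ t) :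
    Mn Γ ((1 + t) * s * (1 - t)) := by
  obtain ⟨g, hg, e⟩ := ht.2 1
  rw [one_smul] at e
  have := hs.conj hg
  rwa [inv_eq_of_val ht.1 e, e] at this

variable (h2 : (2 : k) ≠ 0) (h3 : Nat.card k ≠ 3)
include h2 h3

theorem Mn.poly_mem {s r : End k M} (hs : Mn Γ s) (hr : Nil k Γ r) :
    (∀ p : k[X], Nil k Γ (aeval (s * r + r * s) p * s)) ∧
    ∀ p : k[X], aeval (s * r + r * s) p * s = 0 ∨
      ∃ q : k[X], aeval (s * r + r * s) q * (aeval (s * r + r * s) p * s) = s := by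
  set z := s * r + r * s with hz
  have key : ∀ p : k[X], Nil k Γ (aeval z p * s) → aeval z p * s = 0 ∨
      ∃ q : k[X], aeval z q * (aeval z p * s) = s := by
    intro p hp
    by_cases h0 : aeval z p * s = 0
    · exact Or.inl h0
    right
    have hle := (hs.of_le hp h0 (Le.of_comm (comm_aeval (comm_z_left hs.1.1) p))).2
    have hi : IsIntegral k (aeval z p) := Algebra.IsIntegral.isIntegral _
    obtain ⟨q, hq⟩ := exists_poly_inv hle.1 _ (minpoly k (aeval z p)) (minpoly.monic hi).ne_zero rfl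
      (by rw [minpoly.aeval, zero_mul])
    exact ⟨q.comp p, by rw [aeval_comp, hq]⟩
  have hi : IsIntegral k z := Algebra.IsIntegral.isIntegral _
  have := QP.poly_mem h2 h3 hs.1 hr ⟨minpoly k z, minpoly.monic hi, by rw [minpoly.aeval, zero_mul]⟩ key
  exact ⟨this, fun p => key p (this p)⟩

theorem Mn.exists_partner {s r : End k M} (hs : Mn Γ s) (hr : Nil k Γ r) (h : s * r * s ≠ 0) :
    ∃ v, Commute v s ∧ Commute v r ∧ Mn Γ (v * s) ∧ Le s (v * s) ∧
      v * s * r * (v * s) = v * s := by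
  obtain ⟨h4, h5⟩ := hs.poly_mem h2 h3 hr
  have e : (s * r + r * s) * s = s * r * s := by nlc r * hs.1.1
  rcases h5 X with h6 | ⟨q, hq⟩
  · rw [aeval_X, e] at h6; exact absurd h6 h
  rw [aeval_X, e] at hq
  have c1 := comm_aeval (comm_z_left (t := r) hs.1.1) q
  have c2 := comm_aeval (comm_z_right (s := s) hr.1) q
  set v := aeval (s * r + r * s) q
  have h0 : v * s ≠ 0 := by
    intro h0
    apply hs.2.1
    rw [← hq, ← mul_assoc, ← mul_assoc, h0, zero_mul, zero_mul]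
  obtain ⟨h7, h8⟩ := hs.of_le (h4 q) h0 (Le.of_comm c1)
  refine ⟨v, c1, c2, h7, h8, ?_⟩
  nlc v * hq - v * s * c2.eq * s - v * c1.eq * r * s

theorem Mn.sandwich_symm {s t : End k M} (hs : Mn Γ s) (ht : Mn Γ t) (h : s * t * s = 0) :
    t * s * t = 0 := by
  by_contra hne
  obtain ⟨v, c1, c2, h4, -, h5⟩ := ht.exists_partner h2 h3 hs.1 hne
  have := partner_symm (hs.rk_le h4) h5
  apply hs.2.1
  nlc -this + v * h - c2.eq * t * s

theorem Mn.exists_partner' {s t : End k M} (hs : Mn Γ s) (ht : Mn Γ t) (h : s * t * s ≠ 0) :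
    ∃ d, Mn Γ d ∧ Le d t ∧ Le t d ∧ s * d * s = s ∧ d * s * d = d := by
  obtain ⟨v, c1, -, h4, h5, h6⟩ := ht.exists_partner h2 h3 hs.1
    (fun e => h (ht.sandwich_symm h2 h3 hs e))
  exact ⟨v * t, h4, Le.of_comm c1, h5, partner_symm (hs.rk_le h4) h6, h6⟩

theorem Mn.sandwich_le {s t s₁ s₂ t' : End k M} (hs : Mn Γ s) (ht : Mn Γ t) (h : s * t * s = 0)
    (ht' : Nil k Γ t') (h₁ : Le s₁ s) (h₂ : Le s₂ s) (h₃ : Le t' t) : s₁ * t' * s₂ = 0 := by
  refine h₁.mul3 h₂ ?_
  by_cases h0 : t' = 0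
  · simp [h0]
  obtain ⟨h4, -⟩ := ht.of_le ht' h0 h₃
  exact h4.sandwich_symm h2 h3 hs (h₃.mul3 h₃ (hs.sandwich_symm h2 h3 ht h))

omit h2 h3 in
theorem nil_comm {s t : End k M} (hs : Nil k Γ s) (ht : Nil k Γ t) (h : s * t * s = 0)
    (h' : t * s * t = 0) : Nil k Γ (s * t - t * s) := by
  have := (hs.conj_nil ht.neg).sub hs (by nlc hs.1 - t * hs.1 + h - t * h)
    (by nlc hs.1 - h + hs.1 * t - h * t)
  convert this using 1
  nlc h'

omit h2 h3 in
theorem cc_struct {s t : End k M} (h : s * t * s = 0) (h' : t * s * t = 0)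
    (hs : rk s ≤ rk (s * t - t * s)) (ht : rk t ≤ rk (s * t - t * s)) :
    rk (s * t - t * s) ≤ rk s ∧ range (s * t) = range s ⊓ ker t ∧
    range (t * s) = range t ⊓ ker s ∧ range (s * t) ⊓ range (t * s) = ⊥ ∧
    range (s * t - t * s) = range (s * t) ⊔ range (t * s) := by
  have l1 : range (s * t) ≤ range s ⊓ ker t :=
    le_inf (range_mul_le _ _) (mul_eq_zero_iff.1 (by rw [← mul_assoc, h']))
  have l2 : range (t * s) ≤ range t ⊓ ker s :=
    le_inf (range_mul_le _ _) (mul_eq_zero_iff.1 (by rw [← mul_assoc, h]))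
  have l3 : range (s * t - t * s) ≤ range (s * t) ⊔ range (t * s) := by
    rintro _ ⟨v, rfl⟩
    exact Submodule.sub_mem_sup ⟨v, rfl⟩ ⟨v, rfl⟩
  have d1 := Submodule.finrank_mono l1
  have d2 := Submodule.finrank_mono l2
  have d3 := Submodule.finrank_mono l3
  have d4 := rk_mul_add s t
  have d5 := rk_mul_add t s
  have d6 := Submodule.finrank_sup_add_finrank_inf_eq (range (s * t)) (range (t * s))
  simp only [rk] at *
  exact ⟨by omega, Submodule.eq_of_le_of_finrank_le l1 (by omega),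
    Submodule.eq_of_le_of_finrank_le l2 (by omega), Submodule.finrank_eq_zero.1 (by omega),
    Submodule.eq_of_le_of_finrank_le l3 (by omega)⟩

/-- the data of a pair in the commutator case -/
theorem Mn.cc {s t : End k M} (hs : Mn Γ s) (ht : Mn Γ t) (h : s * t * s = 0)
    (hne : s * t - t * s ≠ 0) :
    Mn Γ (s * t - t * s) ∧
    (∀ s' t', Le s' s → Le t' t → Nil k Γ s' → Nil k Γ t' → Le (s' * t') (s * t)) ∧
    (∀ x, x * (s * t - t * s) = 0 → x * (s * t) = 0) ∧
    (∀ x, (s * t - t * s) * x = 0 → s * t * x = 0) ∧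
    (∀ x y, (s * t - t * s) * x = 0 → y * (s * t - t * s) = 0 → y * s * x = 0) ∧
    (∀ x, (∀ y, y * (s * t) = 0 → y * x = 0) → (∀ y, y * (t * s) = 0 → y * x = 0) → x = 0) := by
  have h' := hs.sandwich_symm h2 h3 ht h
  have hn := nil_comm hs.1 ht.1 h h'
  obtain ⟨c1, c2, c3, c4, c5⟩ := cc_struct h h' (hs.2.2 _ hn hne) (ht.2.2 _ hn hne)
  have k1 : ker (s * t - t * s) ≤ ker (s * t) ⊓ ker (t * s) := by
    intro v hv
    rw [mem_ker, LinearMap.sub_apply, sub_eq_zero] at hv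
    have : (s * t) v ∈ range (s * t) ⊓ range (t * s) := ⟨⟨v, rfl⟩, ⟨v, hv.symm⟩⟩
    rw [c4, Submodule.mem_bot] at this
    exact ⟨this, by rw [SetLike.mem_coe, mem_ker, ← hv, this]⟩
  refine ⟨hs.of_rk hn hne c1, fun s' t' h4 h5 h6 h7 => ?_, range_le_iff.1 (c5 ▸ le_sup_left),
    ker_le_iff.1 (k1.trans inf_le_left), fun x y hx hy => ?_, fun x h4 h5 => ?_⟩
  · rw [le_iff]
    constructor
    · rw [c2]
      refine le_inf ((range_mul_le _ _).trans (le_iff.1 h4).1) (mul_eq_zero_iff.1 ?_)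
      rw [← mul_assoc]
      exact ht.sandwich_le h2 h3 hs h' h6 (Le.refl t) h5 h4
    · intro v hv
      have : t v ∈ range (t * s) := by rw [c3]; exact ⟨⟨v, rfl⟩, hv⟩
      obtain ⟨w, hw⟩ := this
      have h8 : v - s w ∈ ker t' := (le_iff.1 h5).2 (by rw [mem_ker, map_sub, ← hw]; simp)
      rw [mem_ker, map_sub, sub_eq_zero] at h8
      have h9 := congrArg (· w) (hs.sandwich_le h2 h3 ht h h7 h4 (Le.refl s) h5)
      rw [mem_ker, End.mul_apply, h8]
      exact h9
  · rw [mul_assoc, mul_eq_zero_iff]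
    refine le_trans ?_ (mul_eq_zero_iff.1 hy)
    rw [c5]
    refine le_sup_of_le_left ?_
    rw [c2]
    refine le_inf (range_mul_le _ _) (mul_eq_zero_iff.1 ?_)
    rw [← mul_assoc]
    exact ker_le_iff.1 (k1.trans inf_le_right) x hx
  · rw [← range_eq_bot, ← le_bot_iff, ← c4]
    exact le_inf (range_le_iff.2 h4) (range_le_iff.2 h5)

theorem Mn.cc_le {s t s' t' : End k M} (hs : Mn Γ s) (ht : Mn Γ t) (h : s * t * s = 0)
    (hne : s * t - t * s ≠ 0) (hs' : Nil k Γ s') (ht' : Nil k Γ t') (h4 : Le s' s) (h5 : Le t' t) :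
    Nil k Γ (s' * t' - t' * s') ∧ Le (s' * t' - t' * s') (s * t - t * s) := by
  have h' := hs.sandwich_symm h2 h3 ht h
  have hne' : t * s - s * t ≠ 0 := by rwa [← neg_sub, neg_ne_zero]
  obtain ⟨-, a1, a2, a3, -, -⟩ := hs.cc h2 h3 ht h hne
  obtain ⟨-, b1, b2, b3, -, -⟩ := ht.cc h2 h3 hs h' hne'
  refine ⟨nil_comm hs' ht' (hs.sandwich_le h2 h3 ht h ht' h4 h4 h5)
    (ht.sandwich_le h2 h3 hs h' hs' h5 h5 h4), Le.sub ?_ ?_⟩
  · exact (a1 s' t' h4 h5 hs' ht').trans ⟨a2, a3⟩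
  · refine (b1 t' s' h5 h4 ht' hs').trans ?_
    rw [← neg_sub]
    exact Le.neg_right ⟨b2, b3⟩

theorem Mn.cc_ne {s t s' t' : End k M} (hs : Mn Γ s) (ht : Mn Γ t) (h : s * t * s = 0)
    (hne : s * t - t * s ≠ 0) (hs' : Nil k Γ s') (ht' : Nil k Γ t') (h4 : Le s' s) (h5 : Le t' t)
    (h6 : s' ≠ 0) (h7 : t' ≠ 0) : s' * t' - t' * s' ≠ 0 := by
  have h' := hs.sandwich_symm h2 h3 ht h
  have hne' : t * s - s * t ≠ 0 := by rwa [← neg_sub, neg_ne_zero]
  obtain ⟨-, a1, -, -, -, a6⟩ := hs.cc h2 h3 ht h hne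
  obtain ⟨-, b1, -, -, -, -⟩ := ht.cc h2 h3 hs h' hne'
  intro e
  rw [sub_eq_zero] at e
  have e1 := a6 (s' * t') (a1 s' t' h4 h5 hs' ht').1 (by rw [e]; exact (b1 t' s' h5 h4 ht' hs').1)
  have l1 := (hs.of_le hs' h6 h4).2
  have l2 := (ht.of_le ht' h7 h5).2
  apply hne
  rw [l1.mul_eq_zero l2 e1, l2.mul_eq_zero l1 (e ▸ e1), sub_zero]

end Cfsg.Agent.H8.QP
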