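import Cfsg.Agent.H8.QP2

/-! Quadratic elements of minimal rank: surjectivity of the commutator map. -/

set_option autoImplicit false

namespace Cfsg.Agent.H8.QP

open Polynomial Module LinearMap

variable {k M : Type*} [Field k] [AddCommGroup M] [Module k M] [FiniteDimensional k M]
  {Γ : Subgroup (End k M)ˣ} (h2 : (2 : k) ≠ 0) (h3 : Nat.card k ≠ 3)

include h2 h3

theorem homog_le {g d n b : End k M} (hb : Mn Γ b) (hd : Mn Γ d) (hn : Mn Γ n) (l1 : Le n d)
    (l2 : Le d n) (gb : g * b = 0) (bg : b * g = 0) (dbd : d * b * d = 0)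
    (e : b = g * d * b + b * d * g) : Le (d * b) (n * b) ∧ Le (b * d) (b * n) := by
  have bdb := hd.sandwich_symm h2 h3 hb dbd
  have hne : d * b - b * d ≠ 0 := by
    intro h
    apply hb.2.1
    nlc e + g * h + gb * d - h * g + d * bg
  have hne1 := hd.cc_ne h2 h3 hb dbd hne hn.1 hb.1 l1 (Le.refl b) hn.2.1 hb.2.1
  have nbn := l1.mul3 l1 dbd
  exact ⟨(hn.cc h2 h3 hb nbn hne1).2.1 d b l2 (Le.refl b) hd.1 hb.1,
    (hb.cc h2 h3 hn (hn.sandwich_symm h2 h3 hb nbn) (by rwa [← neg_sub, neg_ne_zero])).2.1 b d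
      (Le.refl b) l2 hb.1 hd.1⟩

theorem homog_surj {a b g d l : End k M} (ha : Mn Γ a) (hb : Mn Γ b) (aba : a * b * a = 0)
    (hg : g = a * b - b * a) (hne : g ≠ 0) (hd : Mn Γ d) (gdg : g * d * g = g) (dgd : d * g * d = d)
    (dad : d * a * d = 0) (dbd : d * b * d = 0) (hl : Nil k Γ l) (lg : Le l g) :
    ∃ b', Nil k Γ b' ∧ Le b' b ∧ a * b' - b' * a = l := by
  by_cases hl0 : l = 0
  · exact ⟨0, Nil.zero, Le.zero _, by simp [hl0]⟩
  have bab := ha.sandwich_symm h2 h3 hb aba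
  obtain ⟨hG, -, -, -, c4, -⟩ := ha.cc h2 h3 hb aba (hg ▸ hne)
  obtain ⟨-, -, -, -, c4', -⟩ := hb.cc h2 h3 ha bab (by rwa [← neg_sub, neg_ne_zero, ← hg])
  rw [← hg] at hG c4
  have aa := ha.1.1
  have bb := hb.1.1
  have ga : g * a = 0 := by nlc hg * a + aba - b * aa
  have ag : a * g = 0 := by nlc a * hg + aa * b - aba
  have gb : g * b = 0 := by nlc hg * b + a * bb - bab
  have bg : b * g = 0 := by nlc b * hg + bab - bb * a
  have ea : a = g * d * a + a * d * g := by
    have := c4 (1 - d * g) (1 - g * d) (by nlc -gdg) (by nlc -gdg)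
    nlc this - g * dad * g
  have eb : b = g * d * b + b * d * g := by
    have := c4' (1 - d * g) (1 - g * d) (by nlc gdg + hg * (1 - d * g)) (by nlc gdg + (1 - g * d) * hg)
    nlc this - g * dbd * g
  obtain ⟨hL, gl⟩ := hG.of_le hl hl0 lg
  obtain ⟨n, hn, l1, l2, lnl, nln⟩ := hL.exists_partner' h2 h3 hd (by
    intro e
    exact hne (by rw [← gdg]; exact gl.mul3 gl e))
  have la : l * a = 0 := lg.2 _ ga
  have al : a * l = 0 := lg.1 _ ag
  have lb : l * b = 0 := lg.2 _ gb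
  have bl : b * l = 0 := lg.1 _ bg
  have gdl : g * d * l = l := by
    have := lg.1 (1 - g * d) (by nlc -gdg)
    nlc -this
  have ldg : l * d * g = l := by
    have := lg.2 (1 - d * g) (by nlc -gdg)
    nlc -this
  have ln : l * n = g * d := by
    have := l2.2 (1 - l * n) (by nlc -nln)
    nlc -gdl * n - g * this
  have nl : n * l = d * g := by
    have := l2.1 (1 - n * l) (by nlc -nln)
    nlc -n * ldg - this * g
  obtain ⟨A1, A2⟩ := homog_le h2 h3 hb hd hn l1 l2 gb bg dbd eb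
  obtain ⟨A3, -⟩ := homog_le h2 h3 ha hd hn l1 l2 ga ag dad ea
  have ada := hd.sandwich_symm h2 h3 ha dad
  have bdb := hd.sandwich_symm h2 h3 hb dbd
  have nd : n * d = 0 := l1.2 _ hd.1.1
  have dn : d * n = 0 := l1.1 _ hd.1.1
  have nbd : n * b * d = 0 := l1.mul3 (Le.refl d) dbd
  have dbn : d * b * n = 0 := (Le.refl d).mul3 l1 dbd
  have s2 := hb.1.conj_nil hd.1
  rw [show (1 + d) * b * (1 - d) = b + d * b - b * d by nlc -dbd] at s2
  have s3 := s2.conj_nil hG.1.neg
  rw [show (1 + -g) * (b + d * b - b * d) * (1 - -g) = d * b - b * d by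
    nlc eb + bg + d * bg - gb + gb * d - gb * g - g * d * bg + gb * d * g] at s3
  have s4 := s3.conj_nil hl
  rw [show (1 + l) * (d * b - b * d) * (1 - l) = d * b - b * d + l * d * b + b * d * l by
    nlc -lb * d - d * bl - l * d * bl + lb * d * l] at s4
  have s5 := s4.conj_nil hn.1.neg
  rw [show (1 + -n) * (d * b - b * d + l * d * b + b * d * l) * (1 - -n) =
    l * d * b + b * d * l by
      nlc -nd * b + nbd - nl * d * b - dgd * b - nbd * l + dbn - b * dn + l * dbn + b * d * ln + b * dgd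
        - nd * b * n + nbd * n - n * l * dbn - nbd * l * n] at s5
  refine ⟨_, s5, Le.add ⟨fun x hx => ?_, fun x hx => ?_⟩ ⟨fun x hx => ?_, fun x hx => ?_⟩, ?_⟩
  · have := A1.1 (x * l) (by nlc x * ln * b - x * eb + hx - hx * d * g)
    nlc this
  · nlc l * d * hx
  · nlc hx * d * l
  · have := A2.2 (l * x) (by nlc b * nl * x - eb * x + hx - g * d * hx)
    nlc this
  · have k1 := A3.1 (a * d * l) (by nlc a * d * ln * a + a * dgd * a + ada)
    have k2 := A1.1 (b * d * l) (by nlc b * d * ln * b + b * dgd * b + bdb)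
    -- `b a d l = l d b a`
    have k5 : b * a * d * l * d * b = -(l * d * b) := by
      nlc hg * (d * l * d * b) + a * k2 - gdl * d * b
    have k6 : l * d * b * a * d * b = -(l * d * b) := by
      nlc l * d * hg * d * b + l * d * a * bdb - ldg * d * b
    have k3 : b * a * d * l * (d * g) = l * d * b * a * (d * g) := by
      nlc (b * a * d * l * d - l * d * b * a * d) * hg + b * k1 * b - l * d * b * ada * b
        - k5 * a + k6 * a
    have k4 : b * a * (d * g) = b * a := by nlc -b * ea - bg * d * a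
    nlc al * d * b - b * d * la - hg * d * l + gdl + k3 - b * a * d * ldg + l * d * k4

omit h3 in
theorem split {g d a : End k M} (hg : Nil k Γ g) (hd : Nil k Γ d) (ha : Mn Γ a)
    (gdg : g * d * g = g) (dgd : d * g * d = d) (ga : g * a = 0) (ag : a * g = 0)
    (h : (1 - g * d) * a * (1 - d * g) = 0) :
    Nil k Γ (g * d * a * d * g) ∧ Nil k Γ (a - g * d * a * d * g) ∧
      (a - g * d * a * d * g ≠ 0 → Mn Γ (a - g * d * a * d * g)) := by
  have gg := hg.1
  have dd := hd.1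
  have aa := ha.1.1
  have s1 := ((ha.1.conj_nil hg).conj_nil hd.neg).conj_nil hg
  have s2 := ((s1.conj_nil hg).conj_nil hd.neg).conj_nil hg
  have e1 : (1 + g) * (1 + -d) * (1 + g) * ((1 + g) * (1 + -d) * (1 + g)) =
      1 - 2 * (g * d + d * g) := by
    have : (1 + g) * (1 + -d) * (1 + g) = 1 + g - d - g * d - d * g := by nlc gg - gdg
    rw [this]
    nlc gg - gg * d - gdg - gdg + dd + dgd + dd * g + g * dd + gdg * d + g * dd * g - d * gg + dgd
      + d * gg * d + dgd * g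
  have e2 : (1 - g) * (1 - -d) * (1 - g) * ((1 - g) * (1 - -d) * (1 - g)) =
      1 - 2 * (g * d + d * g) := by
    have : (1 - g) * (1 - -d) * (1 - g) = 1 - g + d - g * d - d * g := by nlc gg + gdg
    rw [this]
    nlc gg + gg * d + gdg + gdg + dd - dgd - dd * g - g * dd + gdg * d + g * dd * g + d * gg - dgd
      + d * gg * d + dgd * g
  have s3 : Nil k Γ ((1 - 2 * (g * d + d * g)) * a * (1 - 2 * (g * d + d * g))) := by
    convert s2 using 1
    conv_lhs => enter [1, 1]; rw [← e1]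
    conv_lhs => enter [2]; rw [← e2]
    simp only [mul_assoc]
  rw [show (1 - 2 * (g * d + d * g)) * a * (1 - 2 * (g * d + d * g)) =
    (2 : k) • (g * d * a * d * g) - a by
      nlc 2 * h - 2 * d * ga - 2 * ag * d + 4 * g * d * ag * d + 4 * d * ga * g * d
        + 4 * d * ga * d * g] at s3
  have s4 := s3.add ha.1 (by nlc 2 * g * d * a * d * ga - aa) (by nlc 2 * ag * d * a * d * g - aa)
  rw [sub_add_cancel] at s4
  have s5 := s4.smul (2⁻¹ : k)
  rw [smul_smul, inv_mul_cancel₀ h2, one_smul] at s5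
  have s6 := ha.1.sub s5 (by nlc ag * d * a * d * g) (by nlc g * d * a * d * ga)
  refine ⟨s5, s6, fun h0 => ha.of_rk s6 h0 ?_⟩
  have e3 : a - g * d * a * d * g = (1 - g * d) * a + a * (1 - d * g) := by nlc -h
  rw [e3]
  refine (rk_add_le _ _).trans ?_
  rw [← rk_mul_add (1 - g * d) a]
  refine Nat.add_le_add_left (Submodule.finrank_mono (le_inf (range_mul_le _ _) ?_)) _
  rw [← mul_eq_zero_iff, ← mul_assoc, h]

theorem Mn.cc_surj {a b d l : End k M} (ha : Mn Γ a) (hb : Mn Γ b) (aba : a * b * a = 0)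
    (hd : Mn Γ d) (h : (a * b - b * a) * d * (a * b - b * a) ≠ 0) (hl : Nil k Γ l)
    (lg : Le l (a * b - b * a)) : ∃ b', Nil k Γ b' ∧ Le b' b ∧ a * b' - b' * a = l := by
  set g := a * b - b * a with hg
  have hne : g ≠ 0 := by rintro e; simp [e] at h
  have bab := ha.sandwich_symm h2 h3 hb aba
  obtain ⟨hG, -, -, -, c4, -⟩ := ha.cc h2 h3 hb aba hne
  obtain ⟨-, -, -, -, c4', -⟩ := hb.cc h2 h3 ha bab (by rwa [← neg_sub, neg_ne_zero])
  rw [← hg] at hG c4
  obtain ⟨d, hd, -, -, gdg, dgd⟩ := hG.exists_partner' h2 h3 hd h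
  have aa := ha.1.1
  have bb := hb.1.1
  have gg := hG.1.1
  have ga : g * a = 0 := by nlc hg * a + aba - b * aa
  have ag : a * g = 0 := by nlc a * hg + aa * b - aba
  have gb : g * b = 0 := by nlc hg * b + a * bb - bab
  have bg : b * g = 0 := by nlc b * hg + bab - bb * a
  obtain ⟨a2, a1, a1'⟩ := split h2 hG.1 hd.1 ha gdg dgd ga ag
    (c4 (1 - d * g) (1 - g * d) (by nlc -gdg) (by nlc -gdg))
  obtain ⟨b2, b1, b1'⟩ := split h2 hG.1 hd.1 hb gdg dgd gb bg
    (c4' (1 - d * g) (1 - g * d) (by nlc gdg + hg * (1 - d * g)) (by nlc gdg + (1 - g * d) * hg))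
  set a₂ := g * d * a * d * g with ha₂
  set b₂ := g * d * b * d * g with hb₂
  have la : Le a₂ g := by
    have := Le.sandwich g (d * a * d)
    rwa [show g * (d * a * d) * g = a₂ by simp only [ha₂, mul_assoc]] at this
  have lb : Le b₂ g := by
    have := Le.sandwich g (d * b * d)
    rwa [show g * (d * b * d) * g = b₂ by simp only [hb₂, mul_assoc]] at this
  have z1 := la.1 _ ag
  have z2 := la.2 _ ga
  have z3 := la.1 _ bg
  have z4 := la.2 _ gb
  have z5 := lb.1 _ ag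
  have z6 := lb.2 _ ga
  have z7 := lb.1 _ bg
  have z8 := lb.2 _ gb
  have z9 := la.mul_eq_zero lb gg
  have z10 := lb.mul_eq_zero la gg
  have z11 := la.1 _ gg
  have z12 := la.2 _ gg
  have z13 := lb.1 _ gg
  have z14 := lb.2 _ gg
  have hg1 : g = (a - a₂) * (b - b₂) - (b - b₂) * (a - a₂) := by
    nlc hg + z5 + z4 - z9 - z3 - z6 + z10
  have ha1 : Mn Γ (a - a₂) := a1' (fun e => hne (by rw [hg1, e]; simp))
  have hb1 : Mn Γ (b - b₂) := b1' (fun e => hne (by rw [hg1, e]; simp))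
  have aba1 : (a - a₂) * (b - b₂) * (a - a₂) = 0 := by
    nlc aba - a * z3 - z5 * (a - a₂) - z4 * (a - a₂) + z9 * (a - a₂)
  have bab1 := ha1.sandwich_symm h2 h3 hb1 aba1
  have da : d * (a - a₂) * d = 0 := by nlc -d * ha₂ * d - dgd * a * d * g * d - d * a * dgd
  have db : d * (b - b₂) * d = 0 := by nlc -d * hb₂ * d - dgd * b * d * g * d - d * b * dgd
  obtain ⟨b', k1, k2, k3⟩ := homog_surj h2 h3 ha1 hb1 aba1 hg1 hne hd gdg dgd da db hl lg
  obtain ⟨a', k4, k5, k6⟩ := homog_surj h2 h3 hb1 ha1 bab1 (g := -g) (d := -d) (l := -b₂)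
    (by rw [hg1, neg_sub]) (neg_ne_zero.2 hne) hd.neg (by nlc -gdg) (by nlc -dgd) (by nlc db)
    (by nlc da) b2.neg lb.neg.neg_right
  obtain ⟨u, hu, eu⟩ := k4.2 1
  rw [one_smul] at eu
  have eu' := inv_eq_of_val k4.1 eu
  have y1 := ha1.sandwich_le h2 h3 hb1 aba1 hb1.1 k5 k5 (Le.refl _)
  have y2 := ha1.sandwich_le h2 h3 hb1 aba1 k1 k5 k5 k2
  have y3 := (ha1.cc_le h2 h3 hb1 aba1 (hg1 ▸ hne) k4 k1 k5 k2).2
  rw [← hg1] at y3
  refine ⟨_, k1.conj hu, ?_, ?_⟩
  · have := k2.conj u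
    rwa [show (u : End k M) * (b - b₂) * (u⁻¹ : (End k M)ˣ) = b by rw [eu', eu]; nlc -k6 - y1] at this
  · rw [eu', eu]
    have w1 := y3.1 _ ag
    have w2 := y3.2 _ ga
    have w3 : a₂ * b' = 0 := la.2 _ (k2.1 _ (by nlc gb - z13))
    have w4 : b' * a₂ = 0 := la.1 _ (k2.2 _ (by nlc bg - z14))
    nlc k3 + w1 - w2 + w3 - w4 - a * y2 + y2 * a

end Cfsg.Agent.H8.QP
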