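import Cfsg.Agent.H8.Conj

/-! Unipotent groups of units of an algebra. -/

set_option autoImplicit false

namespace Cfsg.Agent.H8.QP

variable {k E : Type*} [Field k] [Ring E] [Algebra k E] {H U V : Subgroup Eˣ}

variable (k) in
/-- the span of the elements `g - 1` -/
def aug (H : Subgroup Eˣ) : Submodule k E :=
  Submodule.span k ((fun g : Eˣ => (g : E) - 1) '' (H : Set Eˣ))

theorem mem_aug {g : Eˣ} (hg : g ∈ H) : (g : E) - 1 ∈ aug k H :=
  Submodule.subset_span ⟨g, hg, rfl⟩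

theorem aug_le {J : Submodule k E} : aug k H ≤ J ↔ ∀ g ∈ H, (g : E) - 1 ∈ J := by
  rw [aug, Submodule.span_le, Set.image_subset_iff]; rfl

theorem aug_mono (h : U ≤ V) : aug k U ≤ aug k V := aug_le.2 (fun _ hg => mem_aug (h hg))

theorem aug_mul_aug_le {J : Submodule k E} :
    aug k U * aug k V ≤ J ↔ ∀ u ∈ U, ∀ v ∈ V, ((u : E) - 1) * ((v : E) - 1) ∈ J := by
  rw [aug, aug, Submodule.span_mul_span, Submodule.span_le]
  constructor
  · exact fun h u hu v hv => h (Set.mul_mem_mul ⟨u, hu, rfl⟩ ⟨v, hv, rfl⟩)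
  · rintro h _ ⟨_, ⟨u, hu, rfl⟩, _, ⟨v, hv, rfl⟩, rfl⟩
    exact h u hu v hv

theorem aug_mul_le : aug k H * aug k H ≤ aug k H := by
  rw [aug_mul_aug_le]
  intro u hu v hv
  have : ((u : E) - 1) * ((v : E) - 1) = ((u * v : Eˣ) - 1) - (u - 1) - (v - 1) := by
    rw [Units.val_mul]; noncomm_ring
  rw [this]
  exact Submodule.sub_mem _ (Submodule.sub_mem _ (mem_aug (H.mul_mem hu hv)) (mem_aug hu)) (mem_aug hv)

/-- the group of units congruent to `1` modulo a subalgebra without one -/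
def oneAdd (J : Submodule k E) (hJ : J * J ≤ J) : Subgroup Eˣ where
  carrier := {g | (g : E) - 1 ∈ J ∧ ((g⁻¹ : Eˣ) : E) - 1 ∈ J}
  one_mem' := by simp
  inv_mem' := fun h => ⟨h.2, by simpa using h.1⟩
  mul_mem' := by
    have key : ∀ x y : E, x - 1 ∈ J → y - 1 ∈ J → x * y - 1 ∈ J := by
      intro x y hx hy
      have : x * y - 1 = (x - 1) * (y - 1) + (x - 1) + (y - 1) := by noncomm_ring
      rw [this]
      exact J.add_mem (J.add_mem (hJ (Submodule.mul_mem_mul hx hy)) hx) hy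
    intro a b ha hb
    exact ⟨key _ _ ha.1 hb.1, by rw [mul_inv_rev]; exact key _ _ hb.2 ha.2⟩

theorem aug_le_iff {J : Submodule k E} (hJ : J * J ≤ J) : aug k H ≤ J ↔ H ≤ oneAdd J hJ := by
  rw [aug_le]
  exact ⟨fun h g hg => ⟨h g hg, h _ (H.inv_mem hg)⟩, fun h g hg => (h hg).1⟩

theorem aug_sup_le {J : Submodule k E} (hJ : J * J ≤ J) (hU : aug k U ≤ J) (hV : aug k V ≤ J) :
    aug k (U ⊔ V) ≤ J := by
  rw [aug_le_iff hJ] at *; exact sup_le hU hV

theorem aug_biSup_le {J : Submodule k E} (hJ : J * J ≤ J) {W : Set (Subgroup Eˣ)}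
    (h : ∀ A ∈ W, aug k A ≤ J) : aug k (⨆ A ∈ W, A) ≤ J := by
  rw [aug_le_iff hJ]; exact iSup₂_le (fun A hA => (aug_le_iff hJ).1 (h A hA))

theorem aug_closure_le {J : Submodule k E} (hJ : J * J ≤ J) {S : Set Eˣ}
    (h : ∀ g ∈ S, (g : E) - 1 ∈ J ∧ ((g⁻¹ : Eˣ) : E) - 1 ∈ J) : aug k (Subgroup.closure S) ≤ J := by
  rw [aug_le_iff hJ, Subgroup.closure_le]; exact h

variable (k) in
/-- unipotent subgroups -/
def Unip (H : Subgroup Eˣ) : Prop := IsNilpotent (aug k H)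

theorem nil_of_le {I J : Submodule k E} (h : I ≤ J) (hJ : IsNilpotent J) : IsNilpotent I := by
  obtain ⟨n, hn⟩ := hJ
  exact ⟨n, le_bot_iff.1 ((pow_le_pow_left' h n).trans hn.le)⟩

theorem Unip.mono (h : Unip k V) (hle : U ≤ V) : Unip k U := nil_of_le (aug_mono hle) h

theorem unip_iff : Unip k H ↔ ∃ n : ℕ, ∀ l : List Eˣ, (∀ g ∈ l, g ∈ H) → l.length = n →
    (l.map fun g : Eˣ => (g : E) - 1).prod = 0 := by
  refine exists_congr (fun n => ?_)
  rw [aug, Submodule.span_pow, Submodule.zero_eq_bot, Submodule.span_eq_bot]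
  constructor
  · intro h l hl hn
    apply h
    subst hn
    rw [Set.mem_pow]
    refine ⟨fun i => ⟨_, l.get i, hl _ (List.get_mem l i), rfl⟩, ?_⟩
    congr 1
    conv_rhs => rw [← List.ofFn_get l]
    rw [List.map_ofFn]; rfl
  · intro h x hx
    obtain ⟨f, rfl⟩ := Set.mem_pow.1 hx
    choose g hg e using fun i => (f i).2
    have := h (List.ofFn g) (by simpa [List.mem_ofFn] using hg) (by simp)
    rw [List.map_ofFn] at this
    rw [← this]
    congr 2
    ext i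
    exact (e i).symm

theorem unip_bot : Unip k (⊥ : Subgroup Eˣ) :=
  ⟨1, by rw [pow_one]; exact le_bot_iff.1 (aug_le.2 (by simp))⟩

theorem unip_sup (hU : Unip k U) (hV : Unip k V) (hn : ∀ v ∈ V, ∀ u ∈ U, v * u * v⁻¹ ∈ U) :
    Unip k (U ⊔ V) := by
  set J := aug k U
  set I := aug k V
  have hJ : J * J ≤ J := aug_mul_le
  have hI : I * I ≤ I := aug_mul_le
  let P : Submodule k E := 1 ⊔ I
  have h1P : 1 ≤ P := le_sup_left
  have hIP : I ≤ P := le_sup_right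
  have hPP : P * P ≤ P := by
    simp only [P, Submodule.mul_sup, Submodule.sup_mul, one_mul, mul_one]
    exact sup_le le_rfl (sup_le le_sup_right (hI.trans le_sup_right))
  have hJL : J ≤ J * P := by
    conv_lhs => rw [← mul_one J]
    exact mul_le_mul_right h1P _
  have hPJ : P * J ≤ J * P := by
    simp only [P, Submodule.sup_mul, one_mul]
    refine sup_le hJL (aug_mul_aug_le.2 (fun v hv u hu => ?_))
    have : ((v : E) - 1) * ((u : E) - 1) =
        ((v * u * v⁻¹ : Eˣ) - 1) * (1 + ((v : E) - 1)) - (u - 1) := by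
      simp [sub_mul, mul_sub]; abel
    rw [this]
    refine Submodule.sub_mem _ (Submodule.mul_mem_mul (mem_aug (hn v hv u hu)) ?_) (hJL (mem_aug hu))
    exact Submodule.add_mem_sup (Submodule.one_le.1 le_rfl) (mem_aug hv)
  set L := J * P with hL
  have hLP : L * P ≤ L := by rw [hL, mul_assoc]; exact mul_le_mul_right hPP _
  have hPL : P * L ≤ L := by
    rw [hL, ← mul_assoc]; exact (mul_le_mul_left hPJ _).trans hLP
  have hLL : L * L ≤ L := by
    calc L * L = J * (P * J) * P := by rw [hL]; simp only [mul_assoc]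
      _ ≤ J * (J * P) * P := mul_le_mul_left (mul_le_mul_right hPJ _) _
      _ = (J * J) * (P * P) := by simp only [mul_assoc]
      _ ≤ L := mul_le_mul' hJ hPP
  have hLI : L * I ≤ L := (mul_le_mul_right hIP _).trans hLP
  have hIL : I * L ≤ L := (mul_le_mul_left hIP _).trans hPL
  have hT : (L ⊔ I) * (L ⊔ I) ≤ L ⊔ I := by
    simp only [Submodule.mul_sup, Submodule.sup_mul]
    exact sup_le (sup_le (hLL.trans le_sup_left) (hIL.trans le_sup_left))
      (sup_le (hLI.trans le_sup_left) (hI.trans le_sup_right))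
  refine nil_of_le (aug_sup_le hT (hJL.trans le_sup_left) le_sup_right) ?_
  obtain ⟨n, hn⟩ := hU
  obtain ⟨m, hm⟩ := hV
  have k1 : ∀ j, (L ⊔ I) ^ (j + 1) ≤ L ⊔ I ^ (j + 1) ∧ I ^ (j + 1) ≤ I := by
    intro j
    induction j with
    | zero => simp
    | succ j ih =>
      refine ⟨?_, by rw [pow_succ]; exact (mul_le_mul_left ih.2 _).trans hI⟩
      rw [pow_succ]
      refine (mul_le_mul_left ih.1 _).trans ?_
      simp only [Submodule.mul_sup, Submodule.sup_mul]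
      exact sup_le (sup_le (hLL.trans le_sup_left)
        (((mul_le_mul_left ih.2 _).trans hIL).trans le_sup_left))
        (sup_le (hLI.trans le_sup_left) (by rw [← pow_succ]; exact le_sup_right))
  have k2 : ∀ j, L ^ j ≤ J ^ j * P := by
    intro j
    induction j with
    | zero => simpa using h1P
    | succ j ih =>
      calc L ^ (j + 1) ≤ J ^ j * P * (J * P) := by rw [pow_succ]; exact mul_le_mul_left ih _
        _ = J ^ j * (P * J) * P := by simp only [mul_assoc]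
        _ ≤ J ^ j * (J * P) * P := mul_le_mul_left (mul_le_mul_right hPJ _) _
        _ = J ^ (j + 1) * (P * P) := by simp only [pow_succ, mul_assoc]
        _ ≤ _ := mul_le_mul_right hPP _
  refine ⟨(m + 1) * n, le_bot_iff.1 ?_⟩
  have k3 := (k1 m).1
  rw [pow_succ I, show I ^ m = 0 from hm, zero_mul, Submodule.zero_eq_bot, sup_bot_eq] at k3
  rw [pow_mul]
  refine (pow_le_pow_left' k3 n).trans ((k2 n).trans ?_)
  rw [show J ^ n = 0 from hn, zero_mul]; exact le_rfl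

section AL

variable {W : Set (Subgroup Eˣ)}

/-- the group generated by the members of `W` inside `1 + J` -/
def gen (W : Set (Subgroup Eˣ)) (J : Submodule k E) : Subgroup Eˣ :=
  ⨆ A ∈ {A | A ∈ W ∧ aug k A ≤ J}, A

/-- nilpotent subalgebras generated by members of `W` -/
def Good (W : Set (Subgroup Eˣ)) (J : Submodule k E) : Prop := IsNilpotent J ∧ J = aug k (gen W J)

theorem le_gen {J : Submodule k E} {A : Subgroup Eˣ} (hA : A ∈ W) (h : aug k A ≤ J) :
    A ≤ gen W J :=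
  le_iSup₂_of_le (f := fun A (_ : A ∈ {A | A ∈ W ∧ aug k A ≤ J}) => A) A ⟨hA, h⟩ le_rfl

theorem aug_gen_le {J : Submodule k E} (hJ : J * J ≤ J) : aug k (gen W J) ≤ J :=
  aug_biSup_le hJ (fun _ h => h.2)

theorem gen_mono {I J : Submodule k E} (h : I ≤ J) : gen W I ≤ gen W J :=
  iSup₂_le (fun _ hA => le_gen hA.1 (hA.2.trans h))

theorem good_of (hU : Unip k U) (h : U ≤ gen W (aug k U)) : Good W (aug k U) :=
  ⟨hU, le_antisymm (aug_mono h) (aug_gen_le aug_mul_le)⟩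

theorem Good.mul_le {J : Submodule k E} (h : Good W J) : J * J ≤ J := by
  rw [h.2]; exact aug_mul_le

theorem exists_normalizing (hW : ∀ A ∈ W, ∀ B ∈ W, ∀ a ∈ A, a • B ∈ W) {J₀ J₁ : Submodule k E}
    (h₀ : Good W J₀) (h₁ : Good W J₁) (hle : J₀ ≤ J₁) (hne : ¬ J₁ ≤ J₀) :
    ∃ A ∈ W, aug k A ≤ J₁ ∧ ¬ aug k A ≤ J₀ ∧ ∀ a ∈ A, a • gen W J₀ = gen W J₀ := by
  have m₀ := h₀.mul_le
  have m₁ := h₁.mul_le
  have hp : ∀ j, J₁ ^ (j + 1) ≤ J₁ := by
    intro j
    induction j with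
    | zero => simp
    | succ j ih => rw [pow_succ]; exact (mul_le_mul_left ih _).trans m₁
  obtain ⟨j, ⟨A, hA, h1, h2⟩, h3⟩ : ∃ j, (∃ A ∈ W, aug k A ≤ J₀ ⊔ J₁ ^ (j + 1) ∧ ¬ aug k A ≤ J₀) ∧
      ∀ A ∈ W, aug k A ≤ J₀ ⊔ J₁ ^ (j + 1 + 1) → aug k A ≤ J₀ := by
    by_contra hh
    push Not at hh
    have key : ∀ j, ∃ A ∈ W, aug k A ≤ J₀ ⊔ J₁ ^ (j + 1) ∧ ¬ aug k A ≤ J₀ := by
      intro j
      induction j with
      | zero =>
        by_contra h
        push Not at h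
        apply hne
        rw [h₁.2]
        exact aug_biSup_le m₀ (fun A hA => h A hA.1 (by simpa using hA.2.trans le_sup_right))
      | succ j ih => exact hh j ih
    obtain ⟨n, hn⟩ := h₁.1
    obtain ⟨A, -, h1, h2⟩ := key n
    rw [pow_succ, hn, zero_mul, Submodule.zero_eq_bot, sup_bot_eq] at h1
    exact h2 h1
  refine ⟨A, hA, h1.trans (sup_le hle (hp j)), h2, smul_eq_of_forall_le (fun a ha => ?_)⟩
  rw [gen, smul_iSup]
  refine iSup_le (fun B => ?_)
  rw [smul_iSup]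
  refine iSup_le (fun hB => le_gen (hW A hA B hB.1 a ha) (h3 _ (hW A hA B hB.1 a ha) ?_))
  set T := J₀ ⊔ J₁ ^ (j + 1)
  set T' := J₀ ⊔ J₁ ^ (j + 1 + 1)
  have hTT : T' ≤ T := sup_le_sup_left (by
    rw [pow_succ' J₁ (j + 1), pow_succ' J₁ j, ← mul_assoc]; exact mul_le_mul_left m₁ _) _
  have k1 : T * J₀ ≤ T' := by
    simp only [T, Submodule.sup_mul]
    exact sup_le_sup m₀ (by rw [pow_succ J₁ (j + 1)]; exact mul_le_mul_right hle _)
  have k2 : T' * T ≤ T' := by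
    simp only [T, T', Submodule.sup_mul, Submodule.mul_sup]
    refine sup_le (sup_le_sup m₀ ?_) (sup_le (le_sup_of_le_right ?_) (le_sup_of_le_right ?_))
    · rw [pow_succ J₁ (j + 1), mul_assoc]
      exact mul_le_mul_right ((mul_le_mul_right hle _).trans m₁) _
    · rw [pow_succ' J₁ (j + 1)]; exact mul_le_mul_left hle _
    · rw [pow_succ J₁ (j + 1), mul_assoc]
      exact mul_le_mul_right ((mul_le_mul_right (hp j) _).trans m₁) _
  rw [aug_le]
  intro x hx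
  obtain ⟨b, hb, rfl⟩ := mem_smul_iff'.1 hx
  have hy := hB.2 (mem_aug hb)
  have hx1 := h1 (mem_aug ha)
  have hx2 := h1 (mem_aug (A.inv_mem ha))
  have hz : (a : E) * (b - 1) ∈ T' := by
    have : (a : E) * (b - 1) = (a - 1) * (b - 1) + (b - 1) := by noncomm_ring
    rw [this]
    exact T'.add_mem (k1 (Submodule.mul_mem_mul hx1 hy)) (Submodule.mem_sup_left hy)
  have : ((a * b * a⁻¹ : Eˣ) : E) - 1 = a * (b - 1) * ((a⁻¹ : Eˣ) - 1) + a * (b - 1) := by
    simp [mul_sub, sub_mul]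
  rw [this]
  exact T'.add_mem (k2 (Submodule.mul_mem_mul hz hx2)) hz

theorem unip_biSup [FiniteDimensional k E] (hW : ∀ A ∈ W, ∀ B ∈ W, ∀ a ∈ A, a • B ∈ W)
    (hu : ∀ A ∈ W, ∀ B ∈ W, Unip k (A ⊔ B)) : Unip k (⨆ A ∈ W, A) := by
  have key : ∀ J₀ : Submodule k E, Good W J₀ → ∀ J₁ J₂, Good W J₁ → Good W J₂ → J₀ ≤ J₁ → J₀ ≤ J₂ →
      ∃ J₃, Good W J₃ ∧ J₁ ≤ J₃ ∧ J₂ ≤ J₃ := by
    intro J₀
    induction J₀ using WellFoundedGT.induction with
    | ind J₀ ih =>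
    intro h₀ J₁ J₂ h₁ h₂ l₁ l₂
    by_cases e₁ : J₁ ≤ J₀
    · exact ⟨J₂, h₂, e₁.trans l₂, le_rfl⟩
    by_cases e₂ : J₂ ≤ J₀
    · exact ⟨J₁, h₁, le_rfl, e₂.trans l₁⟩
    obtain ⟨A₁, hA₁, a1, a2, a3⟩ := exists_normalizing hW h₀ h₁ l₁ e₁
    obtain ⟨A₂, hA₂, b1, b2, b3⟩ := exists_normalizing hW h₀ h₂ l₂ e₂
    set D := gen W J₀ with hD
    have hDu : Unip k D := by rw [Unip, ← h₀.2]; exact h₀.1
    have hU : Unip k (D ⊔ (A₁ ⊔ A₂)) := unip_sup hDu (hu _ hA₁ _ hA₂) (fun v hv u hu => by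
      rw [← smul_eq_of_sup a3 b3 v hv]; exact conj_mem_smul hu v)
    have g : ∀ U, D ≤ U → D ≤ gen W (aug k U) := fun U h =>
      gen_mono (h₀.2.le.trans (aug_mono h))
    have g' : Good W (aug k (D ⊔ (A₁ ⊔ A₂))) := good_of hU (sup_le (g _ le_sup_left)
      (sup_le (le_gen hA₁ (aug_mono (le_sup_of_le_right le_sup_left)))
        (le_gen hA₂ (aug_mono (le_sup_of_le_right le_sup_right)))))
    have gi : ∀ A ∈ W, A ≤ A₁ ⊔ A₂ → ¬ aug k A ≤ J₀ → Good W (aug k (D ⊔ A)) ∧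
        aug k (D ⊔ A) > J₀ ∧ aug k (D ⊔ A) ≤ aug k (D ⊔ (A₁ ⊔ A₂)) := by
      intro A hA h1 h2
      refine ⟨good_of (hU.mono (sup_le_sup_left h1 _)) (sup_le (g _ le_sup_left)
        (le_gen hA (aug_mono le_sup_right))), ?_, aug_mono (sup_le_sup_left h1 _)⟩
      exact lt_of_le_not_ge (h₀.2.le.trans (aug_mono le_sup_left))
        (fun h => h2 ((aug_mono le_sup_right).trans h))
    obtain ⟨c1, c2, c3⟩ := gi A₁ hA₁ le_sup_left a2
    obtain ⟨d1, d2, d3⟩ := gi A₂ hA₂ le_sup_right b2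
    obtain ⟨J₄, f1, f2, f3⟩ := ih _ c2 c1 _ _ h₁ g'
      (aug_sup_le h₁.mul_le (h₀.2.ge.trans l₁) a1) c3
    obtain ⟨J₃, f4, f5, f6⟩ := ih _ d2 d1 _ _ f1 h₂ (d3.trans f3)
      (aug_sup_le h₂.mul_le (h₀.2.ge.trans l₂) b1)
    exact ⟨J₃, f4, f2.trans f5, f6⟩
  have hb : Good W (aug k (⊥ : Subgroup Eˣ)) := good_of unip_bot bot_le
  obtain ⟨J, hJ⟩ := exists_maximal_of_wellFoundedGT (Good W) ⟨_, hb⟩
  refine nil_of_le (aug_biSup_le hJ.prop.mul_le (fun A hA => ?_)) hJ.prop.1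
  have hA' : Good W (aug k A) := good_of ((hu A hA A hA).mono le_sup_left) (le_gen hA le_rfl)
  obtain ⟨J₃, h1, h2, h3⟩ := key _ hb J _ hJ.prop hA'
    (by rw [hJ.prop.2]; exact aug_mono bot_le) (aug_mono bot_le)
  exact h3.trans (hJ.le_of_ge h1 h2)

end AL

theorem isUnipotentOn_iff {M : Type*} [AddCommGroup M] [Module k M]
    {H : Subgroup (LinearMap.GeneralLinearGroup k M)} : IsUnipotentOn H ↔ Unip k H := by
  rw [unip_iff, IsUnipotentOn]
  simp only [List.pure_def, List.bind_eq_flatMap, ← List.map_eq_flatMap, List.map_map]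
  rfl

end Cfsg.Agent.H8.QP
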