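import Cfsg.Agent.H8.QP3
import Cfsg.Agent.H8.Unip
import Cfsg.Agent.H8.Root2

/-! Quadratic pairs: the root subgroups. -/

set_option autoImplicit false

namespace Cfsg.Agent.H8.QP

open Polynomial Module LinearMap

section Ring

variable {k E : Type*} [Field k] [Ring E] [Algebra k E] {Γ : Subgroup Eˣ}

theorem Nil.exists_unit {s : E} (h : Nil k Γ s) : ∃ g ∈ Γ, (g : E) - 1 = s := by
  obtain ⟨g, hg, e⟩ := h.2 1
  exact ⟨g, hg, by rw [e]; simp⟩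

theorem inv_val {g : Eˣ} (h : ((g : E) - 1) * ((g : E) - 1) = 0) :
    ((g⁻¹ : Eˣ) : E) = 1 - ((g : E) - 1) := inv_eq_of_val h (by simp)

theorem Nil.mem {g : Eˣ} (h : Nil k Γ ((g : E) - 1)) : g ∈ Γ := by
  obtain ⟨x, hx, e⟩ := h.exists_unit
  rwa [← Units.ext (sub_left_injective e)]

theorem conj_sub_one (g x : Eˣ) : ((g * x * g⁻¹ : Eˣ) : E) - 1 = g * ((x : E) - 1) * (g⁻¹ : Eˣ) := by
  simp [mul_sub, sub_mul]

theorem ne_one_iff {g : Eˣ} : g ≠ 1 ↔ (g : E) - 1 ≠ 0 := by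
  rw [Ne, Ne, sub_eq_zero, Units.val_eq_one]

variable (k Γ) in
/-- the root subgroup attached to `s` -/
def Eg (s : E) : Subgroup Eˣ := Subgroup.closure {g | Nil k Γ ((g : E) - 1) ∧ Le ((g : E) - 1) s}

theorem mem_Eg {s : E} (hs : s * s = 0) {g : Eˣ} :
    g ∈ Eg k Γ s ↔ Nil k Γ ((g : E) - 1) ∧ Le ((g : E) - 1) s := by
  refine ⟨fun h => ?_, fun h => Subgroup.subset_closure h⟩
  induction h using Subgroup.closure_induction with
  | mem x hx => exact hx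
  | one => simpa using ⟨Nil.zero, Le.zero s⟩
  | mul x y _ _ hx hy =>
    have e1 := hx.2.mul_eq_zero hy.2 hs
    have e2 := hy.2.mul_eq_zero hx.2 hs
    rw [show ((x * y : Eˣ) : E) - 1 = ((x : E) - 1) + ((y : E) - 1) by rw [Units.val_mul]; nlc e1]
    exact ⟨hx.1.add hy.1 e1 e2, hx.2.add hy.2⟩
  | inv x _ hx =>
    rw [inv_val hx.1.1, sub_sub_cancel_left]
    exact ⟨hx.1.neg, hx.2.neg⟩

theorem Eg_le (s : E) : Eg k Γ s ≤ Γ := (Subgroup.closure_le _).2 (fun _ hg => hg.1.mem)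

theorem Eg_mono {s t : E} (h : Le s t) : Eg k Γ s ≤ Eg k Γ t :=
  Subgroup.closure_mono (fun _ hg => ⟨hg.1, hg.2.trans h⟩)

theorem Eg_congr {s t : E} (h : Le s t) (h' : Le t s) : Eg k Γ s = Eg k Γ t :=
  le_antisymm (Eg_mono h) (Eg_mono h')

theorem Eg_neg (s : E) : Eg k Γ (-s) = Eg k Γ s :=
  Eg_congr (Le.refl s).neg (Le.refl s).neg_right

theorem exists_mem_Eg {s u : E} (hu : Nil k Γ u) (h : Le u s) : ∃ g ∈ Eg k Γ s, (g : E) - 1 = u := by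
  obtain ⟨g, -, e⟩ := hu.exists_unit
  exact ⟨g, Subgroup.subset_closure (by simp only [Set.mem_setOf_eq, e]; exact ⟨hu, h⟩), e⟩

theorem smul_Eg_le (s : E) {g : Eˣ} (hg : ∀ x ∈ Γ, g * x * g⁻¹ ∈ Γ) :
    g • Eg k Γ s ≤ Eg k Γ (g * s * (g⁻¹ : Eˣ)) := by
  rw [Eg, smul_closure]
  refine Subgroup.closure_mono ?_
  rintro _ ⟨x, hx, rfl⟩
  simp only [Set.mem_setOf_eq, conj_sub_one]
  exact ⟨hx.1.conj' hg, hx.2.conj g⟩

theorem smul_Eg' (s : E) {g : Eˣ} (hg : g • Γ = Γ) :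
    g • Eg k Γ s = Eg k Γ (g * s * (g⁻¹ : Eˣ)) := by
  refine le_antisymm (smul_Eg_le s (fun x hx => hg ▸ conj_mem_smul hx g)) ?_
  rw [← smul_le_smul_iff' (g := g⁻¹), inv_smul_smul]
  have hg' : g⁻¹ • Γ = Γ := by rw [inv_smul_eq_iff, hg]
  refine (smul_Eg_le _ (fun x hx => hg' ▸ conj_mem_smul hx g⁻¹)).trans (le_of_eq ?_)
  congr 1
  simp [mul_assoc]

theorem smul_Eg (s : E) {g : Eˣ} (hg : g ∈ Γ) :
    g • Eg k Γ s = Eg k Γ (g * s * (g⁻¹ : Eˣ)) := smul_Eg' s (smul_eq_of_mem hg)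

theorem cm_Eg {s t : E} (hs : s * s = 0) (ht : t * t = 0) (h1 : s * t = 0) (h2 : t * s = 0) :
    Cm (Eg k Γ s) (Eg k Γ t) := by
  intro a ha b hb
  have e1 := ((mem_Eg hs).1 ha).2.mul_eq_zero ((mem_Eg ht).1 hb).2 h1
  have e2 := ((mem_Eg ht).1 hb).2.mul_eq_zero ((mem_Eg hs).1 ha).2 h2
  ext
  rw [Units.val_mul, Units.val_mul]
  nlc e1 - e2

theorem commute_iff {a b : Eˣ} : a * b = b * a ↔
    ((a : E) - 1) * ((b : E) - 1) - ((b : E) - 1) * ((a : E) - 1) = 0 := by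
  rw [Units.ext_iff, Units.val_mul, Units.val_mul]
  exact ⟨fun h => by nlc h, fun h => by nlc h⟩

theorem comm_val {a b : Eˣ} {α β : E} (ea : (a : E) - 1 = α) (eb : (b : E) - 1 = β)
    (h1 : α * α = 0) (h2 : β * β = 0) (h3 : α * β * α = 0) (h4 : β * α * β = 0) :
    ((a * b * a⁻¹ * b⁻¹ : Eˣ) : E) - 1 = α * β - β * α := by
  simp only [Units.val_mul]
  rw [inv_val (ea ▸ h1), inv_val (eb ▸ h2), ea, eb, eq_add_of_sub_eq ea, eq_add_of_sub_eq eb]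
  nlc -h1 * (1 - β) - h3 * (1 - β) - h2 - α * h2 + h4

theorem unip_sup_of {A B : Subgroup Eˣ} (h1 : aug k A * aug k A = 0) (h2 : aug k B * aug k B = 0)
    (h3 : aug k A * aug k B * aug k A = 0) (h4 : aug k B * aug k A * aug k B = 0) :
    Unip k (A ⊔ B) := by
  set I := aug k A + aug k B with hI
  have e : I * I * I = 0 := by
    simp only [hI, add_mul, mul_add, h1, h2, h3, h4, zero_mul, add_zero, zero_add]
    simp only [mul_assoc, h1, h2, mul_zero, add_zero]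
  have hJ : (I + I * I) * (I + I * I) ≤ I + I * I := by
    simp only [add_mul, mul_add, e, ← mul_assoc, zero_mul, add_zero]
    exact le_sup_right
  refine nil_of_le (aug_sup_le hJ (le_sup_of_le_left le_sup_left) (le_sup_of_le_left le_sup_right))
    ⟨3, ?_⟩
  simp only [pow_succ, pow_zero, one_mul, add_mul, mul_add, e, ← mul_assoc, zero_mul, add_zero]

theorem not_unip {H : Subgroup Eˣ} {s d : E} (hs : s ∈ aug k H) (hd : d ∈ aug k H) (h0 : s ≠ 0)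
    (h : s * d * s = s) : ¬ Unip k H := by
  rintro ⟨n, hn⟩
  have : ∀ n : ℕ, s ∈ aug k H ^ (n + 1) := by
    intro n
    induction n with
    | zero => simpa using hs
    | succ n ih =>
      rw [pow_succ', ← h]
      exact Submodule.mul_mem_mul (aug_mul_le (Submodule.mul_mem_mul hs hd)) ih
  have := this n
  rw [pow_succ, hn, zero_mul] at this
  exact h0 this

end Ring

variable {k M : Type*} [Field k] [AddCommGroup M] [Module k M]

theorem eq_bot_of_unip {G U : Subgroup (End k M)ˣ} (hG : IsIrreducibleFor G)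
    (hn : ∀ g ∈ G, ∀ u ∈ U, g⁻¹ * u * g ∈ U) (hU : Unip k U) : U = ⊥ := by
  let F : Submodule k M := ⨅ u ∈ U, ker ((u : End k M) - 1)
  have hF : ∀ m, m ∈ F ↔ ∀ u ∈ U, (u : End k M) m = m := fun m => by
    simp [F, Submodule.mem_iInf, sub_eq_zero]
  rcases hG.2 F (fun g hg w hw => (hF _).2 (fun u hu => by
    have := congrArg (g : End k M) ((hF w).1 hw _ (hn g hg u hu))
    rwa [← End.mul_apply, ← Units.val_mul, ← mul_assoc, ← mul_assoc, mul_inv_cancel, one_mul,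
      Units.val_mul, End.mul_apply] at this)) with h | h
  · exfalso
    obtain ⟨n, hn⟩ := hU
    have key : ∀ n : ℕ, ∀ m : M, (∀ x ∈ aug k U ^ n, x m = 0) → m = 0 := by
      intro n
      induction n with
      | zero => intro m hm; simpa using hm 1 (by rw [pow_zero]; exact Submodule.one_le.1 le_rfl)
      | succ n ih =>
        intro m hm
        rw [← Submodule.mem_bot k, ← h, hF]
        intro u hu
        have := ih (((u : End k M) - 1) m) (fun x hx => by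
          rw [← End.mul_apply]
          exact hm _ (by rw [pow_succ]; exact Submodule.mul_mem_mul hx (mem_aug hu)))
        simpa [sub_eq_zero] using this
    obtain ⟨m, hm⟩ := hG.1
    refine hm (key n m (fun x hx => ?_))
    rw [hn] at hx
    rw [show x = 0 from hx]; rfl
  · rw [eq_bot_iff]
    intro u hu
    rw [Subgroup.mem_bot]
    ext m
    exact (hF m).1 (h ▸ Submodule.mem_top) u hu

variable [FiniteDimensional k M] {Γ : Subgroup (End k M)ˣ}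

variable (Γ) in
/-- the set of root subgroups -/
def Sig : Set (Subgroup (End k M)ˣ) := {A | ∃ s, Mn Γ s ∧ A = Eg k Γ s}

theorem Mn.mem_Eg {s : End k M} (hs : Mn Γ s) {g : (End k M)ˣ} (hg : g ∈ Eg k Γ s) (h1 : g ≠ 1) :
    Mn Γ ((g : End k M) - 1) ∧ Le ((g : End k M) - 1) s ∧ Le s ((g : End k M) - 1) := by
  obtain ⟨h3, h4⟩ := (QP.mem_Eg hs.1.1).1 hg
  obtain ⟨h5, h6⟩ := hs.of_le h3 (ne_one_iff.1 h1) h4
  exact ⟨h5, h4, h6⟩

omit [FiniteDimensional k M] in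
theorem Mn.exists_mem {s : End k M} (hs : Mn Γ s) : ∃ g ∈ Eg k Γ s, g ≠ 1 ∧ (g : End k M) - 1 = s := by
  obtain ⟨g, hg, e⟩ := exists_mem_Eg hs.1 (Le.refl s)
  exact ⟨g, hg, ne_one_iff.2 (e ▸ hs.2.1), e⟩

omit [FiniteDimensional k M] in
theorem Mn.Eg_ne_bot {s : End k M} (hs : Mn Γ s) : Eg k Γ s ≠ ⊥ := by
  obtain ⟨g, hg, h1, -⟩ := hs.exists_mem
  exact fun e => h1 (by rwa [e] at hg)

theorem Sig.smul' {A : Subgroup (End k M)ˣ} (hA : A ∈ Sig Γ) {g : (End k M)ˣ} (hg : g • Γ = Γ) :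
    g • A ∈ Sig Γ := by
  obtain ⟨s, hs, rfl⟩ := hA
  exact ⟨_, hs.conj' (fun x hx => hg ▸ conj_mem_smul hx g), smul_Eg' s hg⟩

theorem Sig.smul {A : Subgroup (End k M)ˣ} (hA : A ∈ Sig Γ) {g : (End k M)ˣ} (hg : g ∈ Γ) :
    g • A ∈ Sig Γ := Sig.smul' hA (smul_eq_of_mem hg)

omit [FiniteDimensional k M] in
theorem Sig.le {A : Subgroup (End k M)ˣ} (hA : A ∈ Sig Γ) : A ≤ Γ := by
  obtain ⟨s, -, rfl⟩ := hA
  exact Eg_le s

omit [FiniteDimensional k M] in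
theorem Sig.cm {A : Subgroup (End k M)ˣ} (hA : A ∈ Sig Γ) : Cm A A := by
  obtain ⟨s, hs, rfl⟩ := hA
  exact cm_Eg hs.1.1 hs.1.1 hs.1.1 hs.1.1

variable (h2 : (2 : k) ≠ 0) (h3 : Nat.card k ≠ 3)
include h2 h3

theorem Mn.partner {s t : End k M} (hs : Mn Γ s) (ht : Mn Γ t) (h : s * t * s ≠ 0)
    {a : (End k M)ˣ} (ha : a ∈ Eg k Γ s) (ha1 : a ≠ 1) :
    ∃ b ∈ Eg k Γ t, b ≠ 1 ∧ b • Eg k Γ s = a • Eg k Γ t ∧ b * a * b⁻¹ = a * b⁻¹ * a⁻¹ := by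
  obtain ⟨m1, m2, m3⟩ := hs.mem_Eg ha ha1
  obtain ⟨d, hd, l1, l2, e1, e2⟩ := m1.exists_partner' h2 h3 ht (fun e => h (m3.mul3 m3 e))
  obtain ⟨b, hb, eb⟩ := exists_mem_Eg hd.1 l1
  have ia := inv_val m1.1.1
  have ib := inv_val (eb ▸ hd.1.1)
  rw [eb] at ib
  replace eb := eq_add_of_sub_eq eb
  have key : (b : End k M) * ((a : End k M) - 1) * ((b⁻¹ : (End k M)ˣ) : End k M) =
      -((a : End k M) * d * ((a⁻¹ : (End k M)ˣ) : End k M)) := by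
    rw [ia, ib, eb]
    nlc -e1 - e2
  refine ⟨b, hb, ne_one_iff.2 (by rw [eb, add_sub_cancel_right]; exact hd.2.1), ?_, ?_⟩
  · rw [Eg_congr m3 m2, Eg_congr l2 l1, smul_Eg _ (Eg_le t hb), smul_Eg _ (Eg_le s ha), key, Eg_neg]
  · ext1
    simp only [Units.val_mul]
    have i1 := b.mul_inv
    have i2 := a.mul_inv
    nlc key + i1 - i2 - (a : End k M) * ib * ((a⁻¹ : (End k M)ˣ) : End k M)

theorem Mn.special {s t : End k M} (hs : Mn Γ s) (ht : Mn Γ t) (h : s * t * s ≠ 0) :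
    IsSpecialRankOnePair (Eg k Γ s) (Eg k Γ t) := by
  have h' : t * s * t ≠ 0 := fun e => h (ht.sandwich_symm h2 h3 hs e)
  have nil : ∀ s, Mn Γ s → Group.IsNilpotent (Eg k Γ s) := fun s hs =>
    ⟨⟨1, Subgroup.upperCentralSeries_one_eq_top_iff.2
      (cm_self_iff.1 (Sig.cm (Γ := Γ) ⟨s, hs, rfl⟩))⟩⟩
  have hr : IsRankOnePair (Eg k Γ s) (Eg k Γ t) := by
    refine ⟨fun e => ?_, nil s hs, nil t ht, cond_iff.2 (fun a ha ha1 => ?_),
      cond_iff.2 (fun a ha ha1 => ?_)⟩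
    · obtain ⟨g, hg, -, e1⟩ := hs.exists_mem
      rw [e, QP.mem_Eg ht.1.1, e1] at hg
      exact h (by rw [hg.2.2 t ht.1.1, zero_mul])
    · obtain ⟨b, k1, k2, k3, -⟩ := hs.partner h2 h3 ht h ha ha1
      exact ⟨b, k1, k2, k3⟩
    · obtain ⟨b, k1, k2, k3, -⟩ := ht.partner h2 h3 hs h' ha ha1
      exact ⟨b, k1, k2, k3⟩
  refine special_iff.2 ⟨hr, fun a ha ha1 b hb _ e => ?_⟩
  obtain ⟨b', k1, -, k3, k4⟩ := hs.partner h2 h3 ht h ha ha1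
  rwa [RO.smul_inj' hr hb k1 (e.trans k3.symm)]

theorem Mn.unip {s t : End k M} (hs : Mn Γ s) (ht : Mn Γ t) (h : s * t * s = 0) :
    Unip k (Eg k Γ s ⊔ Eg k Γ t) := by
  have k1 : ∀ s, Mn Γ s → aug k (Eg k Γ s) * aug k (Eg k Γ s) = 0 := fun s hs =>
    le_bot_iff.1 (aug_mul_aug_le.2 (fun u hu v hv =>
      ((QP.mem_Eg hs.1.1).1 hu).2.mul_eq_zero ((QP.mem_Eg hs.1.1).1 hv).2 hs.1.1))
  have k2 : ∀ s t, Mn Γ s → Mn Γ t → s * t * s = 0 →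
      aug k (Eg k Γ s) * aug k (Eg k Γ t) * aug k (Eg k Γ s) = 0 := fun s t hs ht h => by
    refine le_bot_iff.1 (Submodule.mul_le.2 (fun x hx y hy => ?_))
    have l : Le y s := by
      induction hy using Submodule.span_induction with
      | mem y hy => obtain ⟨g, hg, rfl⟩ := hy; exact ((QP.mem_Eg hs.1.1).1 hg).2
      | zero => exact Le.zero s
      | add _ _ _ _ a b => exact a.add b
      | smul c _ _ a => exact ⟨fun x hx => by simp [a.1 x hx], fun x hx => by simp [a.2 x hx]⟩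
    have : aug k (Eg k Γ s) * aug k (Eg k Γ t) ≤ ker (LinearMap.mulRight k y) :=
      aug_mul_aug_le.2 (fun u hu v hv => hs.sandwich_le h2 h3 ht h ((QP.mem_Eg ht.1.1).1 hv).1
        ((QP.mem_Eg hs.1.1).1 hu).2 l ((QP.mem_Eg ht.1.1).1 hv).2)
    exact this hx
  exact unip_sup_of (k1 s hs) (k1 t ht) (k2 s t hs ht h) (k2 t s ht hs (hs.sandwich_symm h2 h3 ht h))

theorem Mn.not_unip {s t : End k M} (hs : Mn Γ s) (ht : Mn Γ t) (h : s * t * s ≠ 0) :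
    ¬ Unip k (Eg k Γ s ⊔ Eg k Γ t) := by
  obtain ⟨d, hd, l1, -, e1, -⟩ := hs.exists_partner' h2 h3 ht h
  obtain ⟨b, hb, eb⟩ := exists_mem_Eg hd.1 l1
  obtain ⟨a, ha, -, ea⟩ := hs.exists_mem
  have k1 := mem_aug (k := k) (Subgroup.mem_sup_left (T := Eg k Γ t) ha)
  have k2 := mem_aug (k := k) (Subgroup.mem_sup_right (S := Eg k Γ s) hb)
  rw [ea] at k1
  rw [eb] at k2
  exact QP.not_unip k1 k2 hs.2.1 e1

theorem Mn.not_ro {s t : End k M} (hs : Mn Γ s) (ht : Mn Γ t) (h : s * t * s = 0) :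
    ¬ IsRankOnePair (Eg k Γ s) (Eg k Γ t) := by
  intro hr
  refine RO.not_smul_cm hr (fun a ha => ?_)
  obtain ⟨k1, k2⟩ := (QP.mem_Eg hs.1.1).1 ha
  have e := ht.sandwich_le h2 h3 hs (hs.sandwich_symm h2 h3 ht h) k1 (Le.refl t) (Le.refl t) k2
  have tt := ht.1.1
  rw [smul_Eg _ (Eg_le s ha)]
  refine cm_Eg tt (ht.conj (Eg_le s ha)).1.1 ?_ ?_
  · nlc (e + tt) * ((a⁻¹ : (End k M)ˣ) : End k M)
  · rw [inv_val k1.1]
    nlc (a : End k M) * (tt - e)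

theorem Mn.ro_iff {s t : End k M} (hs : Mn Γ s) (ht : Mn Γ t) :
    IsRankOnePair (Eg k Γ s) (Eg k Γ t) ↔ s * t * s ≠ 0 :=
  ⟨fun h e => hs.not_ro h2 h3 ht e h, fun h => (hs.special h2 h3 ht h).1⟩

theorem Mn.exists_opp {G : Subgroup (End k M)ˣ} (hG : IsIrreducibleFor G)
    (hn : ∀ g ∈ G, g • Γ = Γ) {s : End k M} (hs : Mn Γ s) : ∃ d, Mn Γ d ∧ s * d * s ≠ 0 := by
  by_contra hc
  push Not at hc
  let W : Set (Subgroup (End k M)ˣ) := {A | A ∈ Sig Γ ∧ ∀ B ∈ Sig Γ, ¬ IsRankOnePair A B}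
  have hW : ∀ g, g • Γ = Γ → ∀ A ∈ W, g • A ∈ W := fun g hg A hA =>
    ⟨Sig.smul' hA.1 hg, fun B hB hr => hA.2 (g⁻¹ • B)
      (Sig.smul' hB (by rw [inv_smul_eq_iff, hg])) (by simpa using RO.smul hr g⁻¹)⟩
  have hU := unip_biSup (k := k) (W := W)
    (fun A hA B hB a ha => hW a (smul_eq_of_mem (Sig.le hA.1 ha)) B hB) (by
      rintro _ ⟨⟨a, ha, rfl⟩, h⟩ _ ⟨⟨b, hb, rfl⟩, -⟩
      refine ha.unip h2 h3 hb ?_
      by_contra e
      exact h _ ⟨b, hb, rfl⟩ ((ha.ro_iff h2 h3 hb).2 e))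
  have := eq_bot_of_unip hG (fun g hg u hu => by
    have : g⁻¹ • (⨆ A ∈ W, A) ≤ ⨆ A ∈ W, A := by
      rw [smul_iSup]
      refine iSup_le (fun B => ?_)
      rw [smul_iSup]
      exact iSup_le (fun hB => le_iSup₂_of_le (f := fun A (_ : A ∈ W) => A) _
        (hW _ (hn _ (G.inv_mem hg)) B hB) le_rfl)
    exact this (conj_mem_inv_smul hu g)) hU
  refine hs.Eg_ne_bot (le_bot_iff.1 (this ▸ le_iSup₂_of_le (f := fun A (_ : A ∈ W) => A) _
    ⟨⟨s, hs, rfl⟩, ?_⟩ le_rfl))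
  rintro _ ⟨b, hb, rfl⟩
  exact hs.not_ro h2 h3 hb (hc b hb)

theorem Mn.closure_comm {s t d : End k M} (hs : Mn Γ s) (ht : Mn Γ t) (h : s * t * s = 0)
    (hd : Mn Γ d) (hop : (s * t - t * s) * d * (s * t - t * s) ≠ 0) {a : (End k M)ˣ}
    (ha : a ∈ Eg k Γ s) (ha1 : a ≠ 1) :
    Subgroup.closure ((fun b => a * b * a⁻¹ * b⁻¹) '' (Eg k Γ t : Set (End k M)ˣ)) =
      Eg k Γ (s * t - t * s) := by
  have hne : s * t - t * s ≠ 0 := by rintro e; simp [e] at hop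
  have h' := hs.sandwich_symm h2 h3 ht h
  have hγ := (hs.cc h2 h3 ht h hne).1
  obtain ⟨m1, m2, m3⟩ := hs.mem_Eg ha ha1
  have cv : ∀ b ∈ Eg k Γ t, ((a * b * a⁻¹ * b⁻¹ : (End k M)ˣ) : End k M) - 1 =
      ((a : End k M) - 1) * ((b : End k M) - 1) - ((b : End k M) - 1) * ((a : End k M) - 1) := by
    intro b hb
    obtain ⟨n1, n2⟩ := (QP.mem_Eg ht.1.1).1 hb
    exact comm_val rfl rfl m1.1.1 n1.1 (hs.sandwich_le h2 h3 ht h n1 m2 m2 n2)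
      (ht.sandwich_le h2 h3 hs h' m1.1 n2 n2 m2)
  refine le_antisymm ((Subgroup.closure_le _).2 ?_) (fun l hl => Subgroup.subset_closure ?_)
  · rintro _ ⟨b, hb, rfl⟩
    obtain ⟨n1, n2⟩ := (QP.mem_Eg ht.1.1).1 hb
    rw [SetLike.mem_coe, QP.mem_Eg hγ.1.1, cv b hb]
    exact hs.cc_le h2 h3 ht h hne m1.1 n1 m2 n2
  · obtain ⟨n1, n2⟩ := (QP.mem_Eg hγ.1.1).1 hl
    obtain ⟨k1, k2⟩ := hs.cc_le h2 h3 ht h hne m1.1 ht.1 m2 (Le.refl t)
    have k3 := (hγ.of_le k1 (hs.cc_ne h2 h3 ht h hne m1.1 ht.1 m2 (Le.refl t) m1.2.1 ht.2.1) k2).2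
    obtain ⟨b', k4, k5, k6⟩ := m1.cc_surj h2 h3 ht (m2.mul3 m2 h) hd (fun e => hop (k3.mul3 k3 e))
      n1 (n2.trans k3)
    obtain ⟨b, hb, rfl⟩ := exists_mem_Eg k4 k5
    refine ⟨b, hb, Units.ext (sub_left_injective (b := 1) ?_)⟩
    simp only
    rw [cv b hb, k6]

theorem Mn.commutator_eq {s t d : End k M} (hs : Mn Γ s) (ht : Mn Γ t) (h : s * t * s = 0)
    (hd : Mn Γ d) (hop : (s * t - t * s) * d * (s * t - t * s) ≠ 0) :
    ⁅Eg k Γ s, Eg k Γ t⁆ = Eg k Γ (s * t - t * s) := by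
  refine le_antisymm (commutator_le'.2 (fun a ha b hb => ?_)) ?_
  · by_cases ha1 : a = 1
    · simp [ha1]
    rw [← hs.closure_comm h2 h3 ht h hd hop ha ha1]
    exact Subgroup.subset_closure ⟨b, hb, rfl⟩
  · obtain ⟨a, ha, ha1, -⟩ := hs.exists_mem
    rw [← hs.closure_comm h2 h3 ht h hd hop ha ha1, Subgroup.closure_le]
    rintro _ ⟨b, hb, rfl⟩
    exact comm_mem ha hb

theorem Mn.rcc {s t d : End k M} (hs : Mn Γ s) (ht : Mn Γ t) (h : s * t * s = 0)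
    (hd : Mn Γ d) (hop : (s * t - t * s) * d * (s * t - t * s) ≠ 0) :
    RootCommutatorCase (Sig Γ) (Eg k Γ s) (Eg k Γ t) := by
  have hne : s * t - t * s ≠ 0 := by rintro e; simp [e] at hop
  have h' := hs.sandwich_symm h2 h3 ht h
  have hγ := (hs.cc h2 h3 ht h hne).1
  have e := hs.commutator_eq h2 h3 ht h hd hop
  have ss := hs.1.1
  have tt := ht.1.1
  refine ⟨⟨_, hγ, e⟩, ?_, fun a ha ha1 => ?_, fun b hb hb1 => ?_⟩
  · rw [e]
    exact Cm.sup_right (cm_Eg hγ.1.1 ss (by nlc h - t * ss) (by nlc ss * t - h))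
      (cm_Eg hγ.1.1 tt (by nlc s * tt - h') (by nlc h' - tt * s))
  · rw [e, hs.closure_comm h2 h3 ht h hd hop ha ha1]
  · rw [e, ← Eg_neg (s * t - t * s), neg_sub, ← ht.closure_comm h2 h3 hs h' hd
      (by rwa [← neg_sub, neg_mul, mul_neg, neg_mul, neg_neg]) hb hb1, ← Subgroup.closure_inv]
    congr 1
    ext x
    simp only [Set.mem_inv, Set.mem_image]
    constructor
    · rintro ⟨a, ha, e⟩
      exact ⟨a, ha, by rw [← inv_inv x, ← e]; group⟩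
    · rintro ⟨a, ha, rfl⟩
      exact ⟨a, ha, by group⟩

theorem Mn.cm_of_commute {s t : End k M} (hs : Mn Γ s) (ht : Mn Γ t) (h : s * t - t * s = 0) :
    Cm (Eg k Γ s) (Eg k Γ t) := by
  have ss := hs.1.1
  have h1 : s * t * s = 0 := by nlc h * s + t * ss
  have h1' := hs.sandwich_symm h2 h3 ht h1
  intro a ha b hb
  by_contra hne
  rw [commute_iff] at hne
  have ha1 : a ≠ 1 := by rintro rfl; simp at hne
  have hb1 : b ≠ 1 := by rintro rfl; simp at hne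
  obtain ⟨m1, m2, m3⟩ := hs.mem_Eg ha ha1
  obtain ⟨n1, n2, n3⟩ := ht.mem_Eg hb hb1
  exact m1.cc_ne h2 h3 n1 (hs.sandwich_le h2 h3 ht h1 n1.1 m2 m2 n2) hne hs.1 ht.1 m3 n3
    hs.2.1 ht.2.1 h

theorem Sig.tri (ho : ∀ s, Mn Γ s → ∃ d, Mn Γ d ∧ s * d * s ≠ 0) {A B : Subgroup (End k M)ˣ}
    (hA : A ∈ Sig Γ) (hB : B ∈ Sig Γ) :
    Cm A B ∨ IsSpecialRankOnePair A B ∨ RootCommutatorCase (Sig Γ) A B := by
  obtain ⟨s, hs, rfl⟩ := hA
  obtain ⟨t, ht, rfl⟩ := hB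
  by_cases h : s * t * s = 0
  · by_cases hne : s * t - t * s = 0
    · exact Or.inl (hs.cm_of_commute h2 h3 ht hne)
    · obtain ⟨d, hd, hop⟩ := ho _ (hs.cc h2 h3 ht h hne).1
      exact Or.inr (Or.inr (hs.rcc h2 h3 ht h hd hop))
  · exact Or.inr (Or.inl (hs.special h2 h3 ht h))

omit h2 h3

omit [FiniteDimensional k M] in
theorem mem_quad_iff {σ : (End k M)ˣ} :
    σ ∈ quadraticElements Γ ↔ Nil k Γ ((σ : End k M) - 1) ∧ (σ : End k M) - 1 ≠ 0 := by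
  constructor
  · rintro ⟨-, ⟨a, b⟩, c⟩
    refine ⟨⟨a, fun r => ?_⟩, b⟩
    have e := smul_sq_zero a r
    exact ⟨⟨1 + r • ((σ : End k M) - 1), 1 - r • ((σ : End k M) - 1), by nlc -e, by nlc -e⟩,
      c ⟨r, rfl⟩, rfl⟩
  · rintro ⟨a, b⟩
    refine ⟨a.mem, ⟨a.1, b⟩, ?_⟩
    rintro τ ⟨r, e⟩
    obtain ⟨g, hg, e'⟩ := a.2 r
    rwa [Units.ext (e.trans e'.symm)]

omit [FiniteDimensional k M] in
theorem mem_min_iff {σ : (End k M)ˣ} :
    σ ∈ minimalQuadraticElements Γ ↔ Mn Γ ((σ : End k M) - 1) := by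
  constructor
  · rintro ⟨a, b⟩
    rw [mem_quad_iff] at a
    refine ⟨a.1, a.2, fun u hu h0 => ?_⟩
    obtain ⟨g, -, rfl⟩ := hu.exists_unit
    exact b g (mem_quad_iff.2 ⟨hu, h0⟩)
  · rintro ⟨a, b, c⟩
    exact ⟨mem_quad_iff.2 ⟨a, b⟩, fun τ hτ => c _ (mem_quad_iff.1 hτ).1 (mem_quad_iff.1 hτ).2⟩

theorem mem_class_iff {σ τ : (End k M)ˣ} (hσ : σ ∈ minimalQuadraticElements Γ) :
    τ ∈ sameActionClass Γ σ ↔ τ ∈ Eg k Γ ((σ : End k M) - 1) ∧ τ ≠ 1 := by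
  rw [mem_min_iff] at hσ
  constructor
  · rintro ⟨a, b, c⟩
    rw [mem_min_iff] at a
    exact ⟨(mem_Eg hσ.1.1).2 ⟨a.1, le_iff.2 ⟨c.le, b.ge⟩⟩, ne_one_iff.2 a.2.1⟩
  · rintro ⟨a, b⟩
    obtain ⟨m1, m2, m3⟩ := hσ.mem_Eg a b
    rw [le_iff] at m2 m3
    exact ⟨mem_min_iff.2 m1, le_antisymm m3.2 m2.2, le_antisymm m2.1 m3.1⟩

theorem sameAction_eq {σ : (End k M)ˣ} (hσ : σ ∈ minimalQuadraticElements Γ) :
    sameActionSubgroup Γ σ = Eg k Γ ((σ : End k M) - 1) := by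
  refine le_antisymm ((Subgroup.closure_le _).2 (fun τ hτ => ((mem_class_iff hσ).1 hτ).1))
    (fun τ hτ => ?_)
  by_cases h : τ = 1
  · rw [h]; exact one_mem _
  · exact Subgroup.subset_closure ((mem_class_iff hσ).2 ⟨hτ, h⟩)

theorem roots_eq : quadraticRootSubgroups Γ = Sig Γ := by
  ext A
  constructor
  · rintro ⟨σ, hσ, rfl⟩
    exact ⟨_, mem_min_iff.1 hσ, sameAction_eq hσ⟩
  · rintro ⟨s, hs, rfl⟩
    obtain ⟨g, -, rfl⟩ := hs.1.exists_unit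
    exact ⟨g, mem_min_iff.2 hs, (sameAction_eq (mem_min_iff.2 hs)).symm⟩

theorem two_ne_zero_of {k : Type*} [Field k] (h : ringChar k ≠ 2) : (2 : k) ≠ 0 :=
  Ring.two_ne_zero h

end Cfsg.Agent.H8.QP
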