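import Cfsg.Agent.H8.QP4

/-! Quadratic pairs: the commutator case. -/

set_option autoImplicit false

namespace Cfsg.Agent.H8

theorem commutator_sup_le {G : Type*} [Group G] {A B C H Z : Subgroup G} (hA : A ≤ H) (hB : B ≤ H)
    (hZ : ∀ x ∈ H, ∀ z ∈ Z, x * z * x⁻¹ ∈ Z) (h1 : ⁅C, A⁆ ≤ Z) (h2 : ⁅C, B⁆ ≤ Z) :
    ⁅C, A ⊔ B⁆ ≤ Z := by
  let T : Subgroup G :=
    { carrier := {y | y ∈ H ∧ ∀ c ∈ C, c * y * c⁻¹ * y⁻¹ ∈ Z}
      one_mem' := ⟨H.one_mem, fun c _ => by simp⟩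
      mul_mem' := fun {x y} hx hy => ⟨H.mul_mem hx.1 hy.1, fun c hc => by
        have := Z.mul_mem (hx.2 c hc) (hZ x hx.1 _ (hy.2 c hc))
        convert this using 1; group⟩
      inv_mem' := fun {x} hx => ⟨H.inv_mem hx.1, fun c hc => by
        have := hZ _ (H.inv_mem hx.1) _ (Z.inv_mem (hx.2 c hc))
        convert this using 1; group⟩ }
  have : A ⊔ B ≤ T := sup_le (fun a ha => ⟨hA ha, fun c hc => h1 (comm_mem hc ha)⟩)
    (fun a ha => ⟨hB ha, fun c hc => h2 (comm_mem hc ha)⟩)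
  exact commutator_le'.2 (fun c hc y hy => (this hy).2 c hc)

theorem commutator_sup_self_le {G : Type*} [Group G] {A B : Subgroup G} (hA : Cm A A) (hB : Cm B B)
    (h : Cm ⁅A, B⁆ (A ⊔ B)) : ⁅A ⊔ B, A ⊔ B⁆ ≤ ⁅A, B⁆ := by
  have hZ : ∀ x ∈ A ⊔ B, ∀ z ∈ ⁅A, B⁆, x * z * x⁻¹ ∈ ⁅A, B⁆ := fun x hx z hz => by
    rw [← h z hz x hx]; simpa using hz
  refine commutator_sup_le le_sup_left le_sup_right hZ ?_ ?_ <;> rw [Subgroup.commutator_comm]
  · exact commutator_sup_le le_sup_left le_sup_right hZ (by rw [cm_iff.1 hA]; exact bot_le) le_rfl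
  · exact commutator_sup_le le_sup_left le_sup_right hZ (by rw [Subgroup.commutator_comm])
      (by rw [cm_iff.1 hB]; exact bot_le)

namespace QP

open Polynomial Module LinearMap

/-- the endomorphisms of the unipotent core -/
def coreJ (k : Type*) {E : Type*} [Field k] [Ring E] [Algebra k E] (γ : E) : Submodule k E where
  carrier := {u | γ * u = 0 ∧ u * γ = 0 ∧ ∀ x y, γ * x = 0 → y * γ = 0 → y * u * x = 0}
  zero_mem' := by simp
  add_mem' := fun {a b} ha hb => ⟨by rw [mul_add, ha.1, hb.1, add_zero],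
    by rw [add_mul, ha.2.1, hb.2.1, add_zero],
    fun x y hx hy => by rw [mul_add, add_mul, ha.2.2 x y hx hy, hb.2.2 x y hx hy, add_zero]⟩
  smul_mem' := fun c a ha => ⟨by simp [ha.1], by simp [ha.2.1],
    fun x y hx hy => by simp [ha.2.2 x y hx hy]⟩

theorem coreJ_mul {k E : Type*} [Field k] [Ring E] [Algebra k E] (γ : E) :
    coreJ k γ * coreJ k γ ≤ coreJ k γ :=
  Submodule.mul_le.2 (fun a ha b hb => ⟨by rw [← mul_assoc, ha.1, zero_mul],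
    by rw [mul_assoc, hb.2.1, mul_zero], fun x y hx hy => by
      rw [← mul_assoc]
      exact hb.2.2 x _ hx (by rw [mul_assoc, ha.2.1, mul_zero])⟩)

theorem coreJ_neg {k E : Type*} [Field k] [Ring E] [Algebra k E] (γ : E) :
    coreJ k (-γ) = coreJ k γ := by
  ext u
  change (_ ∧ _ ∧ _) ↔ (_ ∧ _ ∧ _)
  simp only [neg_mul, mul_neg, neg_eq_zero]

variable {k M : Type*} [Field k] [AddCommGroup M] [Module k M] {Γ : Subgroup (End k M)ˣ}

theorem mem_fixed_iff {H : Subgroup (End k M)ˣ} {m : M} :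
    m ∈ fixedSubmodule H ↔ ∀ g ∈ H, ((g : End k M) - 1) m = 0 := by
  simp [fixedSubmodule, Submodule.mem_iInf]

theorem fixed_Eg {s : End k M} (hs : Nil k Γ s) : fixedSubmodule (Eg k Γ s) = ker s := by
  ext m
  rw [mem_fixed_iff]
  constructor
  · intro h
    obtain ⟨g, hg, e⟩ := exists_mem_Eg hs (Le.refl s)
    rw [← e]; exact h g hg
  · intro h g hg
    exact (le_iff.1 ((mem_Eg hs.1).1 hg).2).2 h

theorem comm_Eg {s : End k M} (hs : Nil k Γ s) : commutatorSubmodule (Eg k Γ s) = range s := by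
  refine le_antisymm (iSup₂_le (fun g hg => (le_iff.1 ((mem_Eg hs.1).1 hg).2).1)) ?_
  obtain ⟨g, hg, e⟩ := exists_mem_Eg hs (Le.refl s)
  exact le_iSup₂_of_le (f := fun (g : (End k M)ˣ) (_ : g ∈ Eg k Γ s) => range ((g : End k M) - 1))
    g hg (by rw [e])

theorem mem_core {γ : End k M} (hγ : Nil k Γ γ) {g : (End k M)ˣ} (hg : g ∈ Γ)
    (h : (g : End k M) - 1 ∈ coreJ k γ) : g ∈ quadraticUnipotentCore Γ (Eg k Γ γ) := by
  refine ⟨hg, ?_, fun m => ?_, fun m hm => ?_, fun m hm => ?_⟩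
  · rw [← smul_eq_iff_mem_normalizer]
    refine smul_eq_of_commute (fun a ha => commute_iff.2 ?_)
    have l := ((mem_Eg hγ.1).1 ha).2
    rw [l.1 _ h.2.1, l.2 _ h.1, sub_zero]
  · rw [fixed_Eg hγ]
    exact congrArg (· m) h.1
  · rw [fixed_Eg hγ] at hm
    rw [comm_Eg hγ]
    obtain ⟨W, hW⟩ := (ker γ).exists_isCompl
    have := range_le_iff.2 (fun y hy => by
      have := h.2.2 ((ker γ).projection _ hW) y (by
        rw [mul_eq_zero_iff, Submodule.range_projection]) hy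
      rwa [mul_assoc] at this)
    refine this ⟨m, ?_⟩
    rw [End.mul_apply, Submodule.projection_apply_of_mem_left _ hm]
    rfl
  · rw [comm_Eg hγ] at hm
    obtain ⟨m, rfl⟩ := hm
    have := congrArg (· m) h.2.1
    simpa [sub_eq_zero] using this

variable [FiniteDimensional k M] (h2 : (2 : k) ≠ 0) (h3 : Nat.card k ≠ 3)
include h2 h3

theorem Mn.aug_le_core {s t : End k M} (hs : Mn Γ s) (ht : Mn Γ t) (h : s * t * s = 0)
    (hne : s * t - t * s ≠ 0) : aug k (Eg k Γ s) ≤ coreJ k (s * t - t * s) := by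
  refine aug_le.2 (fun g hg => ?_)
  have l := ((QP.mem_Eg hs.1.1).1 hg).2
  have ss := hs.1.1
  refine ⟨l.1 _ (by nlc h - t * ss), l.2 _ (by nlc ss * t - h), fun x y hx hy => ?_⟩
  have := (hs.cc h2 h3 ht h hne).2.2.2.2.1 x y hx hy
  by_cases h1 : g = 1
  · simp [h1]
  obtain ⟨m1, m2, m3⟩ := hs.mem_Eg hg h1
  obtain ⟨k1, k2⟩ := hs.cc_le h2 h3 ht h hne m1.1 ht.1 m2 (Le.refl t)
  have k0 := hs.cc_ne h2 h3 ht h hne m1.1 ht.1 m2 (Le.refl t) m1.2.1 ht.2.1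
  exact (m1.cc h2 h3 ht (m2.mul3 m2 h) k0).2.2.2.2.1 x y (k2.2 x hx) (k2.1 y hy)

theorem Sig.cc_core (ho : ∀ s, Mn Γ s → ∃ d, Mn Γ d ∧ s * d * s ≠ 0) {A B : Subgroup (End k M)ˣ}
    (hA : A ∈ Sig Γ) (hB : B ∈ Sig Γ) (h1 : ¬ Cm A B) (h4 : ¬ IsRankOnePair A B) :
    RootCommutatorCase (Sig Γ) A B ∧
      ((A ⊔ B : Subgroup (End k M)ˣ) : Set (End k M)ˣ) ⊆ quadraticUnipotentCore Γ ⁅A, B⁆ := by
  obtain ⟨s, hs, rfl⟩ := hA
  obtain ⟨t, ht, rfl⟩ := hB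
  rw [hs.ro_iff h2 h3 ht, not_not] at h4
  have hne : s * t - t * s ≠ 0 := fun e => h1 (hs.cm_of_commute h2 h3 ht e)
  have hγ := (hs.cc h2 h3 ht h4 hne).1
  obtain ⟨d, hd, hop⟩ := ho _ hγ
  refine ⟨hs.rcc h2 h3 ht h4 hd hop, fun g hg => ?_⟩
  rw [hs.commutator_eq h2 h3 ht h4 hd hop]
  have hg' : g ∈ Eg k Γ s ⊔ Eg k Γ t := hg
  have l1 : Eg k Γ s ⊔ Eg k Γ t ≤ Γ := sup_le (Eg_le s) (Eg_le t)
  have l2 := ht.aug_le_core h2 h3 hs (hs.sandwich_symm h2 h3 ht h4)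
    (by rwa [← neg_sub, neg_ne_zero])
  rw [← neg_sub (s * t), coreJ_neg] at l2
  exact mem_core hγ.1 (l1 hg')
    (aug_sup_le (coreJ_mul _) (hs.aug_le_core h2 h3 ht h4 hne) l2 (mem_aug hg'))

theorem Sig.unip_iff {A B : Subgroup (End k M)ˣ} (hA : A ∈ Sig Γ) (hB : B ∈ Sig Γ) :
    Unip k (A ⊔ B) ↔ ¬ IsRankOnePair A B := by
  obtain ⟨s, hs, rfl⟩ := hA
  obtain ⟨t, ht, rfl⟩ := hB
  rw [hs.ro_iff h2 h3 ht, not_not]
  exact ⟨fun h => by by_contra e; exact hs.not_unip h2 h3 ht e h, hs.unip h2 h3 ht⟩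

theorem opp_of_pair (hG : IsQuadraticPair Γ) : ∀ s, Mn Γ s → ∃ d, Mn Γ d ∧ s * d * s ≠ 0 :=
  fun _ hs => hs.exists_opp h2 h3 hG.1 (fun _ hg => smul_eq_of_mem hg)

end QP

end Cfsg.Agent.H8
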