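import Cfsg.Agent.H8.QP5
import Cfsg.Agent.H8.MatU
import Cfsg.Agent.H8.Local

/-! Quadratic pairs: components. -/

set_option autoImplicit false

namespace Cfsg.Agent.H8.QP

open Polynomial Module LinearMap

theorem finite_of_cm {k E ι : Type*} [Field k] [Ring E] [Algebra k E] [FiniteDimensional k E]
    (K : ι → Subgroup Eˣ) (h : ∀ i j, i ≠ j → Cm (K i) (K j)) (h' : ∀ i, ¬ Cm (K i) (K i)) :
    Finite ι := by
  classical
  simp only [Cm, not_forall] at h'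
  choose a ha b hb hab using h'
  refine LinearIndependent.finite_of_isNoetherian (R := k) (v := fun i => (a i : E))
    (linearIndependent_iff'.2 (fun s c hc i hi => ?_))
  have h1 : ∑ j ∈ s, c j • ((a j : E) * b i - b i * a j) = 0 := by
    have := congrArg (fun x => x * (b i : E) - b i * x) hc
    simpa only [smul_sub, Finset.sum_sub_distrib, smul_mul_assoc, mul_smul_comm,
      Finset.sum_mul, Finset.mul_sum, zero_mul, mul_zero, sub_zero] using this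
  rw [Finset.sum_eq_single_of_mem i hi (fun j _ hj => by
    rw [← Units.val_mul, h j i hj _ (ha j) _ (hb i), Units.val_mul, sub_self, smul_zero])] at h1
  refine (smul_eq_zero.1 h1).resolve_right (fun e => hab i (Units.ext ?_))
  rwa [sub_eq_zero] at e

theorem smul_biSup_le {G : Type*} [Group G] {W : Set (Subgroup G)} {g : G}
    (h : ∀ A ∈ W, g • A ∈ W) : g • (⨆ A ∈ W, A) ≤ ⨆ A ∈ W, A := by
  rw [smul_iSup]
  refine iSup_le (fun B => ?_)
  rw [smul_iSup]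
  exact iSup_le (fun hB => le_gen_of_mem (h B hB))

variable {k M : Type*} [Field k] [AddCommGroup M] [Module k M] [FiniteDimensional k M]
  {Γ : Subgroup (End k M)ˣ}

theorem eq_bot_of_unip' {G G₀ U : Subgroup (End k M)ˣ} (hG : IsIrreducibleFor G)
    (h0 : ∀ g ∈ G, g • G₀ = G₀) (hle : U ≤ G₀) (hn : ∀ g ∈ G₀, g • U = U) (hU : Unip k U) :
    U = ⊥ := by
  let W : Set (Subgroup (End k M)ˣ) := {V | V ≤ G₀ ∧ (∀ g ∈ G₀, g • V = V) ∧ Unip k V}
  have hW := unip_biSup (k := k) (W := W) (fun A hA B hB a ha => by rwa [hB.2.1 a (hA.1 ha)])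
    (fun A hA B hB => unip_sup hA.2.2 hB.2.2
      (fun v hv u hu => hA.2.1 v (hB.1 hv) ▸ conj_mem_smul hu v))
  have := eq_bot_of_unip hG (fun g hg u hu => smul_biSup_le (W := W) (g := g⁻¹) (by
    intro V hV
    have e := h0 _ (G.inv_mem hg)
    refine ⟨e ▸ smul_mono' _ hV.1, fun x hx => ?_, ?_⟩
    · have := hV.2.1 (g * x * g⁻¹) (h0 g hg ▸ conj_mem_smul hx g)
      conv_rhs => rw [← this]
      simp only [← mul_smul]
      congr 1
      group
    · obtain ⟨n, hn⟩ := unip_iff.1 hV.2.2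
      refine unip_iff.2 ⟨n, fun l hl e => ?_⟩
      have h1 := hn (l.map (fun x => g * x * g⁻¹)) (by
        intro x hx
        obtain ⟨y, hy, rfl⟩ := List.mem_map.1 hx
        exact mem_inv_smul_iff.1 (hl y hy)) (by simpa using e)
      have h2 : ∀ l : List (End k M)ˣ, ((l.map (fun x => g * x * g⁻¹)).map
          (fun x : (End k M)ˣ => (x : End k M) - 1)).prod = (g : End k M) *
            (l.map (fun x : (End k M)ˣ => (x : End k M) - 1)).prod *
              ((g⁻¹ : (End k M)ˣ) : End k M) := by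
        intro l
        induction l with
        | nil => simp
        | cons a l ih =>
          rw [List.map_cons, List.map_cons, List.prod_cons, ih, conj_sub_one, List.map_cons,
            List.prod_cons]
          simp only [mul_assoc, Units.inv_mul_cancel_left]
      rwa [h2, Units.mul_left_eq_zero, Units.mul_right_eq_zero] at h1)
    (conj_mem_inv_smul hu g)) hW
  exact le_bot_iff.1 (this ▸ le_gen_of_mem (S := W) ⟨hle, hn, hU⟩)

omit [FiniteDimensional k M] in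
theorem Sig.ne_bot {A : Subgroup (End k M)ˣ} (hA : A ∈ Sig Γ) : A ≠ ⊥ := by
  obtain ⟨s, hs, rfl⟩ := hA
  exact hs.Eg_ne_bot

omit [FiniteDimensional k M] in
theorem Sig.card_le {A : Subgroup (End k M)ˣ} (hA : A ∈ Sig Γ) : ENat.card k ≤ ENat.card A := by
  obtain ⟨s, hs, rfl⟩ := hA
  have : ∀ c : k, ∃ g : Eg k Γ s, ((g : (End k M)ˣ) : End k M) - 1 = c • s := fun c => by
    obtain ⟨g, hg, e⟩ := exists_mem_Eg (hs.1.smul c) (s := s)
      ⟨fun x hx => by rw [mul_smul_comm, hx, smul_zero],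
        fun x hx => by rw [smul_mul_assoc, hx, smul_zero]⟩
    exact ⟨⟨g, hg⟩, e⟩
  choose f hf using this
  refine ENat.card_le_card_of_injective (f := f) (fun a b e => smul_left_injective k hs.2.1 ?_)
  simp only
  rw [← hf, ← hf, e]

variable (h2 : (2 : k) ≠ 0) (h3 : Nat.card k ≠ 3)
include h2 h3

theorem Sig.special {A B : Subgroup (End k M)ˣ} (hA : A ∈ Sig Γ) (hB : B ∈ Sig Γ)
    (h : IsRankOnePair A B) : IsSpecialRankOnePair A B := by
  obtain ⟨s, hs, rfl⟩ := hA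
  obtain ⟨t, ht, rfl⟩ := hB
  exact hs.special h2 h3 ht ((hs.ro_iff h2 h3 ht).1 h)

theorem Sig.hpair {A B : Subgroup (End k M)ˣ} (hA : A ∈ Sig Γ) (hB : B ∈ Sig Γ)
    (h : IsRankOnePair A B) : ∃ A₀ B₀, A₀ ≤ A ∧ B₀ ≤ B ∧ IsPSL2PairOver k A₀ B₀ := by
  obtain ⟨s, hs, rfl⟩ := hA
  obtain ⟨t, ht, rfl⟩ := hB
  obtain ⟨d, hd, l1, -, sds, dsd⟩ := hs.exists_partner' h2 h3 ht ((hs.ro_iff h2 h3 ht).1 h)
  obtain ⟨φ, f1, f2, f3⟩ := exists_sl2_hom_smul (k := k) hs.1.1 hd.1.1 sds dsd hs.2.1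
  refine ⟨_, _, ?_, ?_, φ, range_eq_sup φ, f3, rfl, rfl⟩
  · rintro _ ⟨g, hg, rfl⟩
    obtain ⟨c, rfl⟩ := mem_upper_iff.1 hg
    rw [mem_Eg hs.1.1, f1, add_sub_cancel_left]
    exact ⟨hs.1.smul c, fun x hx => by rw [mul_smul_comm, hx, smul_zero],
      fun x hx => by rw [smul_mul_assoc, hx, smul_zero]⟩
  · rintro _ ⟨g, hg, rfl⟩
    obtain ⟨c, rfl⟩ := mem_lower_iff.1 hg
    rw [mem_Eg ht.1.1, f2, add_sub_cancel_left]
    exact ⟨hd.1.smul c, fun x hx => by rw [mul_smul_comm, l1.1 x hx, smul_zero],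
      fun x hx => by rw [smul_mul_assoc, l1.2 x hx, smul_zero]⟩

theorem Sig.le_commutator {A B : Subgroup (End k M)ˣ} (hA : A ∈ Sig Γ) (hB : B ∈ Sig Γ)
    (h : IsRankOnePair A B) : A ≤ ⁅A ⊔ B, A ⊔ B⁆ :=
  SP.le_commutator (Sig.special h2 h3 hA hB h) (Sig.cm hA)
    ((three_lt_card h2 h3).trans_le (Sig.card_le hA))

variable (ho : ∀ s, Mn Γ s → ∃ d, Mn Γ d ∧ s * d * s ≠ 0)
include ho

theorem Sig.lrs : LRS (Sig Γ) :=
  ⟨fun _ => Sig.cm, fun _ => Sig.ne_bot, fun _ hA _ ha _ hB => Sig.smul hB (Sig.le hA ha),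
    fun _ hA _ hB => (Sig.tri h2 h3 ho hA hB).imp_right (Or.imp_left (fun h => h.1))⟩

theorem Sig.ni : ∀ A ∈ Sig Γ, NI (Sig Γ) A := by
  rintro _ ⟨s, hs, rfl⟩
  obtain ⟨d, hd, h⟩ := ho s hs
  exact ⟨_, ⟨d, hd, rfl⟩, (hs.ro_iff h2 h3 hd).2 h⟩

theorem Sig.cm_comp {A B : Subgroup (End k M)ˣ} (hA : A ∈ Sig Γ) (hB : B ∈ Sig Γ)
    (h : ¬ Reach (Sig Γ) A B) : Cm (⨆ C ∈ comp (Sig Γ) A, C) (⨆ C ∈ comp (Sig Γ) B, C) := by
  rw [cm_iff_le_centralizer]
  refine iSup₂_le (fun C hC => cm_iff_le_centralizer.1 (Cm.symm (cm_iff_le_centralizer.2 ?_)))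
  refine iSup₂_le (fun D hD => cm_iff_le_centralizer.1 ?_)
  exact (Sig.lrs h2 h3 ho).cm_of_not_reach (Sig.ni h2 h3 ho) (comp_subset hB hD) (comp_subset hA hC)
    (fun e => h (Reach.trans hC ((Reach.trans hD e).symm)))

omit ho in
theorem Sig.quasisimple {G : Subgroup (End k M)ˣ} (hG : IsIrreducibleFor G)
    (hn : ∀ g ∈ G, g • Γ = Γ) {A : Subgroup (End k M)ˣ} (hA : A ∈ Sig Γ) :
    IsQuasisimple ↥(⨆ C ∈ comp (Sig Γ) A, C) := by
  have ho : ∀ s, Mn Γ s → ∃ d, Mn Γ d ∧ s * d * s ≠ 0 := fun s hs => hs.exists_opp h2 h3 hG hn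
  have hL := Sig.lrs h2 h3 ho
  have hN := Sig.ni h2 h3 ho
  have hs := comp_subset hA
  have hP := hL.comp hN hA
  refine hP.quasisimple ⟨A, Reach.refl A⟩ (fun B hB C hC => (reach_comp hB).symm.trans (reach_comp hC))
    (fun B hB => ni_comp hN hA hB) (fun B hB C hC => Sig.le_commutator h2 h3 (hs hB) (hs hC))
    (fun N hNK hNn hN' => ?_)
  set P := comp (Sig Γ) A with hPd
  set K := ⨆ C ∈ P, C with hK
  let cl : Subgroup (End k M)ˣ → Set (Subgroup (End k M)ˣ) := fun B =>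
    {C | C ∈ P ∧ ∀ D ∈ P, Cm B D ↔ Cm C D}
  let V : Subgroup (End k M)ˣ → Subgroup (End k M)ˣ := fun B => ⨆ C ∈ cl B, C
  have clcm : ∀ B, ∀ C ∈ cl B, ∀ D ∈ cl B, Cm C D := fun B C hC D hD =>
    (hC.2 D hD.1).1 ((hD.2 D hD.1).2 (hP.cm D hD.1))
  have uV : ∀ B, Unip k (V B) := fun B => unip_biSup
    (fun C hC D hD a ha => by rwa [(clcm B C hC D hD).smul_eq ha])
    (fun C hC D hD => (Sig.unip_iff h2 h3 (hs hC.1) (hs hD.1)).2
      (fun hr => RO.not_cm hr (clcm B C hC D hD)))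
  have ncl : ∀ B, ∀ n ∈ N, ∀ C ∈ cl B, n • C ∈ cl B := fun B n hn C hC =>
    ⟨hP.smul_mem (hNK hn) hC.1, fun D hD => (hC.2 D hD).trans ⟨hN' n hn C hC.1 D hD, fun h => by
      simpa using hN' n⁻¹ (N.inv_mem hn) _ (hP.smul_mem (hNK hn) hC.1) D hD h⟩⟩
  have kV : ∀ g ∈ K, ∀ B, g • V B ≤ V (g • B) := fun g hg B => by
    rw [smul_iSup]
    refine iSup_le (fun C => ?_)
    rw [smul_iSup]
    refine iSup_le (fun hC => le_gen_of_mem ⟨hP.smul_mem hg hC.1, fun D hD => ?_⟩)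
    rw [cm_smul_left_iff, cm_smul_left_iff]
    exact hC.2 _ (hP.smul_mem (K.inv_mem hg) hD)
  have kV' : ∀ g ∈ K, ∀ B, g • V B = V (g • B) := fun g hg B => by
    refine le_antisymm (kV g hg B) ?_
    rw [← smul_le_smul_iff' (g := g⁻¹), inv_smul_smul]
    simpa using kV g⁻¹ (K.inv_mem hg) (g • B)
  let W : Set (Subgroup (End k M)ˣ) := {U | ∃ B ∈ P, U = V B ⊓ N}
  have kW : ∀ g ∈ K, ∀ U ∈ W, g • U ∈ W := by
    rintro g hg _ ⟨B, hB, rfl⟩
    exact ⟨g • B, hP.smul_mem hg hB, by rw [smul_inf', kV' g hg, hNn g hg]⟩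
  have WN : (⨆ U ∈ W, U) ≤ N := iSup₂_le (by rintro _ ⟨B, -, rfl⟩; exact inf_le_right)
  have uW : Unip k (⨆ U ∈ W, U) := unip_biSup
    (fun U hU U' hU' a ha => kW a (hNK (WN (le_gen_of_mem hU ha))) U' hU') (by
      rintro _ ⟨B, hB, rfl⟩ _ ⟨C, hC, rfl⟩
      exact unip_sup ((uV B).mono inf_le_left) ((uV C).mono inf_le_left) (fun v hv u hu =>
        ⟨smul_biSup_le (ncl B v hv.2) (conj_mem_smul hu.1 v),
          N.mul_mem (N.mul_mem hv.2 hu.2) (N.inv_mem hv.2)⟩))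
  have KG : K ≤ ⨆ C ∈ Sig Γ, C := iSup₂_le (fun C hC => le_gen_of_mem (hs hC))
  have bW := eq_bot_of_unip' (G₀ := ⨆ C ∈ Sig Γ, C) hG
    (smul_eq_of_forall_le (fun g hg => smul_biSup_le (fun C hC => Sig.smul' hC (hn g hg))))
    (WN.trans (hNK.trans KG)) (fun g hg => by
      have : (⨆ C ∈ Sig Γ, C) ≤ Subgroup.normalizer ((⨆ U ∈ W, U : Subgroup (End k M)ˣ) : Set _) := by
        refine iSup₂_le (fun C hC c hc => smul_eq_iff_mem_normalizer.1 ?_)
        by_cases hr : Reach (Sig Γ) A C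
        · exact smul_eq_of_forall_le (fun g hg => smul_biSup_le (kW g hg)) c (le_gen_of_mem hr hc)
        · exact ((Sig.cm_comp h2 h3 ho hA hC hr).mono (WN.trans hNK)
            (le_gen_of_mem (Reach.refl C))).smul_eq' hc
      exact smul_eq_iff_mem_normalizer.2 (this hg)) uW
  refine Cm.symm (cm_iff_le_centralizer.2 (iSup₂_le (fun B hB => cm_iff_le_centralizer.1 ?_)))
  intro b hb n hn
  have hB' : B ∈ cl B := ⟨hB, fun _ _ => Iff.rfl⟩
  have : n * b * n⁻¹ * b⁻¹ ∈ ⨆ U ∈ W, U := by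
    refine le_gen_of_mem (S := W) ⟨B, hB, rfl⟩ (Subgroup.mem_inf.2 ⟨(V B).mul_mem
      (le_gen_of_mem (ncl B n hn B hB') (conj_mem_smul hb n))
      ((V B).inv_mem (le_gen_of_mem hB' hb)), ?_⟩)
    have := N.mul_mem hn (hNn b (le_gen_of_mem hB hb) ▸ conj_mem_smul (N.inv_mem hn) b)
    simpa only [mul_assoc] using this
  rw [bW, Subgroup.mem_bot, mul_inv_eq_one, mul_inv_eq_iff_eq_mul] at this
  exact this.symm

theorem Sig.finite_comp : Finite {P // ∃ A ∈ Sig Γ, P = comp (Sig Γ) A} := by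
  refine finite_of_cm (k := k) (fun P => ⨆ C ∈ P.1, C) ?_ ?_
  · rintro ⟨_, A, hA, rfl⟩ ⟨_, B, hB, rfl⟩ hne
    exact Sig.cm_comp h2 h3 ho hA hB (fun h => hne (Subtype.ext (comp_eq h)))
  · rintro ⟨_, A, hA, rfl⟩ h
    obtain ⟨B, hB, hr⟩ := Sig.ni h2 h3 ho A hA
    exact RO.not_cm hr (h.mono (le_gen_of_mem (Reach.refl A)) (le_gen_of_mem (Reach.single hA hB hr)))

end Cfsg.Agent.H8.QP
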