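import Cfsg.Agent.H8.QP6

/-! Quadratic pairs: the decomposition into quasisimple groups. -/

set_option autoImplicit false

namespace Cfsg.Agent.H8.QP

open Polynomial Module LinearMap

theorem Nil.sandwich {k E : Type*} [Field k] [Ring E] [Algebra k E] {Γ : Subgroup Eˣ} {a b : E}
    (ha : Nil k Γ a) (hb : Nil k Γ b) (h : a * b * a = a) : Nil k Γ (b * a * b) := by
  have := ((ha.conj_nil hb).conj_nil ha.neg).neg
  have aa := ha.1
  convert this using 1
  nlc -h - b * h + h * b + h * b * a + aa * b + b * aa - aa * a - a * b * aa + aa * b * a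

variable {k M : Type*} [Field k] [AddCommGroup M] [Module k M]

theorem eq_zero_of_irr {G K : Subgroup (End k M)ˣ} (hG : IsIrreducibleFor G)
    (hK : G ≤ K ⊔ Subgroup.centralizer (K : Set (End k M)ˣ)) {x y : (End k M)ˣ} (hx : x ∈ K)
    (hx1 : x ≠ 1) (hy : ∀ g ∈ K, y * g = g * y) (h : ((y : End k M) - 1) * ((x : End k M) - 1) = 0) :
    y = 1 := by
  let N : Submodule k M := ⨆ g ∈ K, range ((g : End k M) * ((x : End k M) - 1))
  have hN : ∀ g ∈ K, ∀ m, (g : End k M) (((x : End k M) - 1) m) ∈ N := fun g hg m =>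
    le_iSup₂_of_le (f := fun (g : (End k M)ˣ) (_ : g ∈ K) =>
      range ((g : End k M) * ((x : End k M) - 1))) g hg le_rfl ⟨m, rfl⟩
  have hc : Cm K (Subgroup.centralizer (K : Set (End k M)ˣ)) :=
    (cm_iff_le_centralizer.2 le_rfl).symm
  rcases hG.2 N (fun g hg => by
    obtain ⟨a, ha, c, hc', rfl⟩ := (mem_sup_of_cm hc).1 (hK hg)
    refine (iSup₂_le (fun b hb => ?_) : N ≤ N.comap _)
    rintro _ ⟨m, rfl⟩
    have e1 := congrArg Units.val (hc b hb c hc')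
    have e2 := congrArg Units.val (hc x hx c hc')
    simp only [Units.val_mul] at e1 e2
    have := hN (a * b) (K.mul_mem ha hb) ((c : End k M) m)
    rw [Submodule.mem_comap]
    convert this using 1
    simp only [← End.mul_apply, Units.val_mul]
    congr 1
    nlc -(a : End k M) * e1 * ((x : End k M) - 1) - (a : End k M) * (b : End k M) * e2) with e | e
  · exfalso
    apply hx1
    ext m
    have := hN 1 K.one_mem m
    rw [e] at this
    simpa [sub_eq_zero] using this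
  · have : N ≤ ker ((y : End k M) - 1) := iSup₂_le (fun g hg => mul_eq_zero_iff.1 (by
      have e1 := congrArg Units.val (hy g hg)
      simp only [Units.val_mul] at e1
      nlc e1 * ((x : End k M) - 1) + (g : End k M) * h))
    rw [e, top_le_iff, ker_eq_top, sub_eq_zero] at this
    exact Units.ext this

variable [FiniteDimensional k M] {Γ : Subgroup (End k M)ˣ}

theorem rk_comm_le {r d : End k M} (h : r * d * r = 0) : rk (r * d - d * r) ≤ rk d := by
  rw [sub_eq_add_neg, ← mul_neg]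
  refine (rk_add_le _ _).trans ?_
  rw [← rk_mul_add r d]
  refine Nat.add_le_add_left (Submodule.finrank_mono (le_inf (range_mul_le _ _) ?_)) _
  rw [← mul_eq_zero_iff, mul_neg, mul_neg, ← mul_assoc, h, neg_zero]

variable (Γ) in
/-- the group generated by the quadratic elements orthogonal to the minimal ones -/
def Q0 : Subgroup (End k M)ˣ := Subgroup.closure
  {g | Nil k Γ ((g : End k M) - 1) ∧ ∀ s, Mn Γ s → s * ((g : End k M) - 1) * s = 0}

variable (h2 : (2 : k) ≠ 0) (h3 : Nat.card k ≠ 3)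
include h2 h3

theorem peel {r s : End k M} (hr : Nil k Γ r) (hs : Mn Γ s) (h : s * r * s ≠ 0) :
    ∃ u, Mn Γ u ∧ Nil k Γ (r - u) ∧ u * (r - u) = 0 ∧ (r - u) * u = 0 ∧ rk (r - u) < rk r := by
  obtain ⟨v, -, -, ha, -, ara⟩ := hs.exists_partner h2 h3 hr h
  generalize v * s = a at ha ara
  have rr := hr.1
  have h0 : r * a * r ≠ 0 := fun e => ha.2.1 (by nlc a * e * a - ara - ara * r * a)
  have hn := ha.1.sandwich hr ara
  refine ⟨r * a * r, ha.of_rk hn h0 ((rk_mul_le_left _ _).trans (rk_mul_le_right _ _)),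
    hr.sub hn (by nlc rr * a * r) (by nlc r * a * rr), by nlc r * a * rr - r * a * rr * a * r,
    by nlc rr * a * r - r * a * rr * a * r, ?_⟩
  rw [show r - r * a * r = (1 - r * a) * r by noncomm_ring, ← rk_mul_add (1 - r * a) r]
  refine Nat.lt_add_of_pos_right (Nat.pos_of_ne_zero (fun e => h0 ?_))
  rw [Submodule.finrank_eq_zero] at e
  rw [← range_eq_bot, ← le_bot_iff, ← e]
  exact le_inf (by rw [mul_assoc]; exact range_mul_le _ _) (mul_eq_zero_iff.1 (by nlc -r * ara * r))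

variable (ho : ∀ s, Mn Γ s → ∃ d, Mn Γ d ∧ s * d * s ≠ 0)
include ho

theorem q0_commute {r d : End k M} (hr : Nil k Γ r) (h0 : ∀ s, Mn Γ s → s * r * s = 0)
    (hd : Mn Γ d) : r * d - d * r = 0 := by
  have rr := hr.1
  have dd := hd.1.1
  have drd := h0 d hd
  have key : ∀ u, Nil k Γ u → rk u ≤ rk d → (∀ s, Mn Γ s → s * u * s = 0) → u = 0 := by
    intro u hu hle h
    by_contra hne
    have hu' := hd.of_rk hu hne hle
    obtain ⟨s, hs, e⟩ := ho u hu'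
    exact e (hs.sandwich_symm h2 h3 hu' (h s hs))
  have conj : ∀ x, Nil k Γ x → ∀ s, Mn Γ s → s * ((1 - x) * r * (1 + x)) * s = 0 := by
    intro x hx s hs
    have := h0 _ (hs.conj_nil hx)
    have xx := hx.1
    nlc (1 - x) * this * (1 + x) + xx * s * (1 - x) * r * (1 + x) * s * (1 - x) * (1 + x)
      + s * (1 - x) * r * (1 + x) * s * xx
  have half : ∀ x : End k M, (2 : k) • x = 0 → x = 0 := fun x hx =>
    (smul_eq_zero.1 hx).resolve_left h2
  have p1 := hd.1.conj_nil hr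
  have p2 := hd.1.conj_nil hr.neg
  have w0 := p1.sub p2 (by nlc (1 + r) * dd * (1 + r) - 2 * (1 + r) * drd * (1 + r)
      + (1 + r) * d * rr * d * (1 + r))
    (by nlc (1 - r) * dd * (1 - r) + 2 * (1 - r) * drd * (1 - r) + (1 - r) * d * rr * d * (1 - r))
  have hw : Nil k Γ (r * d - d * r) := by
    have := w0.smul (2⁻¹ : k)
    rwa [show (1 + r) * d * (1 - r) - (1 + -r) * d * (1 - -r) = (2 : k) • (r * d - d * r) by
      h8ncr, smul_smul, inv_mul_cancel₀ h2, one_smul] at this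
  have hu : Nil k Γ (r * d * r) := by
    have := (hd.1.add hw (by nlc drd - dd * r) (by nlc r * dd - drd)).sub p1
      (by nlc dd * (1 - r) + drd * (1 - r) + r * dd * (1 - r) + r * drd * (1 - r) - drd * (1 - r)
        - d * rr * d * (1 - r))
      (by nlc (1 + r) * dd - (1 + r) * drd + (1 + r) * drd - (1 + r) * d * rr * d
        - (1 + r) * dd * r + (1 + r) * drd * r)
    convert this using 1
    noncomm_ring
  have u0 : r * d * r = 0 := key _ hu ((rk_mul_le_left _ _).trans (rk_mul_le_right _ _))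
    (fun s hs => half _ (by
      nlc h0 s hs - conj _ hw s hs + s * d * rr * s + s * rr * d * s
        - s * r * d * rr * d * s + s * r * drd * r * s + s * d * rr * r * d * s
        - s * d * rr * d * r * s))
  exact key _ hw (rk_comm_le u0) (fun s hs => by
    nlc conj _ hd.1 s hs - h0 s hs + s * drd * s)

theorem cm_Q0 : Cm (Q0 Γ) (⨆ A ∈ Sig Γ, A) := by
  refine cm_iff_le_centralizer.2 ((Subgroup.closure_le _).2 (fun g hg => ?_))
  have : (⨆ A ∈ Sig Γ, A) ≤ Subgroup.centralizer {g} := by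
    refine iSup₂_le ?_
    rintro _ ⟨s, hs, rfl⟩ a ha
    rw [Subgroup.mem_centralizer_singleton_iff]
    by_cases h1 : a = 1
    · simp [h1]
    exact (commute_iff.2 (q0_commute h2 h3 ho hg.1 hg.2 (hs.mem_Eg ha h1).1)).symm
  intro a ha
  exact Subgroup.mem_centralizer_singleton_iff.1 (this ha)

omit ho in
theorem mem_sup_Q0 (n : ℕ) : ∀ g : (End k M)ˣ, Nil k Γ ((g : End k M) - 1) →
    rk ((g : End k M) - 1) = n → g ∈ (⨆ A ∈ Sig Γ, A) ⊔ Q0 Γ := by
  induction n using Nat.strong_induction_on with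
  | _ n ih =>
  intro g hg hn
  by_cases h : ∀ s, Mn Γ s → s * ((g : End k M) - 1) * s = 0
  · exact Subgroup.mem_sup_right (Subgroup.subset_closure ⟨hg, h⟩)
  push Not at h
  obtain ⟨s, hs, h⟩ := h
  obtain ⟨u, hu, k1, k2, -, k4⟩ := peel h2 h3 hg hs h
  obtain ⟨a, ha, -, ea⟩ := hu.exists_mem
  obtain ⟨b, -, eb⟩ := k1.exists_unit
  have : g = a * b := by
    ext1
    rw [Units.val_mul, eq_add_of_sub_eq ea, eq_add_of_sub_eq eb]
    nlc -k2
  rw [this]
  exact mul_mem (Subgroup.mem_sup_left (le_gen_of_mem (S := Sig Γ) ⟨u, hu, rfl⟩ ha))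
    (ih _ (hn ▸ k4) b (eb ▸ k1) (by rw [eb]))

omit ho in
theorem le_sup_Q0 (hΓ : Γ ≤ Subgroup.closure {g : (End k M)ˣ | Nil k Γ ((g : End k M) - 1)}) :
    Γ ≤ (⨆ A ∈ Sig Γ, A) ⊔ Q0 Γ :=
  hΓ.trans ((Subgroup.closure_le _).2 (fun g hg => mem_sup_Q0 h2 h3 _ g hg rfl))

theorem le_comp_sup (hΓ : Γ ≤ Subgroup.closure {g : (End k M)ˣ | Nil k Γ ((g : End k M) - 1)})
    {A : Subgroup (End k M)ˣ} (hA : A ∈ Sig Γ) : Γ ≤ (⨆ C ∈ comp (Sig Γ) A, C) ⊔
      Subgroup.centralizer ((⨆ C ∈ comp (Sig Γ) A, C : Subgroup (End k M)ˣ) : Set (End k M)ˣ) := by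
  refine (le_sup_Q0 h2 h3 hΓ).trans (sup_le (iSup₂_le (fun C hC => ?_)) (le_sup_of_le_right ?_))
  · by_cases hr : Reach (Sig Γ) A C
    · exact le_sup_of_le_left (le_gen_of_mem hr)
    · exact le_sup_of_le_right (cm_iff_le_centralizer.1 ((Sig.cm_comp h2 h3 ho hA hC hr).symm.mono
        (le_gen_of_mem (Reach.refl C)) le_rfl))
  · exact cm_iff_le_centralizer.1 ((cm_Q0 h2 h3 ho).mono le_rfl
      (iSup₂_le (fun C hC => le_gen_of_mem (comp_subset hA hC))))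

theorem mem_comp_or {G : Subgroup (End k M)ˣ} (hG : IsIrreducibleFor G)
    (hc : G ≤ Γ ⊔ Subgroup.centralizer (Γ : Set (End k M)ˣ))
    (hΓ : Γ ≤ Subgroup.closure {g : (End k M)ˣ | Nil k Γ ((g : End k M) - 1)}) (n : ℕ) :
    ∀ g : (End k M)ˣ, Nil k Γ ((g : End k M) - 1) → rk ((g : End k M) - 1) = n →
      (∃ A ∈ Sig Γ, g ∈ ⨆ C ∈ comp (Sig Γ) A, C) ∨
        ∀ s, Mn Γ s → s * ((g : End k M) - 1) * s = 0 := by
  induction n using Nat.strong_induction_on with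
  | _ n ih =>
  intro g hg hn
  by_cases h : ∀ s, Mn Γ s → s * ((g : End k M) - 1) * s = 0
  · exact Or.inr h
  left
  push Not at h
  obtain ⟨s, hs, h⟩ := h
  obtain ⟨u, hu, k1, k2, k3, k4⟩ := peel h2 h3 hg hs h
  obtain ⟨a, ha, ha1, ea⟩ := hu.exists_mem
  obtain ⟨b, -, eb⟩ := k1.exists_unit
  have e : g = a * b := by
    ext1
    rw [Units.val_mul, eq_add_of_sub_eq ea, eq_add_of_sub_eq eb]
    nlc -k2
  have hA : Eg k Γ u ∈ Sig Γ := ⟨u, hu, rfl⟩
  have haK := le_gen_of_mem (S := comp (Sig Γ) (Eg k Γ u)) (Reach.refl _) ha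
  have hK : (⨆ C ∈ comp (Sig Γ) (Eg k Γ u), C) ≤ ⨆ C ∈ Sig Γ, C :=
    iSup₂_le (fun C hC => le_gen_of_mem (comp_subset hA hC))
  refine ⟨_, hA, e ▸ mul_mem haK ?_⟩
  have key : (∀ x ∈ ⨆ C ∈ comp (Sig Γ) (Eg k Γ u), C, b * x = x * b) →
      b ∈ ⨆ C ∈ comp (Sig Γ) (Eg k Γ u), C := fun hb => by
    rw [eq_zero_of_irr hG (hc.trans (sup_le (le_comp_sup h2 h3 ho hΓ hA) (le_sup_of_le_right
      (Subgroup.centralizer_le (hK.trans (iSup₂_le (fun C hC => Sig.le hC))))))) haK ha1 hb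
      (by rw [ea, eb, k3])]
    exact one_mem _
  rcases ih _ (hn ▸ k4) b (eb ▸ k1) (by rw [eb]) with ⟨B, hB, hb⟩ | hb
  · by_cases hr : Reach (Sig Γ) B (Eg k Γ u)
    · rwa [← comp_eq hr]
    · exact key (Sig.cm_comp h2 h3 ho hB hA hr b hb)
  · exact key (fun x hx => cm_Q0 h2 h3 ho b (Subgroup.subset_closure ⟨eb ▸ k1, hb⟩) x (hK hx))

omit ho in
theorem decomp {G : Subgroup (End k M)ˣ} (hG : IsIrreducibleFor G) (n : ℕ) :
    ∀ Γ : Subgroup (End k M)ˣ, G ≤ Γ ⊔ Subgroup.centralizer (Γ : Set (End k M)ˣ) →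
      Γ ≤ Subgroup.closure {g : (End k M)ˣ | Nil k Γ ((g : End k M) - 1)} →
      (∀ u, Nil k Γ u → u ≠ 0 → finrank k M < rk u + n) →
      ∃ 𝒦 : Set (Subgroup (End k M)ˣ), (∀ K ∈ 𝒦, IsQuasisimple K ∧
        K ≤ Subgroup.closure {g : (End k M)ˣ | g ∈ K ∧ g ≠ 1 ∧ Nil k Γ ((g : End k M) - 1)}) ∧
        (∀ K ∈ 𝒦, ∀ K' ∈ 𝒦, K ≠ K' → Cm K K') ∧ (⨆ K ∈ 𝒦, K) = Γ ∧
        ∀ g : (End k M)ˣ, Nil k Γ ((g : End k M) - 1) → g ≠ 1 → ∃ K ∈ 𝒦, g ∈ K := by
  have triv : ∀ Γ : Subgroup (End k M)ˣ, Γ ≤ Subgroup.closure {g : (End k M)ˣ | Nil k Γ ((g : End k M) - 1)} →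
      (∀ u, Nil k Γ u → u = 0) →
      ∃ 𝒦 : Set (Subgroup (End k M)ˣ), (∀ K ∈ 𝒦, IsQuasisimple K ∧
        K ≤ Subgroup.closure {g : (End k M)ˣ | g ∈ K ∧ g ≠ 1 ∧ Nil k Γ ((g : End k M) - 1)}) ∧
        (∀ K ∈ 𝒦, ∀ K' ∈ 𝒦, K ≠ K' → Cm K K') ∧ (⨆ K ∈ 𝒦, K) = Γ ∧
        ∀ g : (End k M)ˣ, Nil k Γ ((g : End k M) - 1) → g ≠ 1 → ∃ K ∈ 𝒦, g ∈ K := by
    intro Γ h1 h
    refine ⟨∅, by simp, by simp, ?_, fun g hg h1 => absurd (h _ hg) (ne_one_iff.1 h1)⟩
    simp only [Set.mem_empty_iff_false, iSup_false, iSup_bot]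
    refine le_antisymm bot_le (h1.trans ((Subgroup.closure_le _).2 (fun g hg => ?_)))
    by_contra e
    exact ne_one_iff.1 e (h _ hg)
  induction n with
  | zero =>
    intro Γ _ h1 h
    refine triv Γ h1 (fun u hu => ?_)
    by_contra e
    exact absurd (h u hu e) (not_lt.2 (Submodule.finrank_le _))
  | succ n ih =>
    intro Γ hc hΓ h
    by_cases h0 : ∀ u, Nil k Γ u → u = 0
    · exact triv Γ hΓ h0
    push Not at h0
    obtain ⟨s, hs, hmin⟩ := (measure (rk (k := k) (M := M))).wf.has_min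
      {u | Nil k Γ u ∧ u ≠ 0} h0
    have hs' : Mn Γ s := ⟨hs.1, hs.2, fun u hu h0 => not_lt.1 (hmin u ⟨hu, h0⟩)⟩
    have hn : ∀ g ∈ G, g • Γ = Γ := fun g hg => smul_eq_of_sup (fun _ ha => smul_eq_of_mem ha)
      (fun _ hb => (cm_iff_le_centralizer.2 le_rfl).smul_eq hb) g (hc hg)
    have ho : ∀ s, Mn Γ s → ∃ d, Mn Γ d ∧ s * d * s ≠ 0 := fun s hs => hs.exists_opp h2 h3 hG hn
    have hQ : Q0 Γ ≤ Γ := (Subgroup.closure_le _).2 (fun g hg => hg.1.mem)
    have hcm := cm_Q0 h2 h3 ho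
    have hnil : ∀ g : (End k M)ˣ, Nil k Γ ((g : End k M) - 1) →
        (∀ s, Mn Γ s → s * ((g : End k M) - 1) * s = 0) → Nil k (Q0 Γ) ((g : End k M) - 1) := by
      intro g hg h0
      refine ⟨hg.1, fun c => ?_⟩
      obtain ⟨x, -, e⟩ := hg.2 c
      refine ⟨x, Subgroup.subset_closure ?_, e⟩
      simp only [Set.mem_setOf_eq, e, add_sub_cancel_left]
      exact ⟨hg.smul c, fun s hs => by rw [mul_smul_comm, smul_mul_assoc, h0 s hs, smul_zero]⟩
    obtain ⟨𝒦, k1, k2, k3, k4⟩ := ih (Q0 Γ) (hc.trans (sup_le ((le_sup_Q0 h2 h3 hΓ).trans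
      (sup_le (le_sup_of_le_right (cm_iff_le_centralizer.1 hcm.symm)) le_sup_left))
      (le_sup_of_le_right (Subgroup.centralizer_le hQ))))
      (Subgroup.closure_mono (fun g hg => hnil g hg.1 hg.2)) (fun u hu h0 => by
        have h1 := h s hs.1 hs.2
        suffices rk s < rk u by omega
        by_contra h4
        have hu' := hs'.of_rk (hu.mono hQ) h0 (not_lt.1 h4)
        obtain ⟨d, hd, e⟩ := ho u hu'
        obtain ⟨a, ha, ea⟩ := hu.exists_unit
        obtain ⟨b, hb, -, eb⟩ := hd.exists_mem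
        have := commute_iff.1 (hcm a ha b (le_gen_of_mem (S := Sig Γ) ⟨d, hd, rfl⟩ hb))
        rw [ea, eb] at this
        exact e (by nlc this * u + d * hu.1))
    have k5 : ∀ K ∈ 𝒦, K ≤ Q0 Γ := fun K hK => k3 ▸ le_gen_of_mem hK
    have k6 : ∀ A ∈ Sig Γ, (⨆ C ∈ comp (Sig Γ) A, C) ≤ ⨆ C ∈ Sig Γ, C := fun A hA =>
      iSup₂_le (fun C hC => le_gen_of_mem (comp_subset hA hC))
    refine ⟨𝒦 ∪ {K | ∃ A ∈ Sig Γ, K = ⨆ C ∈ comp (Sig Γ) A, C}, ?_, ?_, ?_, fun g hg h1 => ?_⟩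
    · rintro K (hK | ⟨A, hA, rfl⟩)
      · exact ⟨(k1 K hK).1, (k1 K hK).2.trans (Subgroup.closure_mono
          (fun g hg => ⟨hg.1, hg.2.1, hg.2.2.mono hQ⟩))⟩
      · refine ⟨Sig.quasisimple h2 h3 hG hn hA, iSup₂_le (fun C hC c hc => ?_)⟩
        by_cases h1 : c = 1
        · rw [h1]; exact one_mem _
        obtain ⟨t, ht, rfl⟩ := comp_subset hA hC
        exact Subgroup.subset_closure ⟨le_gen_of_mem hC hc, h1, (ht.mem_Eg hc h1).1.1⟩
    · rintro K (hK | ⟨A, hA, rfl⟩) K' (hK' | ⟨B, hB, rfl⟩) hne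
      · exact k2 K hK K' hK' hne
      · exact hcm.mono (k5 K hK) (k6 B hB)
      · exact hcm.symm.mono (k6 A hA) (k5 K' hK')
      · exact Sig.cm_comp h2 h3 ho hA hB (fun e => hne (by rw [comp_eq e]))
    · refine le_antisymm (iSup₂_le ?_) ((le_sup_Q0 h2 h3 hΓ).trans (sup_le (iSup₂_le
        (fun A hA => ?_)) ?_))
      · rintro K (hK | ⟨A, hA, rfl⟩)
        · exact (k5 K hK).trans hQ
        · exact (k6 A hA).trans (iSup₂_le (fun C hC => Sig.le hC))
      · exact (le_gen_of_mem (S := comp (Sig Γ) A) (Reach.refl A)).trans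
          (le_gen_of_mem (Or.inr ⟨A, hA, rfl⟩))
      · rw [← k3]
        exact iSup₂_le (fun K hK => le_gen_of_mem (Or.inl hK))
    · rcases mem_comp_or h2 h3 ho hG hc hΓ _ g hg rfl with ⟨A, hA, h4⟩ | h4
      · exact ⟨_, Or.inr ⟨A, hA, rfl⟩, h4⟩
      · obtain ⟨K, hK, h5⟩ := k4 g (hnil g hg h4) h1
        exact ⟨K, Or.inl hK, h5⟩

end Cfsg.Agent.H8.QP
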