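import Cfsg.Agent.H5.Pack

/-! A kernel-friendly checker for coset enumeration certificates. -/

set_option autoImplicit false

namespace Cfsg.Agent.H8.TC

open Cfsg.Agent.H5

def lz (a b : ℕ) : ℕ := Nat.sub (Nat.succ a) b

theorem lt_of_lz {a b : ℕ} (h : lz a b = 0) : a < b := lt_of_sub_succ h

noncomputable def nth (l : List ℕ) : ℕ → ℕ :=
  List.rec (motive := fun _ => ℕ → ℕ) (fun _ => nat_lit 0)
    (fun a _ ih i => Nat.rec (motive := fun _ => ℕ) a (fun j _ => ih j) i) l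

theorem nth_mem (l : List ℕ) (i : ℕ) : nth l i = 0 ∨ nth l i ∈ l := by
  induction l generalizing i with
  | nil => exact Or.inl rfl
  | cons a l ih =>
    cases i with
    | zero => exact Or.inr List.mem_cons_self
    | succ j => exact (ih j).imp id (List.mem_cons_of_mem _)

noncomputable def rot (w o : ℕ) : ℕ :=
  force (Nat.mul (nat_lit 4) o) fun o4 => force (Nat.shiftRight w o4) fun hi =>
    Nat.add hi (Nat.shiftLeft (Nat.mod w (Nat.pow (nat_lit 2) o4))
      (Nat.mul (nat_lit 4) (Nat.succ (Nat.div (Nat.log2 hi) (nat_lit 4)))))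

def fs (e : ℕ) : ℕ := Nat.land e (nat_lit 65535)
def ft (e : ℕ) : ℕ := Nat.land (Nat.shiftRight e (nat_lit 16)) (nat_lit 65535)
def fl (e : ℕ) : ℕ := Nat.land (Nat.shiftRight e (nat_lit 32)) (nat_lit 15)

theorem fl_lt (e : ℕ) : fl e < 16 := Nat.lt_succ_of_le Nat.and_le_right

noncomputable def adv (next : ℕ → ℕ → ℕ) (c nxt W : ℕ) : ℕ :=
  force c fun c => force nxt fun nxt =>
    ifz c (next nxt W)
      (Nat.add (Nat.xor c (Nat.land W (nat_lit 15))) (force (Nat.shiftRight W (nat_lit 4)) (next nxt)))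

noncomputable def walk (F S iv : ℕ → ℕ) (k tgt fin m : ℕ) : ℕ → ℕ → ℕ → ℕ :=
  Nat.rec (motive := fun _ => ℕ → ℕ → ℕ → ℕ)
    (fun _ cur W => Nat.add (Nat.xor cur tgt) (Nat.xor W fin))
    (fun _ ih p cur W => force (S p) fun x => force (Nat.shiftRight x (nat_lit 1)) fun j =>
      force (F j) fun e => force (Nat.succ p) fun p' =>
        Nat.add (lz j k) (ifz (Nat.land x (nat_lit 1))
          (Nat.add (Nat.xor (fs e) cur) (adv (ih p') (fl e) (ft e) W))
          (Nat.add (Nat.xor (ft e) cur) (adv (ih p') (iv (fl e)) (fs e) W)))) m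

noncomputable def chk (F S iv : ℕ → ℕ) (RL : List ℕ) (ns k : ℕ) : ℕ :=
  force (F k) fun e => force (Nat.land (Nat.shiftRight e (nat_lit 36)) (nat_lit 3)) fun kd =>
    ifz kd (Nat.add (Nat.xor (ft e) k) (lz (fs e) k))
      (ifz (Nat.pred kd) (Nat.add (Nat.add (fs e) (ft e)) (lz (fl e) ns))
        (force (ft e) fun tg => force (iv (fl e)) fun fin =>
          force (Nat.land (Nat.shiftRight e (nat_lit 52)) (nat_lit 4095)) fun m =>
          force (Nat.shiftRight e (nat_lit 64)) fun p => force (fs e) fun s =>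
          force (nth RL (Nat.land (Nat.shiftRight e (nat_lit 38)) (nat_lit 63))) fun w =>
          force (rot w (Nat.land (Nat.shiftRight e (nat_lit 44)) (nat_lit 255))) fun W =>
            walk F S iv k tg fin m p s W))

noncomputable def chkC (F C iv : ℕ → ℕ) (N n ng x : ℕ) : ℕ :=
  force (C x) fun y => force (Nat.shiftRight y (nat_lit 1)) fun j => force (F j) fun e =>
    Nat.add (lz j N) (ifz (Nat.land y (nat_lit 1))
      (Nat.add (Nat.add (Nat.xor (fs e) (Nat.div x ng)) (Nat.xor (fl e) (Nat.succ (Nat.mod x ng))))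
        (lz (ft e) n))
      (Nat.add (Nat.add (Nat.xor (ft e) (Nat.div x ng)) (Nat.xor (iv (fl e)) (Nat.succ (Nat.mod x ng))))
        (lz (fs e) n)))

/-- sum of `f` over `[64 a, 64 (a + k))`, restricted to `i < n` -/
noncomputable def blk (f : ℕ → ℕ) (n a k : ℕ) : ℕ :=
  sumTo (fun q => force (Nat.add a q) (s64 (below n fun i => force i f))) k

theorem blk_init (f : ℕ → ℕ) (n : ℕ) : ∀ i < n, i < 64 * 0 → f i = 0 :=
  fun _ _ h => absurd h (Nat.not_lt_zero _)

theorem blk_step {f : ℕ → ℕ} {n a k : ℕ} (h1 : ∀ i < n, i < 64 * a → f i = 0)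
    (h2 : blk f n a k = 0) : ∀ i < n, i < 64 * (a + k) → f i = 0 := fun i hi hi2 => by
  by_cases h : i < 64 * a
  · exact h1 i hi h
  · have h3 : s64 (below n fun i => force i f) (a + (i / 64 - a)) = 0 :=
      sumTo_zero h2 (i / 64 - a) (by omega)
    rw [s64_blk, Finset.sum_eq_zero_iff] at h3
    have h4 := h3 (i % 64) (Finset.mem_range.2 (Nat.mod_lt _ (by norm_num)))
    rwa [show (a + (i / 64 - a)) * 64 + i % 64 = i by omega, below_eq, if_pos hi] at h4

theorem blk_end {f : ℕ → ℕ} {n a : ℕ} (h1 : ∀ i < n, i < 64 * a → f i = 0) (h : n ≤ 64 * a) :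
    ∀ i < n, f i = 0 := fun i hi => h1 i hi (lt_of_lt_of_le hi h)

variable {Γ : Type*} [Group Γ]

/-- the value of a packed word -/
noncomputable def val (lt : ℕ → Γ) (W : ℕ) : Γ := ((Nat.digits 16 W).map lt).prod

theorem val_zero (lt : ℕ → Γ) : val lt 0 = 1 := by simp [val]

theorem val_step {lt : ℕ → Γ} (h0 : lt 0 = 1) (W : ℕ) :
    val lt W = lt (W % 16) * val lt (W / 16) := by
  rcases Nat.eq_zero_or_pos W with rfl | h
  · simp [val, h0]
  · rw [val, Nat.digits_def' (by norm_num) h]; simp [val]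

theorem val_small {lt : ℕ → Γ} (h0 : lt 0 = 1) {c : ℕ} (h : c < 16) : val lt c = lt c := by
  rw [val_step h0, Nat.mod_eq_of_lt h, Nat.div_eq_of_lt h, val_zero, mul_one]

theorem val_append {lt : ℕ → Γ} (h0 : lt 0 = 1) (n a b : ℕ) (h : a < 16 ^ n) :
    val lt (a + 16 ^ n * b) = val lt a * val lt b := by
  induction n generalizing a with
  | zero =>
    obtain rfl : a = 0 := by simpa using h
    simp [val_zero]
  | succ n ih =>
    rw [val_step h0, val_step h0 a, mul_assoc, ← ih (a / 16) (by rw [pow_succ] at h; omega)]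
    congr 2
    · rw [pow_succ]; ring_nf; omega
    · rw [pow_succ, show a + 16 ^ n * 16 * b = a + 16 * (16 ^ n * b) by ring,
        Nat.add_mul_div_left _ _ (by norm_num)]

theorem val_rot {lt : ℕ → Γ} (h0 : lt 0 = 1) {w : ℕ} (h : val lt w = 1) (o : ℕ) :
    val lt (rot w o) = 1 := by
  have e1 : rot w o = w / 16 ^ o + 16 ^ (Nat.log2 (w / 16 ^ o) / 4 + 1) * (w % 16 ^ o) := by
    have : (16 : ℕ) ^ o = 2 ^ (4 * o) := by rw [pow_mul]; norm_num
    change w >>> (4 * o) + (w % 2 ^ (4 * o)) <<< (4 * (Nat.log2 (w >>> (4 * o)) / 4 + 1)) = _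
    rw [Nat.shiftRight_eq_div_pow, Nat.shiftLeft_eq, ← this, mul_comm, pow_mul]; norm_num
  have e2 : w / 16 ^ o < 16 ^ (Nat.log2 (w / 16 ^ o) / 4 + 1) := by
    refine lt_of_lt_of_le Nat.lt_log2_self ?_
    generalize Nat.log2 (w / 16 ^ o) = z
    rw [show (16 : ℕ) = 2 ^ 4 by norm_num, ← pow_mul]
    exact Nat.pow_le_pow_right (by norm_num) (by omega)
  rw [e1, val_append h0 _ _ _ e2]
  rw [← Nat.mod_add_div w (16 ^ o), val_append h0 _ _ _ (Nat.mod_lt _ (by positivity))] at h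
  exact mul_eq_one_comm.1 h

/-- pack a word -/
def pk (l : List ℕ) : ℕ := l.foldr (fun c w => c + 16 * w) 0

theorem val_pk {lt : ℕ → Γ} (h0 : lt 0 = 1) (l : List ℕ) (h : ∀ c ∈ l, c < 16) :
    val lt (pk l) = (l.map lt).prod := by
  induction l with
  | nil => exact val_zero lt
  | cons c l ih =>
    have hc := h c List.mem_cons_self
    have := val_append h0 1 c (pk l) (by simpa using hc)
    rw [pow_one] at this
    rw [List.map_cons, List.prod_cons, ← ih fun d hd => h d (List.mem_cons_of_mem _ hd),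
      ← val_small h0 hc, ← this]
    rfl

/-- coset representatives -/
noncomputable def rep (lt : ℕ → Γ) (F : ℕ → ℕ) (j : ℕ) : Γ :=
  if fs (F j) < j then rep lt F (fs (F j)) * lt (fl (F j)) else 1
termination_by j

theorem rep_zero (lt : ℕ → Γ) (F : ℕ → ℕ) : rep lt F 0 = 1 := by rw [rep]; simp

theorem rep_of_lt (lt : ℕ → Γ) (F : ℕ → ℕ) {j : ℕ} (h : fs (F j) < j) :
    rep lt F j = rep lt F (fs (F j)) * lt (fl (F j)) := by rw [rep, if_pos h]

def Holds (lt : ℕ → Γ) (K : Subgroup Γ) (φ : ℕ → Γ) (i c j : ℕ) : Prop :=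
  φ i * lt c * (φ j)⁻¹ ∈ K

structure Setup (lt : ℕ → Γ) (K : Subgroup Γ) (iv : ℕ → ℕ) (RL : List ℕ) (ns : ℕ) : Prop where
  zero : lt 0 = 1
  iv_lt : ∀ c < 16, iv c < 16
  lt_iv : ∀ c < 16, lt (iv c) = (lt c)⁻¹
  rel : ∀ w ∈ RL, val lt w = 1
  sub : ∀ c < ns, lt c ∈ K

variable {lt : ℕ → Γ} {K : Subgroup Γ} {iv : ℕ → ℕ} {RL : List ℕ} {ns : ℕ}

theorem Holds.symm (H : Setup lt K iv RL ns) {φ : ℕ → Γ} {i c j : ℕ} (hc : c < 16)
    (h : Holds lt K φ i c j) : Holds lt K φ j (iv c) i := by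
  have := K.inv_mem h
  unfold Holds
  rw [H.lt_iv c hc]
  convert this using 1; group

theorem adv_sound (H : Setup lt K iv RL ns) {φ : ℕ → Γ} {next : ℕ → ℕ → ℕ} {x : Γ} {P : Prop}
    (ih : ∀ cur W, next cur W = 0 → x * (val lt W)⁻¹ * (φ cur)⁻¹ ∈ K → P) {c cur nxt W : ℕ}
    (hh : Holds lt K φ cur c nxt) (h : adv next c nxt W = 0)
    (hx : x * (val lt W)⁻¹ * (φ cur)⁻¹ ∈ K) : P := by
  simp only [adv, force_eq, ifz_eq] at h
  have hm := K.mul_mem hx hh
  split_ifs at h with h1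
  · refine ih _ _ h ?_
    rw [h1, H.zero] at hm
    convert hm using 1; group
  · obtain ⟨h2, h3⟩ := add_eq_zero' h
    refine ih _ _ h3 ?_
    have h4 : c = W % 16 := by
      rw [xor_eq_zero' h2]; exact Nat.and_two_pow_sub_one_eq_mod W 4
    have h5 : Nat.shiftRight W 4 = W / 16 := Nat.shiftRight_eq_div_pow W 4
    rw [h5]
    rw [val_step H.zero W, ← h4] at hm
    convert hm using 1; group

theorem walk_sound (H : Setup lt K iv RL ns) {φ : ℕ → Γ} {F S : ℕ → ℕ} {k tgt fin : ℕ}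
    (hF : ∀ j < k, Holds lt K φ (fs (F j)) (fl (F j)) (ft (F j))) (x : Γ) (m : ℕ) :
    ∀ p cur W, walk F S iv k tgt fin m p cur W = 0 → x * (val lt W)⁻¹ * (φ cur)⁻¹ ∈ K →
      x * (val lt fin)⁻¹ * (φ tgt)⁻¹ ∈ K := by
  induction m with
  | zero =>
    intro p cur W h hx
    obtain ⟨h1, h2⟩ := add_eq_zero' h
    rwa [← xor_eq_zero' h1, ← xor_eq_zero' h2]
  | succ m ih =>
    intro p cur W h hx
    change Nat.add (lz (Nat.shiftRight (S p) 1) k) (ifz (Nat.land (S p) 1)
      (Nat.add (Nat.xor (fs (F (Nat.shiftRight (S p) 1))) cur)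
        (adv (walk F S iv k tgt fin m (p + 1)) (fl (F (Nat.shiftRight (S p) 1)))
          (ft (F (Nat.shiftRight (S p) 1))) W))
      (Nat.add (Nat.xor (ft (F (Nat.shiftRight (S p) 1))) cur)
        (adv (walk F S iv k tgt fin m (p + 1)) (iv (fl (F (Nat.shiftRight (S p) 1))))
          (fs (F (Nat.shiftRight (S p) 1))) W))) = 0 at h
    obtain ⟨h1, h2⟩ := add_eq_zero' h
    have h3 := hF _ (lt_of_lz h1)
    rw [ifz_eq] at h2
    split_ifs at h2
    · obtain ⟨h4, h5⟩ := add_eq_zero' h2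
      rw [xor_eq_zero' h4] at h3
      exact adv_sound H (ih (p + 1)) h3 h5 hx
    · obtain ⟨h4, h5⟩ := add_eq_zero' h2
      have h6 := h3.symm H (fl_lt _)
      rw [xor_eq_zero' h4] at h6
      exact adv_sound H (ih (p + 1)) h6 h5 hx

theorem all_hold (H : Setup lt K iv RL ns) {F S : ℕ → ℕ} {N : ℕ}
    (h : ∀ k < N, chk F S iv RL ns k = 0) :
    ∀ k < N, Holds lt K (rep lt F) (fs (F k)) (fl (F k)) (ft (F k)) := by
  intro k
  induction k using Nat.strong_induction_on with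
  | _ k ih =>
    intro hk
    have h1 := h k hk
    simp only [chk, force_eq, ifz_eq] at h1
    split_ifs at h1
    · obtain ⟨h2, h3⟩ := add_eq_zero' h1
      unfold Holds
      rw [xor_eq_zero' h2, rep_of_lt lt F (lt_of_lz h3), mul_inv_cancel]
      exact K.one_mem
    · obtain ⟨h2, h3⟩ := add_eq_zero' h1
      obtain ⟨h4, h5⟩ := add_eq_zero' h2
      unfold Holds
      rw [h4, h5, rep_zero]
      simpa using H.sub _ (lt_of_lz h3)
    · have h2 := walk_sound H (fun j hj => ih j hj (hj.trans hk)) (rep lt F (fs (F k))) _ _ _ _ h1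
        (by
          rw [val_rot H.zero]
          · simp
          · rcases nth_mem RL (Nat.land (Nat.shiftRight (F k) 38) 63) with e | e
            · rw [e, val_zero]
            · exact H.rel _ e)
      rw [val_small H.zero (H.iv_lt _ (fl_lt _)), H.lt_iv _ (fl_lt _), inv_inv] at h2
      exact h2

/-- total collapse -/
theorem mem_of_fact (H : Setup lt K iv RL ns) {F S : ℕ → ℕ} {N : ℕ}
    (h : ∀ k < N, chk F S iv RL ns k = 0) {k : ℕ} (hk : k < N) (h1 : fs (F k) = 0)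
    (h2 : ft (F k) = 0) : lt (fl (F k)) ∈ K := by
  have := all_hold H h k hk
  unfold Holds at this
  rw [h1, h2, rep_zero] at this
  simpa using this

theorem cover (H : Setup lt K iv RL ns) {F S C : ℕ → ℕ} {N n ng : ℕ}
    (h : ∀ k < N, chk F S iv RL ns k = 0) (hC : ∀ x < n * ng, chkC F C iv N n ng x = 0)
    (hn : 0 < n) {X : Set Γ}
    (hX : ∀ g ∈ X, (∃ c < ng, lt (c + 1) = g) ∧ ∃ c < ng, lt (c + 1) = g⁻¹) :
    ∀ g ∈ Subgroup.closure X, ∃ i < n, g * (rep lt F i)⁻¹ ∈ K := by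
  have key : ∀ c < ng, ∀ g : Γ, (∃ i < n, g * (rep lt F i)⁻¹ ∈ K) →
      ∃ i < n, g * lt (c + 1) * (rep lt F i)⁻¹ ∈ K := by
    rintro c hc g ⟨i, hi, hg⟩
    have h1 := hC (c + ng * i) (by nlinarith)
    have e1 : Nat.div (c + ng * i) ng = i := by
      change (c + ng * i) / ng = i
      rw [Nat.add_mul_div_left _ _ (by omega), Nat.div_eq_of_lt hc, zero_add]
    have e2 : Nat.mod (c + ng * i) ng = c := by
      change (c + ng * i) % ng = c
      rw [Nat.add_mul_mod_self_left, Nat.mod_eq_of_lt hc]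
    simp only [chkC, force_eq, ifz_eq, e1, e2] at h1
    obtain ⟨h2, h3⟩ := add_eq_zero' h1
    have h4 := all_hold H h _ (lt_of_lz h2)
    split_ifs at h3
    · obtain ⟨h5, h6⟩ := add_eq_zero' h3
      obtain ⟨h7, h8⟩ := add_eq_zero' h5
      rw [xor_eq_zero' h7, xor_eq_zero' h8] at h4
      refine ⟨_, lt_of_lz h6, ?_⟩
      convert K.mul_mem hg h4 using 1; simp only [Nat.succ_eq_add_one]; group
    · obtain ⟨h5, h6⟩ := add_eq_zero' h3
      obtain ⟨h7, h8⟩ := add_eq_zero' h5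
      have h9 := h4.symm H (fl_lt _)
      rw [xor_eq_zero' h7, xor_eq_zero' h8] at h9
      refine ⟨_, lt_of_lz h6, ?_⟩
      convert K.mul_mem hg h9 using 1; simp only [Nat.succ_eq_add_one]; group
  intro g hg
  induction hg using Subgroup.closure_induction_right with
  | one => exact ⟨0, hn, by rw [rep_zero]; simp⟩
  | mul_right x _ y hy ih =>
    obtain ⟨c, hc, rfl⟩ := (hX y hy).1
    exact key c hc x ih
  | mul_inv_cancel x _ y hy ih =>
    obtain ⟨c, hc, e⟩ := (hX y hy).2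
    rw [← e]
    exact key c hc x ih

theorem card_le_of_cover {L : Subgroup Γ} [Finite K] {n : ℕ} {φ : ℕ → Γ}
    (h : ∀ g ∈ L, ∃ i < n, g * (φ i)⁻¹ ∈ K) : Finite L ∧ Nat.card L ≤ n * Nat.card K := by
  choose f hf hk using h
  let ψ : L → Fin n × K := fun g => (⟨f g.1 g.2, hf _ _⟩, ⟨_, hk g.1 g.2⟩)
  have hψ : Function.Injective ψ := by
    intro g g' e
    have e1 : f g.1 g.2 = f g'.1 g'.2 := congrArg (fun z => z.1.1) e
    have e2 : g.1 * (φ (f g.1 g.2))⁻¹ = g'.1 * (φ (f g'.1 g'.2))⁻¹ := congrArg (fun z => z.2.1) e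
    rw [e1] at e2
    exact Subtype.ext (mul_right_cancel e2)
  refine ⟨Finite.of_injective ψ hψ, ?_⟩
  simpa using Nat.card_le_card_of_injective ψ hψ

end Cfsg.Agent.H8.TC
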